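import Mathlib

/-! Reducedness ascends along flat, formally unramified, essentially finite type maps from a
reduced Noetherian ring. -/

universe u

namespace Groth.Agent.Helper24.EtaleRed

open scoped TensorProduct

theorem isReduced_of_flat_unramified (R S : Type u) [CommRing R] [CommRing S] [Algebra R S]
    [IsNoetherianRing R] [IsReduced R] [Module.Flat R S] [Algebra.FormallyUnramified R S]
    [Algebra.EssFiniteType R S] : IsReduced S := by
  classical
  let ι := {p : Ideal R // p ∈ minimalPrimes R}
  haveI : Finite ι := (minimalPrimes.finite_of_isNoetherianRing R).to_subtype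
  haveI : Fintype ι := Fintype.ofFinite ι
  haveI hprime : ∀ p : ι, p.1.IsPrime := fun p => p.2.1.1
  have hinj : Function.Injective (algebraMap R (∀ p : ι, p.1.ResidueField)) := by
    rw [injective_iff_map_eq_zero]
    intro x hx
    have hmem : ∀ p : ι, x ∈ p.1 := by
      intro p
      have h0 : algebraMap R p.1.ResidueField x = 0 := congrFun hx p
      exact Ideal.algebraMap_residueField_eq_zero.1 h0
    have hrad : x ∈ (⊥ : Ideal R).radical := by
      rw [← Ideal.sInf_minimalPrimes, Ideal.mem_sInf]
      intro p hp
      exact hmem ⟨p, hp⟩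
    have hnil : IsNilpotent x := by
      obtain ⟨n, hn⟩ := hrad
      exact ⟨n, by simpa using hn⟩
    exact hnil.eq_zero
  have h1 : Function.Injective
      (Algebra.TensorProduct.includeRight : S →ₐ[R] (∀ p : ι, p.1.ResidueField) ⊗[R] S) :=
    Algebra.TensorProduct.includeRight_injective hinj
  let e : (∀ p : ι, p.1.ResidueField) ⊗[R] S ≃ₐ[R] ∀ p : ι, (p.1.ResidueField ⊗[R] S) :=
    (Algebra.TensorProduct.comm R _ S).trans
      ((Algebra.TensorProduct.piRight R R S (fun p : ι => p.1.ResidueField)).trans
        (AlgEquiv.piCongrRight (fun p => Algebra.TensorProduct.comm R S p.1.ResidueField)))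
  haveI : ∀ p : ι, IsReduced (p.1.ResidueField ⊗[R] S) := fun p =>
    Algebra.FormallyUnramified.isReduced_of_field p.1.ResidueField (p.1.ResidueField ⊗[R] S)
  haveI : IsReduced ((∀ p : ι, p.1.ResidueField) ⊗[R] S) :=
    isReduced_of_injective e.toRingEquiv e.injective
  exact isReduced_of_injective
    (Algebra.TensorProduct.includeRight : S →ₐ[R] (∀ p : ι, p.1.ResidueField) ⊗[R] S) h1

end Groth.Agent.Helper24.EtaleRed
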