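import Mathlib
import Groth.Agent.Lib.Helper24.EtaleRed

/-!
# Smooth algebras over reduced rings are reduced (no Noetherian hypothesis)
and scheme-theoretic consequences.
-/

set_option autoImplicit false
universe u

namespace Groth.Agent.Helper24.SmoothRed

open TensorProduct

/-- A ring is reduced if it is reduced on a standard open cover. -/
theorem isReduced_of_span_away {B : Type u} [CommRing B] (s : Set B) (hs : Ideal.span s = ⊤)
    (h : ∀ t ∈ s, IsReduced (Localization.Away t)) : IsReduced B := by
  constructor
  intro x hx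
  have key : ∀ t : s, ∃ n : ℕ, (t : B) ^ n * x = 0 := by
    intro t
    haveI := h t t.2
    have h0 : algebraMap B (Localization.Away (t : B)) x = 0 :=
      (hx.map (algebraMap B (Localization.Away (t : B)))).eq_zero
    rw [IsLocalization.map_eq_zero_iff (Submonoid.powers (t : B))] at h0
    obtain ⟨⟨_, n, rfl⟩, hn⟩ := h0
    exact ⟨n, hn⟩
  choose n hn using key
  have htop := Ideal.span_range_pow_eq_top s hs n
  have h1 : (1 : B) ∈ Ideal.span (Set.range fun t : s => (t : B) ^ n t) := by
    rw [htop]; trivial
  have hle : Ideal.span (Set.range fun t : s => (t : B) ^ n t) ≤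
      LinearMap.ker (LinearMap.mulRight B x) := by
    rw [Ideal.span_le]
    rintro _ ⟨t, rfl⟩
    simpa using hn t
  have := hle h1
  simpa using this

/-- Standard smooth over a Noetherian reduced ring is reduced. -/
theorem isReduced_of_isStandardSmooth (A B : Type u) [CommRing A] [CommRing B] [Algebra A B]
    [IsNoetherianRing A] [IsReduced A] [Algebra.IsStandardSmooth A B] : IsReduced B := by
  obtain ⟨ι, σ, _, _, ⟨P⟩⟩ := ‹Algebra.IsStandardSmooth A B›.out
  haveI : Algebra.IsStandardSmoothOfRelativeDimension P.dimension A B :=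
    ⟨_, _, _, ‹_›, P, rfl⟩
  obtain ⟨g, hg⟩ :=
    Algebra.IsStandardSmoothOfRelativeDimension.exists_etale_mvPolynomial P.dimension A B
  algebraize [g.toRingHom]
  exact EtaleRed.isReduced_of_flat_unramified (MvPolynomial (Fin P.dimension) A) B

/-- Smooth over a Noetherian reduced ring is reduced. -/
theorem isReduced_of_smooth_noeth (A B : Type u) [CommRing A] [CommRing B] [Algebra A B]
    [IsNoetherianRing A] [IsReduced A] [Algebra.Smooth A B] : IsReduced B := by
  have hsm : (algebraMap A B).Smooth := RingHom.smooth_algebraMap.mpr inferInstance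
  rw [RingHom.smooth_iff_locally_isStandardSmooth] at hsm
  obtain ⟨s, hs, h⟩ := hsm
  refine isReduced_of_span_away s hs fun t ht => ?_
  exact @isReduced_of_isStandardSmooth A (Localization.Away t) _ _
    ((algebraMap B (Localization.Away t)).comp (algebraMap A B)).toAlgebra _ _ (h t ht)

/-- Smooth over a reduced ring is reduced. -/
theorem isReduced_of_smooth (A B : Type u) [CommRing A] [CommRing B] [Algebra A B]
    [IsReduced A] [Algebra.Smooth A B] : IsReduced B := by
  obtain ⟨A₀, B₀, _, _, hfg, hsm, ⟨e⟩⟩ := Algebra.Smooth.exists_subalgebra_fg ℤ A B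
  haveI : Algebra.FiniteType ℤ A₀ := (Subalgebra.fg_iff_finiteType A₀).mp hfg
  haveI : IsNoetherianRing A₀ := Algebra.FiniteType.isNoetherianRing ℤ A₀
  haveI : IsReduced (B₀ ⊗[A₀] A) := by
    refine IsReduced.tensorProduct_of_flat_of_forall_fg fun D hD => ?_
    haveI : Algebra.FiniteType A₀ D := (Subalgebra.fg_iff_finiteType D).mp hD
    haveI : IsNoetherianRing D := Algebra.FiniteType.isNoetherianRing A₀ D
    haveI : IsReduced D := isReduced_of_injective D.val Subtype.val_injective
    haveI : IsReduced (D ⊗[A₀] B₀) := isReduced_of_smooth_noeth D (D ⊗[A₀] B₀)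
    exact isReduced_of_injective (Algebra.TensorProduct.comm A₀ B₀ D).toRingHom
      (Algebra.TensorProduct.comm A₀ B₀ D).injective
  have e' : B ≃+* (B₀ ⊗[A₀] A) :=
    e.toRingEquiv.trans (Algebra.TensorProduct.comm A₀ A B₀).toRingEquiv
  exact isReduced_of_injective e'.toRingHom e'.injective

end Groth.Agent.Helper24.SmoothRed

namespace Groth.Agent.Helper24.SmoothRed

open AlgebraicGeometry CategoryTheory

/-- A scheme smooth over a reduced scheme is reduced. -/
theorem isReduced_of_smooth_scheme {X Y : Scheme.{u}} (f : X ⟶ Y) [Smooth f] [IsReduced Y] :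
    IsReduced X := by
  haveI : ∀ x : X, _root_.IsReduced (X.presheaf.stalk x) := by
    intro x
    obtain ⟨U, hU, V, hV, hxV, e, -⟩ := Smooth.exists_isStandardSmooth f x
    have hsm : (f.appLE U V e).hom.Smooth := f.smooth_appLE hU hV e
    have hred : _root_.IsReduced Γ(X, V) := by
      algebraize [(f.appLE U V e).hom]
      exact isReduced_of_smooth Γ(Y, U) Γ(X, V)
    letI := X.presheaf.algebra_section_stalk (U := V) ⟨x, hxV⟩
    haveI := hV.isLocalization_stalk ⟨x, hxV⟩
    exact isReduced_localizationPreserves (hV.primeIdealOf ⟨x, hxV⟩).asIdeal.primeCompl _ hred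
  exact isReduced_of_isReduced_stalk X

/-- If `f : X ⟶ S` is flat and `X` is reduced, the stalk of `S` at `f x` is reduced. -/
theorem isReduced_stalk_of_flat {X S : Scheme.{u}} (f : X ⟶ S) [Flat f] [IsReduced X] (x : X) :
    _root_.IsReduced (S.presheaf.stalk (f.base x)) := by
  have hflat : (f.stalkMap x).hom.Flat := Flat.stalkMap f x
  algebraize [(f.stalkMap x).hom]
  haveI : IsLocalHom (algebraMap (S.presheaf.stalk (f.base x)) (X.presheaf.stalk x)) :=
    inferInstanceAs <| IsLocalHom (f.stalkMap x).hom
  haveI : Module.FaithfullyFlat (S.presheaf.stalk (f.base x)) (X.presheaf.stalk x) :=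
    Module.FaithfullyFlat.of_flat_of_isLocalHom
  exact isReduced_of_injective (algebraMap _ (X.presheaf.stalk x))
    (FaithfulSMul.algebraMap_injective _ _)

end Groth.Agent.Helper24.SmoothRed
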