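import Mathlib
import Groth.Agent.H29.RegParam

/-! Regularity along flat local homomorphisms with `m_R S = m_S`. -/

universe u

namespace Groth.Agent.Helper24.EtaleReg

open IsLocalRing

section rel
variable {R S : Type u} [CommRing R] [CommRing S] [Algebra R S] [Module.Flat R S]

/-- Equational criterion of flatness, relative to an ideal (after helper14's `S2138.rel`). -/
lemma rel (I : Ideal R) {ι : Type*} [Fintype ι] (y : ι → R) (τ : ι → S)
    (h : ∑ i, τ i * algebraMap R S (y i) ∈ I.map (algebraMap R S)) :
    ∃ (k : ℕ) (a : ι → Fin k → R) (w : Fin k → S),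
      (∀ i, τ i = ∑ j, algebraMap R S (a i j) * w j) ∧ ∀ j, ∑ i, y i * a i j ∈ I := by
  classical
  have h' : ∑ i, τ i * algebraMap R S (y i) ∈
      Submodule.span S ((algebraMap R S) '' (I : Set R)) := h
  rw [Finsupp.mem_span_image_iff_linearCombination] at h'
  obtain ⟨l, hl, hsum⟩ := h'
  rw [Finsupp.linearCombination_apply, Finsupp.sum] at hsum
  have hrel : ∑ i' : ι ⊕ ↥l.support,
      (Sum.elim y (fun z => -z.1) i') • (Sum.elim τ (fun z => l z.1) i' : S) = 0 := by
    rw [Fintype.sum_sum_type]
    simp only [Sum.elim_inl, Sum.elim_inr, Algebra.smul_def, map_neg, neg_mul]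
    rw [Finset.sum_neg_distrib, Finset.sum_coe_sort l.support (fun z => algebraMap R S z * l z)]
    have h1 : ∑ z ∈ l.support, algebraMap R S z * l z = ∑ i, τ i * algebraMap R S (y i) := by
      rw [← hsum]
      apply Finset.sum_congr rfl
      intro z _
      rw [smul_eq_mul, mul_comm]
    rw [h1]
    have h2 : ∑ i, algebraMap R S (y i) * τ i = ∑ i, τ i * algebraMap R S (y i) :=
      Finset.sum_congr rfl (fun i _ => mul_comm _ _)
    rw [h2, add_neg_cancel]
  obtain ⟨k, a', w, hx, hf⟩ := Module.Flat.isTrivialRelation_of_sum_smul_eq_zero (R := R) (M := S)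
    (f := Sum.elim y (fun z : ↥l.support => -z.1))
    (x := Sum.elim τ (fun z : ↥l.support => l z.1)) hrel
  refine ⟨k, fun i j => a' (Sum.inl i) j, w, ?_, ?_⟩
  · intro i
    have := hx (Sum.inl i)
    simp only [Sum.elim_inl, Algebra.smul_def] at this
    exact this
  · intro j
    have := hf j
    rw [Fintype.sum_sum_type] at this
    simp only [Sum.elim_inl, Sum.elim_inr, neg_mul, Finset.sum_neg_distrib] at this
    rw [add_neg_eq_zero] at this
    rw [this]
    apply Ideal.sum_mem
    intro z _
    apply Ideal.mul_mem_right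
    exact hl z.2

end rel

variable (R S : Type u) [CommRing R] [CommRing S] [Algebra R S] [IsLocalRing R] [IsLocalRing S]
  [IsNoetherianRing R] [IsNoetherianRing S] [IsLocalHom (algebraMap R S)] [Module.Flat R S]

include R in
theorem ringKrullDim_eq_of_map_maximalIdeal
    (hmap : (maximalIdeal R).map (algebraMap R S) = maximalIdeal S) :
    ringKrullDim S = ringKrullDim R := by
  haveI : Algebra.HasGoingDown R S := inferInstance
  haveI : (maximalIdeal S).LiesOver (maximalIdeal R) :=
    ⟨(IsLocalRing.maximalIdeal_comap (algebraMap R S)).symm⟩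
  have h := Ideal.height_eq_height_add_of_liesOver_of_hasGoingDown (maximalIdeal R) (maximalIdeal S)
  rw [hmap, Ideal.map_quotient_self, Ideal.height_bot, add_zero] at h
  rw [← IsLocalRing.maximalIdeal_height_eq_ringKrullDim,
    ← IsLocalRing.maximalIdeal_height_eq_ringKrullDim, h]

theorem linearIndependent_map {s : ℕ} (y : Fin s → maximalIdeal R)
    (hLI : LinearIndependent (ResidueField R) (fun i => (maximalIdeal R).toCotangent (y i)))
    (hmap : (maximalIdeal R).map (algebraMap R S) = maximalIdeal S)
    (z : Fin s → maximalIdeal S) (hz : ∀ i, (z i : S) = algebraMap R S (y i)) :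
    LinearIndependent (ResidueField S) (fun i => (maximalIdeal S).toCotangent (z i)) := by
  classical
  rw [Fintype.linearIndependent_iff]
  intro g hg
  have hsurj : ∀ j, ∃ c : S, IsLocalRing.residue S c = g j :=
    fun j => IsLocalRing.residue_surjective (g j)
  choose b hb using hsurj
  let w : maximalIdeal S := ∑ j, b j • z j
  have hw0 : (maximalIdeal S).toCotangent w = 0 := by
    rw [← hg, map_sum]
    refine Finset.sum_congr rfl (fun j _ => ?_)
    rw [map_smul, ← hb j, ← IsLocalRing.ResidueField.algebraMap_eq, algebraMap_smul]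
  have hw : (w : S) = ∑ j, b j * algebraMap R S (y j) := by
    simp [w, Submodule.coe_sum, hz]
  have hy : (∑ j, b j * algebraMap R S (y j)) ∈ (maximalIdeal R ^ 2).map (algebraMap R S) := by
    rw [Ideal.map_pow, hmap, ← hw]; exact (Ideal.toCotangent_eq_zero _ w).1 hw0
  obtain ⟨k, a, v, hbv, ha⟩ := rel (maximalIdeal R ^ 2) (fun j => ((y j : maximalIdeal R) : R)) b hy
  have hamem : ∀ i j, a i j ∈ maximalIdeal R := by
    intro i j
    have h1 : ∑ i, (IsLocalRing.residue R (a i j)) • (maximalIdeal R).toCotangent (y i) = 0 := by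
      have h2 : (maximalIdeal R).toCotangent (∑ i, a i j • y i) = 0 := by
        rw [Ideal.toCotangent_eq_zero]
        have : ((∑ i, a i j • y i : maximalIdeal R) : R) = ∑ i, (y i : R) * a i j := by
          simp [Submodule.coe_sum, mul_comm]
        rw [this]; exact ha j
      rw [map_sum] at h2
      rw [← h2]
      refine Finset.sum_congr rfl (fun i _ => ?_)
      rw [map_smul, ← IsLocalRing.ResidueField.algebraMap_eq, algebraMap_smul]
    have h3 := (Fintype.linearIndependent_iff.1 hLI) (fun i => IsLocalRing.residue R (a i j)) h1 i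
    exact (IsLocalRing.residue_eq_zero_iff _).1 h3
  intro i
  rw [← hb i, IsLocalRing.residue_eq_zero_iff, hbv i]
  refine Ideal.sum_mem _ (fun j _ => Ideal.mul_mem_right _ _ ?_)
  rw [← hmap]
  exact Ideal.mem_map_of_mem _ (hamem i j)

theorem isRegularLocalRing_iff_of_map_maximalIdeal
    (hmap : (maximalIdeal R).map (algebraMap R S) = maximalIdeal S) :
    IsRegularLocalRing R ↔ IsRegularLocalRing S := by
  classical
  have hdim := ringKrullDim_eq_of_map_maximalIdeal R S hmap
  constructor
  · intro hR
    apply IsRegularLocalRing.of_spanFinrank_maximalIdeal_le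
    have h1 : (maximalIdeal S).spanFinrank ≤ (maximalIdeal R).spanFinrank := by
      rw [← hmap]
      exact Ideal.spanFinrank_map_le_of_fg _ (IsNoetherian.noetherian _)
    calc ((maximalIdeal S).spanFinrank : WithBot ℕ∞)
        ≤ ((maximalIdeal R).spanFinrank : WithBot ℕ∞) := by exact_mod_cast h1
      _ = ringKrullDim R := hR.spanFinrank_maximalIdeal
      _ = ringKrullDim S := hdim.symm
  · intro hS
    apply IsRegularLocalRing.of_spanFinrank_maximalIdeal_le
    rw [IsLocalRing.spanFinrank_maximalIdeal_eq_finrank_cotangentSpace R]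
    set s := Module.finrank (ResidueField R) (CotangentSpace R) with hs
    let bas : Module.Basis (Fin s) (ResidueField R) (CotangentSpace R) :=
      Module.finBasis (ResidueField R) (CotangentSpace R)
    have hsurj : ∀ i, ∃ y : maximalIdeal R, (maximalIdeal R).toCotangent y = bas i :=
      fun i => Ideal.toCotangent_surjective _ (bas i)
    choose y hy using hsurj
    have hLI : LinearIndependent (ResidueField R)
        (fun i => (maximalIdeal R).toCotangent (y i)) := by
      have : (fun i => (maximalIdeal R).toCotangent (y i)) = bas := funext hy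
      rw [this]; exact bas.linearIndependent
    have hzmem : ∀ i, algebraMap R S (y i) ∈ maximalIdeal S := by
      intro i; rw [← hmap]; exact Ideal.mem_map_of_mem _ (y i).2
    let z : Fin s → maximalIdeal S := fun i => ⟨algebraMap R S (y i), hzmem i⟩
    have hLIz := linearIndependent_map R S y hLI hmap z (fun i => rfl)
    obtain ⟨hd, hreg⟩ := Groth.Agent.H29.isRegularLocalRing_quotient_of_linearIndependent S z hLIz
    haveI := hreg
    have h0 : (0 : WithBot ℕ∞) ≤ ringKrullDim (S ⧸ Ideal.span (Set.range fun i => (z i : S))) :=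
      ringKrullDim_nonneg_of_nontrivial
    calc ((s : ℕ) : WithBot ℕ∞)
        ≤ ringKrullDim (S ⧸ Ideal.span (Set.range fun i => (z i : S))) + (s : WithBot ℕ∞) :=
          le_add_of_nonneg_left h0
      _ = ringKrullDim S := hd
      _ = ringKrullDim R := hdim

end Groth.Agent.Helper24.EtaleReg
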