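import Mathlib
import Groth.Agent.S9246
import Groth.Agent.Lib.Helper24.SmoothRed

/-!
# Smooth algebras over regular rings are regular
-/

universe u

namespace Groth.Agent.Helper24.SmoothReg

open TensorProduct

/-- transfer of regularity through a localization -/
theorem transferReg (A : Type u) [CommRing A] (S : Submonoid A) (q : Ideal A) [q.IsPrime]
    (hdisj : Disjoint (S : Set A) (q : Set A)) (A' : Type u) [CommRing A'] [Algebra A A']
    [IsLocalization S A']
    (h : ∀ (Q : Ideal A') [Q.IsPrime], Q.comap (algebraMap A A') = q →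
      IsRegularLocalRing (Localization.AtPrime Q))
    (Aq : Type u) [CommRing Aq] [Algebra A Aq] [IsLocalization.AtPrime Aq q] :
    IsRegularLocalRing Aq := by
  let q' : Ideal A' := q.map (algebraMap A A')
  haveI hq' : q'.IsPrime := IsLocalization.isPrime_of_isPrime_disjoint S _ _ ‹_› hdisj
  have hcomap : q'.comap (algebraMap A A') = q :=
    IsLocalization.under_map_of_isPrime_disjoint S _ ‹_› hdisj
  haveI hreg := h q' hcomap
  haveI h1 : IsLocalization.AtPrime (Localization.AtPrime q') (q'.comap (algebraMap A A')) :=
    IsLocalization.isLocalization_isLocalization_atPrime_isLocalization S _ q'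
  have hM : (q'.comap (algebraMap A A')).primeCompl = q.primeCompl :=
    Submonoid.ext fun a => by
      show a ∉ q'.comap (algebraMap A A') ↔ a ∉ q
      rw [hcomap]
  haveI h2 : IsLocalization q.primeCompl (Localization.AtPrime q') := by
    have h1' : IsLocalization (q'.comap (algebraMap A A')).primeCompl
      (Localization.AtPrime q') := h1
    rw [hM] at h1'
    exact h1'
  let e : Localization.AtPrime q' ≃ₐ[A] Aq := IsLocalization.algEquiv q.primeCompl _ _
  exact IsRegularLocalRing.of_ringEquiv e.toRingEquiv

theorem etale_over_poly_reg {A : Type u} [CommRing A] [IsRegularRing A] (n : ℕ)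
    (Bg : Type u) [CommRing Bg] [Algebra (MvPolynomial (Fin n) A) Bg]
    [Algebra.Etale (MvPolynomial (Fin n) A) Bg] (Q : Ideal Bg) [Q.IsPrime] :
    IsRegularLocalRing (Localization.AtPrime Q) := by
  haveI : IsRegularRing (MvPolynomial (Fin n) A) := inferInstance
  exact (Groth.Agent.S9246.result (MvPolynomial (Fin n) A) Bg Q).mp inferInstance

theorem smooth_regular_loc (A B : Type u) [CommRing A] [CommRing B] [Algebra A B]
    [Algebra.Smooth A B] [IsRegularRing A] (q : Ideal B) [q.IsPrime] :
    IsRegularLocalRing (Localization.AtPrime q) := by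
  obtain ⟨g, hgq, n, alg, tower, hstd⟩ :=
    Algebra.IsSmoothAt.exists_isStandardEtale_mvPolynomial (R := A) (p := q)
  have hdisj : Disjoint ((Submonoid.powers g : Submonoid B) : Set B) (q : Set B) :=
    (Ideal.disjoint_powers_iff_notMem_of_isPrime _).mpr hgq
  refine transferReg B (Submonoid.powers g) q hdisj (Localization.Away g) ?_
    (Localization.AtPrime q)
  intro Q _ _
  exact etale_over_poly_reg (A := A) n (Localization.Away g) Q

/-- A smooth algebra over a regular ring is a regular ring. -/
theorem smooth_regular (A B : Type u) [CommRing A] [CommRing B] [Algebra A B]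
    [Algebra.Smooth A B] [IsRegularRing A] : IsRegularRing B := by
  haveI : IsNoetherianRing A := inferInstance
  haveI : Algebra.FiniteType A B := inferInstance
  haveI : IsNoetherianRing B := Algebra.FiniteType.isNoetherianRing A B
  rw [isRegularRing_iff]
  intro q _
  exact smooth_regular_loc A B q

open AlgebraicGeometry CategoryTheory

/-- If `f : X ⟶ Spec k` is smooth with `k` a field, the stalks of `X` are regular local rings. -/
theorem isRegularLocalRing_stalk_of_smooth_field (k : Type u) [Field k] {X : Scheme.{u}}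
    (f : X ⟶ Spec (CommRingCat.of k)) [Smooth f] (x : X) :
    IsRegularLocalRing (X.presheaf.stalk x) := by
  obtain ⟨_, ⟨V, hV, rfl⟩, hxV, -⟩ :=
    X.isBasis_affineOpens.exists_subset_of_mem_open (Set.mem_univ x) isOpen_univ
  have hVU : V ≤ f ⁻¹ᵁ ⊤ := fun _ _ => trivial
  have hsm : (f.appLE ⊤ V hVU).hom.Smooth :=
    f.smooth_appLE (isAffineOpen_top _) hV hVU
  algebraize [(f.appLE ⊤ V hVU).hom]
  haveI : IsRegularRing k := inferInstance
  haveI : IsRegularRing Γ(Spec (CommRingCat.of k), ⊤) :=
    IsRegularRing.of_ringEquiv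
      (Scheme.ΓSpecIso (CommRingCat.of k)).symm.commRingCatIsoToRingEquiv
  haveI : IsRegularRing Γ(X, V) := smooth_regular Γ(Spec (CommRingCat.of k), ⊤) Γ(X, V)
  letI := X.presheaf.algebra_section_stalk (U := V) ⟨x, hxV⟩
  haveI := hV.isLocalization_stalk ⟨x, hxV⟩
  let q := (hV.primeIdealOf ⟨x, hxV⟩).asIdeal
  let eX : Localization.AtPrime q ≃ₐ[Γ(X, V)] X.presheaf.stalk x :=
    IsLocalization.algEquiv q.primeCompl _ _
  exact IsRegularLocalRing.of_ringEquiv eX.toRingEquiv

/-- Smooth morphisms are geometrically reduced. -/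
theorem geometricallyReduced_of_smooth {X Y : Scheme.{u}} (f : X ⟶ Y) [Smooth f] :
    GeometricallyReduced f := by
  refine ⟨fun K _ y Z fst snd h => ?_⟩
  haveI : Smooth snd := MorphismProperty.of_isPullback (P := @Smooth) h inferInstance
  exact Groth.Agent.Helper24.SmoothRed.isReduced_of_smooth_scheme snd

end Groth.Agent.Helper24.SmoothReg
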