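import Mathlib
import Groth.Agent.H29.RegLocal3
import Groth.Agent.H29.RegParam
import Groth.Agent.Lib.Helper24.SmoothReg

/-!
# Regular local rings with separable residue field are smooth (finite type over a field)

Main results: `regular_of_smoothAt` and `smoothAt_of_regular`.
-/

set_option autoImplicit false

universe u

namespace Groth.Agent.Helper24.RegSmoothAt

open IsLocalRing TensorProduct KaehlerDifferential

theorem natCast_le' {a b : ℕ} : (a : WithBot ℕ∞) ≤ b ↔ a ≤ b := by
  rw [← WithBot.coe_natCast, ← WithBot.coe_natCast, WithBot.coe_le_coe, Nat.cast_le]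

theorem natCast_inj' {a b : ℕ} (h : (a : WithBot ℕ∞) = b) : a = b := by
  rw [← WithBot.coe_natCast, ← WithBot.coe_natCast, WithBot.coe_inj] at h
  exact_mod_cast h

/-- If `J ≤ m²`, the maximal ideal of `P` needs no more generators than that of `P/J`. -/
theorem spanFinrank_le_of_le_sq (P : Type u) [CommRing P] [IsLocalRing P] [IsNoetherianRing P]
    (J : Ideal P) [IsLocalRing (P ⧸ J)] (hJ : J ≤ maximalIdeal P ^ 2) :
    (maximalIdeal P).spanFinrank ≤ (maximalIdeal (P ⧸ J)).spanFinrank := by
  classical
  have hfg : (maximalIdeal (P ⧸ J)).FG := IsNoetherian.noetherian _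
  obtain ⟨T, hTcard, hTspan⟩ := Submodule.FG.exists_span_finset_card_eq_spanFinrank hfg
  let lift : P ⧸ J → P := Function.surjInv Ideal.Quotient.mk_surjective
  have hlift : ∀ t, Ideal.Quotient.mk J (lift t) = t :=
    Function.surjInv_eq Ideal.Quotient.mk_surjective
  let T' : Finset P := T.image lift
  have hmap : (maximalIdeal P).map (Ideal.Quotient.mk J) = maximalIdeal (P ⧸ J) :=
    Groth.Agent.H29.map_mk_maximalIdeal P J
  have hT'm : Ideal.span (T' : Set P) ≤ maximalIdeal P := by
    rw [Ideal.span_le]
    intro y hy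
    obtain ⟨t, ht, rfl⟩ := Finset.mem_image.mp (Finset.mem_coe.mp hy)
    have htm : t ∈ maximalIdeal (P ⧸ J) := by
      rw [← hTspan]; exact Submodule.subset_span (Finset.mem_coe.mpr ht)
    rw [SetLike.mem_coe, mem_maximalIdeal, mem_nonunits_iff]
    intro hu
    have hu' : IsUnit (Ideal.Quotient.mk J (lift t)) := hu.map (Ideal.Quotient.mk J)
    rw [hlift t] at hu'
    exact (mem_maximalIdeal _).mp htm hu'
  have himage : (Ideal.Quotient.mk J) '' (T' : Set P) = (T : Set (P ⧸ J)) := by
    ext z
    simp only [T', Finset.coe_image, Set.mem_image, Finset.mem_coe]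
    constructor
    · rintro ⟨_, ⟨t, ht, rfl⟩, rfl⟩
      rw [hlift t]; exact ht
    · intro hz
      exact ⟨lift z, ⟨z, hz, rfl⟩, hlift z⟩
  have hle : maximalIdeal P ≤ Ideal.span (T' : Set P) ⊔ J := by
    intro y hy
    have h1 : Ideal.Quotient.mk J y ∈ (Ideal.span (T' : Set P)).map (Ideal.Quotient.mk J) := by
      rw [Ideal.map_span, himage]
      have h2 : Ideal.Quotient.mk J y ∈ maximalIdeal (P ⧸ J) := by
        rw [← hmap]; exact Ideal.mem_map_of_mem _ hy
      rw [← hTspan] at h2
      exact h2
    obtain ⟨z, hz, hzy⟩ :=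
      (Ideal.mem_map_iff_of_surjective _ Ideal.Quotient.mk_surjective).mp h1
    have h3 : y - z ∈ J := by
      rw [← Ideal.Quotient.eq]; exact hzy.symm
    have h4 : y = z + (y - z) := by ring
    rw [h4]
    exact Ideal.add_mem _ (Ideal.mem_sup_left hz) (Ideal.mem_sup_right h3)
  have hnak : maximalIdeal P ≤ Ideal.span (T' : Set P) := by
    apply Submodule.le_of_le_smul_of_le_jacobson_bot (I := maximalIdeal P)
      (IsNoetherian.noetherian _)
    · exact (IsLocalRing.jacobson_eq_maximalIdeal ⊥ bot_ne_top).ge
    · refine hle.trans (sup_le_sup_left ?_ _)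
      rw [smul_eq_mul, ← sq]; exact hJ
  have heq : maximalIdeal P = Ideal.span (T' : Set P) := le_antisymm hnak hT'm
  calc (maximalIdeal P).spanFinrank = (Ideal.span (T' : Set P)).spanFinrank := by rw [← heq]
    _ ≤ (T' : Set P).ncard := Submodule.spanFinrank_span_le_ncard_of_finite T'.finite_toSet
    _ = T'.card := Set.ncard_coe_finset T'
    _ ≤ T.card := Finset.card_image_le
    _ = _ := hTcard

/-- A regular quotient of a regular local ring by an ideal inside `m²` is trivial. -/
theorem eq_bot_of_le_sq (P : Type u) [CommRing P] [IsRegularLocalRing P] (J : Ideal P)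
    [IsRegularLocalRing (P ⧸ J)] (hJ : J ≤ maximalIdeal P ^ 2) : J = ⊥ := by
  haveI : IsDomain P := Groth.Agent.H29.isDomain_of_isRegularLocalRing P
  by_contra hne
  obtain ⟨r, hrJ, hr0⟩ := Submodule.exists_mem_ne_zero_of_ne_bot hne
  have hJtop : J ≠ ⊤ := Ideal.Quotient.nontrivial_iff.mp inferInstance
  have hrtop : Ideal.span {r} ≠ ⊤ := fun h =>
    hJtop (top_le_iff.mp (h.ge.trans ((Ideal.span_singleton_le_iff_mem J).mpr hrJ)))
  haveI : IsLocalRing (P ⧸ Ideal.span {r}) :=
    Groth.Agent.H29.isLocalRing_quotient_of_ne_top P _ hrtop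
  have h1 := spanFinrank_le_of_le_sq P J hJ
  obtain ⟨a, ha⟩ := Groth.Agent.H29.ringKrullDim_eq_natCast_of_isLocalRing P
  obtain ⟨b, hb⟩ := Groth.Agent.H29.ringKrullDim_eq_natCast_of_isLocalRing (P ⧸ J)
  obtain ⟨c, hc⟩ := Groth.Agent.H29.ringKrullDim_eq_natCast_of_isLocalRing (P ⧸ Ideal.span {r})
  have hab : a ≤ b := by
    have e1 := IsRegularLocalRing.spanFinrank_maximalIdeal (R := P)
    have e2 := IsRegularLocalRing.spanFinrank_maximalIdeal (R := P ⧸ J)
    rw [ha] at e1; rw [hb] at e2
    have e1' := natCast_inj' e1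
    have e2' := natCast_inj' e2
    omega
  have h3 : ringKrullDim (P ⧸ Ideal.span {r}) + 1 ≤ ringKrullDim P :=
    ringKrullDim_quotient_succ_le_of_nonZeroDivisor (mem_nonZeroDivisors_of_ne_zero hr0)
  have h4 : ringKrullDim (P ⧸ J) ≤ ringKrullDim (P ⧸ Ideal.span {r}) :=
    ringKrullDim_le_of_surjective
      (Ideal.Quotient.factor ((Ideal.span_singleton_le_iff_mem J).mpr hrJ))
      (Ideal.Quotient.factor_surjective _)
  rw [hc, ha] at h3
  rw [hb, hc] at h4
  have h3' : c + 1 ≤ a := by
    have : ((c + 1 : ℕ) : WithBot ℕ∞) ≤ a := by push_cast; exact h3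
    exact natCast_le'.mp this
  have h4' : b ≤ c := natCast_le'.mp h4
  omega

theorem inter_sq_le_aux (d : ℕ) : ∀ (P : Type u) [CommRing P] [IsRegularLocalRing P]
    (J : Ideal P) [IsRegularLocalRing (P ⧸ J)], ringKrullDim P = d →
    J ⊓ maximalIdeal P ^ 2 ≤ maximalIdeal P * J := by
  induction d using Nat.strong_induction_on with
  | _ d ih =>
    intro P _ _ J _ hd
    have hJtop : J ≠ ⊤ := Ideal.Quotient.nontrivial_iff.mp inferInstance
    have hJm : J ≤ maximalIdeal P := le_maximalIdeal hJtop
    by_cases hJ : J ≤ maximalIdeal P ^ 2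
    · rw [eq_bot_of_le_sq P J hJ]
      exact inf_le_left.trans bot_le
    · obtain ⟨x, hxJ, hx2⟩ := SetLike.not_le_iff_exists.mp hJ
      have hxm : x ∈ maximalIdeal P := hJm hxJ
      obtain ⟨hreg', hdim⟩ :=
        Groth.Agent.H29.isRegularLocalRing_quotient_span_singleton P x hxm hx2
      haveI := hreg'
      obtain ⟨d', hd'⟩ :=
        Groth.Agent.H29.ringKrullDim_eq_natCast_of_isLocalRing (P ⧸ Ideal.span {x})
      have hlt : d' < d := by
        rw [hd', hd] at hdim
        have : ((d' + 1 : ℕ) : WithBot ℕ∞) = d := by push_cast; exact hdim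
        have := natCast_inj' this
        omega
      have hIJ : Ideal.span {x} ≤ J := (Ideal.span_singleton_le_iff_mem J).mpr hxJ
      haveI : IsRegularLocalRing
          ((P ⧸ Ideal.span {x}) ⧸ J.map (Ideal.Quotient.mk (Ideal.span {x}))) :=
        IsRegularLocalRing.of_ringEquiv (DoubleQuot.quotQuotEquivQuotOfLE hIJ).symm
      have key := ih d' hlt (P ⧸ Ideal.span {x}) (J.map (Ideal.Quotient.mk (Ideal.span {x}))) hd'
      have hm' : (maximalIdeal P).map (Ideal.Quotient.mk (Ideal.span {x})) =
          maximalIdeal (P ⧸ Ideal.span {x}) :=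
        Groth.Agent.H29.map_mk_maximalIdeal P (Ideal.span {x})
      rintro y ⟨hyJ, hy2⟩
      have h1 : Ideal.Quotient.mk (Ideal.span {x}) y ∈
          J.map (Ideal.Quotient.mk (Ideal.span {x})) ⊓
            maximalIdeal (P ⧸ Ideal.span {x}) ^ 2 := by
        refine ⟨Ideal.mem_map_of_mem _ hyJ, ?_⟩
        rw [← hm', ← Ideal.map_pow]
        exact Ideal.mem_map_of_mem _ hy2
      have h2 := key h1
      rw [← hm', ← Ideal.map_mul] at h2
      obtain ⟨z, hz, hzy⟩ :=
        (Ideal.mem_map_iff_of_surjective _ Ideal.Quotient.mk_surjective).mp h2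
      have h3 : y - z ∈ Ideal.span {x} := by
        rw [← Ideal.Quotient.eq]; exact hzy.symm
      obtain ⟨a, ha⟩ := Ideal.mem_span_singleton'.mp h3
      have hz2 : z ∈ maximalIdeal P ^ 2 := by
        rw [sq]; exact Ideal.mul_mono_right hJm hz
      have hax : a * x ∈ maximalIdeal P ^ 2 := by
        rw [ha]; exact Ideal.sub_mem _ hy2 hz2
      have ham : a ∈ maximalIdeal P := by
        by_contra hna
        have hu : IsUnit a := by
          rwa [mem_maximalIdeal, mem_nonunits_iff, not_not] at hna
        exact hx2 ((Ideal.unit_mul_mem_iff_mem _ hu).mp hax)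
      have h4 : y = z + a * x := by rw [ha]; ring
      rw [h4]
      exact Ideal.add_mem _ hz (Ideal.mul_mem_mul ham hxJ)

/-- If `P` and `P/J` are regular local rings, then `J ∩ m² ⊆ mJ`. -/
theorem inter_sq_le (P : Type u) [CommRing P] [IsRegularLocalRing P] (J : Ideal P)
    [IsRegularLocalRing (P ⧸ J)] : J ⊓ maximalIdeal P ^ 2 ≤ maximalIdeal P * J := by
  obtain ⟨d, hd⟩ := Groth.Agent.H29.ringKrullDim_eq_natCast_of_isLocalRing P
  exact inter_sq_le_aux d P J hd

theorem injective_lTensor_inclusion {R : Type*} [CommRing R] (𝔞 : Ideal R) {E : Type*}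
    [AddCommGroup E] [Module R E] (M N : Submodule R E) (h : M ≤ N)
    (hMN : M ⊓ 𝔞 • N ≤ 𝔞 • M) :
    Function.Injective ((Submodule.inclusion h).lTensor (R ⧸ 𝔞)) := by
  let eM := TensorProduct.quotTensorEquivQuotSMul M 𝔞
  let eN := TensorProduct.quotTensorEquivQuotSMul N 𝔞
  have hcomap : (𝔞 • (⊤ : Submodule R M)) ≤
      (𝔞 • (⊤ : Submodule R N)).comap (Submodule.inclusion h) := by
    rw [← Submodule.map_le_iff_le_comap, Submodule.map_smul'', Submodule.map_top]
    exact Submodule.smul_mono le_rfl le_top
  let φ := Submodule.mapQ _ _ (Submodule.inclusion h) hcomap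
  have hnat : eN.toLinearMap ∘ₗ (Submodule.inclusion h).lTensor (R ⧸ 𝔞) =
      φ ∘ₗ eM.toLinearMap := by
    apply TensorProduct.ext'
    intro a m
    obtain ⟨r, rfl⟩ := Ideal.Quotient.mk_surjective a
    simp [eM, eN, φ]
  have hφ : Function.Injective φ := by
    rw [← LinearMap.ker_eq_bot, LinearMap.ker_eq_bot']
    intro y hy
    obtain ⟨m, rfl⟩ := Submodule.Quotient.mk_surjective _ y
    rw [Submodule.mapQ_apply, Submodule.Quotient.mk_eq_zero] at hy
    rw [Submodule.Quotient.mk_eq_zero]
    rw [Submodule.mem_smul_top_iff] at hy ⊢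
    exact hMN ⟨m.2, hy⟩
  have h1 : Function.Injective (⇑φ ∘ ⇑eM) := hφ.comp eM.injective
  have h2 : ⇑eN ∘ ⇑((Submodule.inclusion h).lTensor (R ⧸ 𝔞)) = ⇑φ ∘ ⇑eM := by
    ext t
    exact congr($(hnat) t)
  rw [← h2] at h1
  exact Function.Injective.of_comp h1

/-- Jacobian criterion + regularity: a regular quotient of a formally smooth regular local
`k`-algebra with formally smooth residue field is formally smooth. -/
theorem formallySmooth_quotient (k : Type u) [Field k] (P : Type u) [CommRing P] [Algebra k P]
    [IsRegularLocalRing P] [Algebra.FormallySmooth k P] [Module.Free P Ω[P⁄k]]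
    [Module.Finite P Ω[P⁄k]] (J : Ideal P) [IsRegularLocalRing (P ⧸ J)]
    [Algebra.FormallySmooth k (ResidueField P)] : Algebra.FormallySmooth k (P ⧸ J) := by
  have hJtop : J ≠ ⊤ := Ideal.Quotient.nontrivial_iff.mp inferInstance
  have hJm : J ≤ maximalIdeal P := le_maximalIdeal hJtop
  letI : Algebra (P ⧸ J) (ResidueField P) := (Ideal.Quotient.factor hJm).toAlgebra
  haveI : IsScalarTower P (P ⧸ J) (ResidueField P) := IsScalarTower.of_algebraMap_eq' rfl
  have h₁ : Function.Surjective (algebraMap P (P ⧸ J)) := Ideal.Quotient.mk_surjective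
  have h₂ : (RingHom.ker (algebraMap P (P ⧸ J))).FG := IsNoetherian.noetherian _
  have h₃ : maximalIdeal (P ⧸ J) ≤ RingHom.ker (algebraMap (P ⧸ J) (ResidueField P)) := by
    intro y hy
    obtain ⟨z, rfl⟩ := Ideal.Quotient.mk_surjective y
    rw [RingHom.mem_ker]
    show Ideal.Quotient.factor hJm (Ideal.Quotient.mk J z) = 0
    rw [Ideal.Quotient.factor_mk, Ideal.Quotient.eq_zero_iff_mem]
    by_contra hz
    have hu : IsUnit z := by
      rwa [mem_maximalIdeal, mem_nonunits_iff, not_not] at hz
    exact (mem_maximalIdeal _).mp hy (hu.map (Ideal.Quotient.mk J))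
  rw [Algebra.FormallySmooth.iff_injective_cotangentComplexBaseChange (R := k) (S := P ⧸ J)
    P (ResidueField P) h₁ h₂ h₃]
  have h₁' : Function.Surjective (algebraMap P (ResidueField P)) := residue_surjective
  have h₂' : (RingHom.ker (algebraMap P (ResidueField P))).FG := IsNoetherian.noetherian _
  have h₃' : maximalIdeal (ResidueField P) ≤
      RingHom.ker (algebraMap (ResidueField P) (ResidueField P)) := by
    rw [IsLocalRing.maximalIdeal_eq_bot]; exact bot_le
  have inj2 := (Algebra.FormallySmooth.iff_injective_cotangentComplexBaseChange (R := k)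
    (S := ResidueField P) P (ResidueField P) h₁' h₂' h₃').mp inferInstance
  have hker1 : RingHom.ker (algebraMap P (P ⧸ J)) = J := Ideal.mk_ker
  have hker2 : RingHom.ker (algebraMap P (ResidueField P)) = maximalIdeal P := ker_residue
  have hle : RingHom.ker (algebraMap P (P ⧸ J)) ≤ RingHom.ker (algebraMap P (ResidueField P)) := by
    rw [hker1, hker2]; exact hJm
  have hincl := injective_lTensor_inclusion (maximalIdeal P)
    (RingHom.ker (algebraMap P (P ⧸ J))) (RingHom.ker (algebraMap P (ResidueField P))) hle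
    (by rw [hker1, hker2, smul_eq_mul, smul_eq_mul, ← sq]; exact inter_sq_le P J)
  have hfac : ⇑(cotangentComplexBaseChange k (P ⧸ J) P (ResidueField P)) =
      ⇑(cotangentComplexBaseChange k (ResidueField P) P (ResidueField P)) ∘
        ⇑((Submodule.inclusion hle).lTensor (ResidueField P)) := by
    ext t
    induction t using TensorProduct.induction_on with
    | zero => simp only [Function.comp_apply, map_zero]
    | tmul a b => rfl
    | add a b ha hb =>
      simp only [map_add, Function.comp_apply] at ha hb ⊢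
      rw [ha, hb]
  rw [hfac]
  exact inj2.comp hincl

/-- Smooth at `q` over a field implies the local ring at `q` is regular. -/
theorem regular_of_smoothAt (k : Type u) [Field k] (S : Type u) [CommRing S] [Algebra k S]
    [Algebra.FiniteType k S] (q : Ideal S) [q.IsPrime] (h : Algebra.IsSmoothAt k q) :
    IsRegularLocalRing (Localization.AtPrime q) := by
  haveI : Algebra.FinitePresentation k S :=
    Algebra.FinitePresentation.of_finiteType.mp inferInstance
  haveI := h
  obtain ⟨r, hrq, hr⟩ := Algebra.IsSmoothAt.exists_notMem_smooth k q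
  haveI := hr
  haveI : IsRegularRing k := inferInstance
  haveI : IsRegularRing (Localization.Away r) :=
    Groth.Agent.Helper24.SmoothReg.smooth_regular k _
  have hdisj : Disjoint ((Submonoid.powers r : Submonoid S) : Set S) (q : Set S) :=
    (Ideal.disjoint_powers_iff_notMem_of_isPrime _).mpr hrq
  exact Groth.Agent.Helper24.SmoothReg.transferReg S (Submonoid.powers r) q hdisj
    (Localization.Away r) (fun Q _ _ => inferInstance) (Localization.AtPrime q)

/-- A finite type algebra over a field is smooth at a prime whose local ring is regular and whose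
residue field is formally smooth over the base field. -/
theorem smoothAt_of_regular (k : Type u) [Field k] (S : Type u) [CommRing S] [Algebra k S]
    [Algebra.FiniteType k S] (q : Ideal S) [q.IsPrime]
    [IsRegularLocalRing (Localization.AtPrime q)]
    [Algebra.FormallySmooth k q.ResidueField] : Algebra.IsSmoothAt k q := by
  obtain ⟨n, φ, hφ⟩ := Algebra.FiniteType.iff_quotient_mvPolynomial''.mp
    (inferInstance : Algebra.FiniteType k S)
  let p : Ideal (MvPolynomial (Fin n) k) := q.comap (φ : MvPolynomial (Fin n) k →+* S)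
  haveI : p.IsPrime := Ideal.comap_isPrime _ _
  let ψ : Localization.AtPrime p →+* Localization.AtPrime q :=
    Localization.localRingHom p q (φ : MvPolynomial (Fin n) k →+* S) rfl
  have hψ : Function.Surjective ψ :=
    RingHom.surjective_localRingHom_of_surjective (φ : MvPolynomial (Fin n) k →+* S) hφ q
  have hψk : ∀ c : k, ψ (algebraMap k (Localization.AtPrime p) c) =
      algebraMap k (Localization.AtPrime q) c := by
    intro c
    rw [IsScalarTower.algebraMap_apply k (MvPolynomial (Fin n) k) (Localization.AtPrime p)]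
    show Localization.localRingHom p q (φ : MvPolynomial (Fin n) k →+* S) rfl _ = _
    rw [Localization.localRingHom_to_map]
    show algebraMap S (Localization.AtPrime q) (φ (algebraMap k _ c)) = _
    rw [φ.commutes, ← IsScalarTower.algebraMap_apply]
  let ψa : Localization.AtPrime p →ₐ[k] Localization.AtPrime q :=
    { ψ with commutes' := hψk }
  have hψa : Function.Surjective ψa := hψ
  let e : (Localization.AtPrime p ⧸ RingHom.ker ψa) ≃ₐ[k] Localization.AtPrime q :=
    Ideal.quotientKerAlgEquivOfSurjective hψa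
  haveI : IsRegularLocalRing (Localization.AtPrime p ⧸ RingHom.ker ψa) :=
    IsRegularLocalRing.of_ringEquiv e.symm.toRingEquiv
  haveI : IsRegularRing k := inferInstance
  haveI : IsRegularRing (MvPolynomial (Fin n) k) := inferInstance
  haveI : IsRegularLocalRing (Localization.AtPrime p) := inferInstance
  haveI : Algebra.FormallyEtale (MvPolynomial (Fin n) k) (Localization.AtPrime p) :=
    .of_isLocalization p.primeCompl
  haveI : Algebra.FormallySmooth k (Localization.AtPrime p) :=
    .comp k (MvPolynomial (Fin n) k) _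
  haveI : Module.Free (Localization.AtPrime p) Ω[Localization.AtPrime p⁄k] :=
    .of_equiv (KaehlerDifferential.tensorKaehlerEquivOfFormallyEtale k
      (MvPolynomial (Fin n) k) (Localization.AtPrime p))
  haveI : Module.Finite (Localization.AtPrime p) Ω[Localization.AtPrime p⁄k] :=
    Module.Finite.equiv (KaehlerDifferential.tensorKaehlerEquivOfFormallyEtale k
      (MvPolynomial (Fin n) k) (Localization.AtPrime p))
  haveI : IsLocalHom ψ := Localization.isLocalHom_localRingHom _ _ _ rfl
  let ρ : ResidueField (Localization.AtPrime p) →+* ResidueField (Localization.AtPrime q) :=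
    IsLocalRing.ResidueField.map ψ
  have hρs : Function.Surjective ρ := by
    intro y
    obtain ⟨y', rfl⟩ := residue_surjective y
    obtain ⟨z, rfl⟩ := hψ y'
    exact ⟨residue _ z, rfl⟩
  let ρa : ResidueField (Localization.AtPrime p) →ₐ[k] ResidueField (Localization.AtPrime q) :=
    { ρ with
      commutes' := fun c => by
        show ρ (residue _ (algebraMap k (Localization.AtPrime p) c)) =
          residue _ (algebraMap k (Localization.AtPrime q) c)
        rw [← hψk c]; rfl }
  let eκ : ResidueField (Localization.AtPrime p) ≃ₐ[k] ResidueField (Localization.AtPrime q) :=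
    AlgEquiv.ofBijective ρa ⟨ρ.injective, hρs⟩
  haveI : Algebra.FormallySmooth k (ResidueField (Localization.AtPrime q)) :=
    ‹Algebra.FormallySmooth k q.ResidueField›
  haveI : Algebra.FormallySmooth k (ResidueField (Localization.AtPrime p)) :=
    Algebra.FormallySmooth.of_equiv eκ.symm
  haveI := formallySmooth_quotient k (Localization.AtPrime p) (RingHom.ker ψa)
  exact Algebra.FormallySmooth.of_equiv (A := Localization.AtPrime p ⧸ RingHom.ker ψa) e

end Groth.Agent.Helper24.RegSmoothAt
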