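import Mathlib
import Groth.Prelude.Def_EGA4b

/-! Helper lemmas on Serre's condition (R_k) at a prime. -/

universe u

namespace Groth.Agent.Helper24.Rk

variable {A : Type u} [CommRing A]

lemma rlr_congr (q1 q2 : Ideal A) [h1 : q1.IsPrime] [h2 : q2.IsPrime] (h : q1 = q2) :
    IsRegularLocalRing (Localization.AtPrime q1) ↔ IsRegularLocalRing (Localization.AtPrime q2) := by
  subst h; exact Iff.rfl

lemma rlr_loc_loc (p : Ideal A) [p.IsPrime] (q' : Ideal (Localization.AtPrime p)) [q'.IsPrime] :
    IsRegularLocalRing (Localization.AtPrime q') ↔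
      IsRegularLocalRing
        (Localization.AtPrime (q'.comap (algebraMap A (Localization.AtPrime p)))) := by
  have e := IsLocalization.localizationLocalizationAtPrimeIsoLocalization (M := p.primeCompl) q'
  constructor
  · intro h; exact IsRegularLocalRing.of_ringEquiv e.symm.toRingEquiv
  · intro h; exact IsRegularLocalRing.of_ringEquiv e.toRingEquiv

lemma hasRkAt_iff (n : ℕ) (p : Ideal A) [p.IsPrime] :
    EGA4.HasRkAt n A p ↔ ∀ (q : Ideal A) [q.IsPrime], q ≤ p → q.height ≤ n →
      IsRegularLocalRing (Localization.AtPrime q) := by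
  constructor
  · intro h q hq hqp hht
    have hdisj : Disjoint (p.primeCompl : Set A) (q : Set A) := by
      rw [Set.disjoint_left]; intro x hx hxq; exact hx (hqp hxq)
    let q' := q.map (algebraMap A (Localization.AtPrime p))
    have hq' : q'.IsPrime :=
      IsLocalization.isPrime_of_isPrime_disjoint p.primeCompl _ q hq hdisj
    have hcomap : q'.comap (algebraMap A (Localization.AtPrime p)) = q :=
      IsLocalization.comap_map_of_isPrime_disjoint p.primeCompl _ hq hdisj
    have hht' : q'.height ≤ n := by
      rw [IsLocalization.height_map_of_disjoint p.primeCompl q hdisj]; exact hht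
    have h1 := h q' hht'
    rw [rlr_loc_loc p q'] at h1
    exact (rlr_congr _ _ hcomap).1 h1
  · intro h q' hq' hht
    rw [rlr_loc_loc p q']
    apply h
    · intro x hx
      by_contra hxp
      have hu : IsUnit (algebraMap A (Localization.AtPrime p) x) :=
        IsLocalization.map_units _ (⟨x, hxp⟩ : p.primeCompl)
      exact hq'.ne_top (Ideal.eq_top_of_isUnit_mem _ hx hu)
    · have h2 := IsLocalization.height_under p.primeCompl q'
      rw [Ideal.under] at h2
      rw [h2]; exact hht

end Groth.Agent.Helper24.Rk
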