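import Mathlib
import Groth.Agent.S9161

/-!
Helper24: stable isomorphism of naive cotangent complexes of two extensions
(`I/I² ⊕ CotangentSpace' ≃ I'/I'² ⊕ CotangentSpace`).
-/

set_option autoImplicit false
universe u

namespace Groth.Agent.Helper24

open Algebra Algebra.Extension

/-- Two extensions of the same algebra admitting homs in both directions have stably isomorphic
naive cotangent complexes. -/
theorem nonempty_cotangent_prod_equiv {R S : Type u} [CommRing R] [CommRing S] [Algebra R S]
    (P P' : Algebra.Extension.{u} R S) (f : P.Hom P') (g : P'.Hom P) :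
    Nonempty ((P.Cotangent × P'.CotangentSpace) ≃ₗ[S] (P'.Cotangent × P.CotangentSpace)) := by
  refine Groth.Agent.S9161.result S P.Cotangent P.CotangentSpace P'.Cotangent P'.CotangentSpace
    P.cotangentComplex P'.cotangentComplex (Cotangent.map f) (CotangentSpace.map f)
    (Cotangent.map g) (CotangentSpace.map g) ?_ ?_
    ((Hom.id P).sub (g.comp f)) ?_ ?_ ((Hom.id P').sub (f.comp g)) ?_ ?_
  · ext x
    exact (CotangentSpace.map_cotangentComplex f x).symm
  · ext x
    exact (CotangentSpace.map_cotangentComplex g x).symm
  · have := Cotangent.map_sub_map (Hom.id P) (g.comp f)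
    rw [Cotangent.map_id, Cotangent.map_comp] at this
    rw [← this]
    rfl
  · have := CotangentSpace.map_sub_map (Hom.id P) (g.comp f)
    rw [CotangentSpace.map_id, CotangentSpace.map_comp] at this
    exact this
  · have := Cotangent.map_sub_map (Hom.id P') (f.comp g)
    rw [Cotangent.map_id, Cotangent.map_comp] at this
    rw [← this]
    rfl
  · have := CotangentSpace.map_sub_map (Hom.id P') (f.comp g)
    rw [CotangentSpace.map_id, CotangentSpace.map_comp] at this
    exact this

end Groth.Agent.Helper24
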