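import Mathlib
import Groth.Prelude.Def_DescFam
import Groth.Agent.Lib.Helper24.DDFF

/-! Isomorphisms of descent data from natural bijections on points. -/

set_option autoImplicit false
set_option backward.isDefEq.respectTransparency false
set_option backward.isDefEq.respectTransparency.types false

universe w' w u

open CategoryTheory CategoryTheory.Limits AlgebraicGeometry

namespace Groth.Agent.Helper24.DD

open Desc

section ptiso

variable {S : Scheme.{u}} {κ : Type w} {V : κ → Scheme.{u}} {fv : ∀ j, V j ⟶ S}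

/-- natural bijections on points compatible with the gluing bijections -/
structure PtIso (D₁ D₂ : SchDDFam fv) where
  θ : ∀ ⦃T : Scheme.{u}⦄ ⦃j : κ⦄ (x : T ⟶ V j), Lifts (D₁.obj j) x ≃ Lifts (D₂.obj j) x
  nat : ∀ ⦃T T' : Scheme.{u}⦄ (r : T' ⟶ T) ⦃j : κ⦄ (x : T ⟶ V j) (x' : T' ⟶ V j) (_ : r ≫ x = x')
    (p : Lifts (D₁.obj j) x) (p' : Lifts (D₁.obj j) x'),
    p'.1 = r ≫ p.1 → (θ x' p').1 = r ≫ (θ x p).1
  compat : ∀ ⦃T : Scheme.{u}⦄ ⦃j j' : κ⦄ (x₀ : T ⟶ V j) (x₁ : T ⟶ V j')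
    (h : x₀ ≫ fv j = x₁ ≫ fv j') (p : Lifts (D₁.obj j) x₀),
    θ x₁ (D₁.φ x₀ x₁ h p) = D₂.φ x₀ x₁ h (θ x₀ p)

namespace PtIso

variable {D₁ D₂ : SchDDFam fv} (e : PtIso D₁ D₂)

/-- the inverse -/
def symm : PtIso D₂ D₁ where
  θ T j x := (e.θ x).symm
  nat T T' r j x x' hx q q' hq := by
    let p := (e.θ x).symm q
    let p' : Lifts (D₁.obj j) x' := ⟨r ≫ p.1, by rw [Category.assoc, p.2, hx]⟩
    have h1 : (e.θ x' p').1 = r ≫ (e.θ x p).1 := e.nat r x x' hx p p' rfl
    have h2 : e.θ x' p' = q' := Subtype.ext (by rw [h1, hq]; simp [p])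
    have h3 : (e.θ x').symm q' = p' := by rw [← h2, Equiv.symm_apply_apply]
    rw [h3]
  compat T j j' x₀ x₁ h q := by
    apply (e.θ x₁).injective
    rw [Equiv.apply_symm_apply, e.compat, Equiv.apply_symm_apply]

/-- the underlying morphism of schemes -/
def homLeft (j : κ) : (D₁.obj j).left ⟶ (D₂.obj j).left :=
  (e.θ (D₁.obj j).hom ⟨𝟙 _, Category.id_comp _⟩).1

theorem θ_val {T : Scheme.{u}} {j : κ} (x : T ⟶ V j) (p : Lifts (D₁.obj j) x) :
    (e.θ x p).1 = p.1 ≫ e.homLeft j :=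
  e.nat p.1 (D₁.obj j).hom x p.2 ⟨𝟙 _, Category.id_comp _⟩ p (Category.comp_id _).symm

/-- the morphism of descent data -/
def hom : D₁ ⟶ D₂ :=
  ⟨fun j => Over.homMk (e.homLeft j) (e.θ (D₁.obj j).hom ⟨𝟙 _, Category.id_comp _⟩).2,
   fun T j j' x₀ x₁ h p q hq => by
     have hq' : q = e.θ x₀ p := Subtype.ext (by rw [e.θ_val]; exact hq)
     rw [hq', ← e.compat, e.θ_val]; rfl⟩

theorem hom_symm_hom_left (j : κ) : e.homLeft j ≫ e.symm.homLeft j = 𝟙 _ :=
  calc e.homLeft j ≫ e.symm.homLeft j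
      = (e.symm.θ (D₁.obj j).hom (e.θ (D₁.obj j).hom ⟨𝟙 _, Category.id_comp _⟩)).1 :=
        (e.symm.θ_val _ _).symm
    _ = 𝟙 _ := by
        show ((e.θ _).symm (e.θ _ _)).1 = 𝟙 _
        rw [Equiv.symm_apply_apply]

/-- the isomorphism of descent data -/
def iso : D₁ ≅ D₂ where
  hom := e.hom
  inv := e.symm.hom
  hom_inv_id := by
    apply SchDDFam.hom_ext; funext j; apply Over.OverMorphism.ext
    exact e.hom_symm_hom_left j
  inv_hom_id := by
    apply SchDDFam.hom_ext; funext j; apply Over.OverMorphism.ext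
    exact e.symm.hom_symm_hom_left j

end PtIso

end ptiso

section self

variable {S : Scheme.{u}} {κ : Type w} {V : κ → Scheme.{u}} {fv : ∀ j, V j ⟶ S}
  {α : κ → κ} {g : ∀ j, V j ⟶ V (α j)} (w : ∀ j, g j ≫ fv (α j) = fv j ≫ 𝟙 S)

include w in
theorem self_h {T : Scheme.{u}} {j : κ} (x : T ⟶ V j) : (x ≫ g j) ≫ fv (α j) = x ≫ fv j := by
  rw [Category.assoc, w, Category.comp_id]

/-- pulling back along an endomorphism of the family is isomorphic to the identity -/
noncomputable def selfPt (D : SchDDFam fv) : PtIso ((pullDDFam w).obj D) D where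
  θ T j x := (liftsPullbackEquiv (D.obj (α j)) (g j) x).trans (D.φ (x ≫ g j) x (self_h w x))
  nat T T' r j x x' hx p p' hp := by
    subst hx
    simp only [Equiv.trans_apply]
    refine D.φ_natural r (x ≫ g j) x _ ((r ≫ x) ≫ g j) (r ≫ x) (Category.assoc _ _ _).symm rfl
      _ _ _ ?_
    simp [liftsPullbackEquiv, hp]
  compat T j j' x₀ x₁ h p := by
    simp only [pullDDFam, pullDDFamObj, Equiv.trans_apply, Equiv.apply_symm_apply,
      SchDDFam.φ_comp]

/-- the natural isomorphism -/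
noncomputable def selfIso : pullDDFam w ≅ 𝟭 (SchDDFam fv) :=
  NatIso.ofComponents (fun D => (selfPt w D).iso) (by
    intro D D' a
    apply SchDDFam.hom_ext; funext j; apply Over.OverMorphism.ext
    show (((pullDDFam w).map a).hom j).left ≫ (selfPt w D').homLeft j =
      (selfPt w D).homLeft j ≫ (a.hom j).left
    have h1 := (selfPt w D').θ_val (pullback.snd (D.obj (α j)).hom (g j))
      ⟨(((pullDDFam w).map a).hom j).left, Over.w (((pullDDFam w).map a).hom j)⟩
    have h2 := a.comm (pullback.snd (D.obj (α j)).hom (g j) ≫ g j)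
      (pullback.snd (D.obj (α j)).hom (g j)) (self_h w _)
      (liftsPullbackEquiv (D.obj (α j)) (g j) (pullback.snd (D.obj (α j)).hom (g j))
        ⟨𝟙 _, Category.id_comp _⟩)
      (liftsPullbackEquiv (D'.obj (α j)) (g j) (pullback.snd (D.obj (α j)).hom (g j))
        ⟨(((pullDDFam w).map a).hom j).left, Over.w (((pullDDFam w).map a).hom j)⟩)
      (by simp [liftsPullbackEquiv, pullDDFam])
    exact h1.symm.trans h2)

end self

section back

variable {S : Scheme.{u}} {κ : Type w} {ι : Type w'} {U : ι → Scheme.{u}} {V : κ → Scheme.{u}}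
  {fu : ∀ i, U i ⟶ S} {fv : ∀ j, V j ⟶ S} {α : ι → κ} {g : ∀ i, U i ⟶ V (α i)}
  (w : ∀ i, g i ≫ fv (α i) = fu i ≫ 𝟙 S)
  {β : κ → ι} {k : ∀ j, V j ⟶ U (β j)} (w₂ : ∀ j, k j ≫ fu (β j) = fv j ≫ 𝟙 S)

include w w₂ in
theorem back_h {T : Scheme.{u}} {i : ι} (x : T ⟶ U i) :
    ((x ≫ g i) ≫ k (α i)) ≫ fu (β (α i)) = x ≫ fu i := by
  rw [Category.assoc, w₂, Category.comp_id, Category.assoc, w, Category.comp_id]

/-- pulling back and forth is isomorphic to the identity, objectwise -/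
noncomputable def backPt (E : SchDDFam fu) :
    PtIso ((pullDDFam w).obj ((pullDDFam w₂).obj E)) E where
  θ T i x := (liftsPullbackEquiv (((pullDDFam w₂).obj E).obj (α i)) (g i) x).trans
    ((liftsPullbackEquiv (E.obj (β (α i))) (k (α i)) (x ≫ g i)).trans
      (E.φ ((x ≫ g i) ≫ k (α i)) x (back_h w w₂ x)))
  nat T T' r i x x' hx p p' hp := by
    subst hx
    simp only [Equiv.trans_apply]
    refine E.φ_natural r ((x ≫ g i) ≫ k (α i)) x _ (((r ≫ x) ≫ g i) ≫ k (α i)) (r ≫ x)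
      (by simp) rfl _ _ _ ?_
    simp [liftsPullbackEquiv, hp]
  compat T i i' x₀ x₁ h p := by
    simp only [pullDDFam, pullDDFamObj, Equiv.trans_apply, Equiv.apply_symm_apply,
      SchDDFam.φ_comp]

include w₂ in
theorem essSurj_pull_of_back : (pullDDFam w).EssSurj :=
  ⟨fun E => ⟨(pullDDFam w₂).obj E, ⟨(backPt w w₂ E).iso⟩⟩⟩

include w₂ in
theorem covSieve_mem_of_back (j : κ) : covSieve fu fv j ∈ Scheme.fpqcTopology (V j) := by
  refine Scheme.fpqcTopology.superset_covering ?_ (Scheme.fpqcTopology.top_mem _)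
  intro T x _
  exact ⟨β j, x ≫ k j, by rw [Category.assoc, w₂, Category.comp_id]⟩

include w₂ in
theorem isEquivalence_pull_of_back : (pullDDFam w).IsEquivalence :=
  { faithful := faithful_pull w (hsep_of_hcov (covSieve_mem_of_back w₂))
    full := full_pull w (covSieve_mem_of_back w₂)
    essSurj := essSurj_pull_of_back w w₂ }

end back

end Groth.Agent.Helper24.DD
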