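import Mathlib

/-!
Helper24: a finitely presented module over a localization is the localization of a
finitely presented module given by explicit generators and relations.
-/

set_option autoImplicit false
universe u v w

namespace Groth.Agent.Helper24

/-- If `M'` is a finitely presented module over the localization `A'` of `A` at `S`, then `M'` is
the localization of `(Fin n → A) ⧸ span T` for a finite set `T`. -/
theorem exists_isLocalizedModule_quotient_span {A : Type u} [CommRing A] (S : Submonoid A)
    (A' : Type v) [CommRing A'] [Algebra A A'] [IsLocalization S A']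
    (M' : Type w) [AddCommGroup M'] [Module A' M'] [Module A M'] [IsScalarTower A A' M']
    [Module.FinitePresentation A' M'] :
    ∃ (n : ℕ) (T : Finset (Fin n → A))
      (ρ : ((Fin n → A) ⧸ Submodule.span A (T : Set (Fin n → A))) →ₗ[A] M'),
      IsLocalizedModule S ρ := by
  classical
  obtain ⟨n, K, e, hK⟩ := Module.FinitePresentation.exists_fin A' M'
  let ι : (Fin n → A) →ₗ[A] (Fin n → A') :=
    LinearMap.pi fun i => (Algebra.linearMap A A') ∘ₗ LinearMap.proj i
  have hι : IsLocalizedModule S ι := IsLocalizedModule.pi S fun _ => Algebra.linearMap A A'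
  obtain ⟨T, hT⟩ := hK
  have hsurj : ∀ k : Fin n → A', ∃ (v : Fin n → A) (s : S), s • k = ι v := by
    intro k
    obtain ⟨⟨v, s⟩, hvs⟩ := IsLocalizedModule.surj S ι k
    exact ⟨v, s, hvs⟩
  choose v s hvs using hsurj
  let T₀ : Finset (Fin n → A) := T.image v
  let N₀ : Submodule A (Fin n → A) := Submodule.span A (T₀ : Set (Fin n → A))
  have hT₀ : (T₀ : Set (Fin n → A)) = v '' (T : Set (Fin n → A')) := by
    simp [T₀]
  have hloc : N₀.localized' A' S ι = K := by
    rw [Submodule.localized'_span, ← hT, hT₀]
    apply le_antisymm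
    · rw [Submodule.span_le]
      rintro _ ⟨_, ⟨k, hk, rfl⟩, rfl⟩
      rw [← hvs k]
      rw [Submonoid.smul_def, ← algebraMap_smul A' (s k : A) k]
      exact Submodule.smul_mem _ _ (Submodule.subset_span hk)
    · rw [Submodule.span_le]
      intro k hk
      have h1 : ι (v k) ∈ Submodule.span A' (ι '' (v '' (T : Set (Fin n → A')))) :=
        Submodule.subset_span ⟨_, ⟨k, hk, rfl⟩, rfl⟩
      have h2 := Submodule.smul_mem _ (IsLocalization.mk' A' (1 : A) (s k)) h1
      rw [← hvs k, Submonoid.smul_def, ← algebraMap_smul A' (s k : A) k, ← mul_smul,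
        IsLocalization.mk'_spec, map_one, one_smul] at h2
      exact h2
  subst hloc
  let ρ₀ : ((Fin n → A) ⧸ N₀) →ₗ[A] (Fin n → A') ⧸ N₀.localized' A' S ι :=
    N₀.toLocalizedQuotient' A' S ι
  have hρ₀ : IsLocalizedModule S ρ₀ := IsLocalizedModule.toLocalizedQuotient' _ _ _ _
  let e' : ((Fin n → A') ⧸ N₀.localized' A' S ι) ≃ₗ[A] M' := (e.symm.restrictScalars A)
  exact ⟨n, T₀, e'.toLinearMap ∘ₗ ρ₀, IsLocalizedModule.of_linearEquiv S ρ₀ e'⟩

end Groth.Agent.Helper24
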