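import Mathlib

/-! Finite presentation of modules relative to presentations of algebras. -/

set_option autoImplicit false

namespace Groth.Agent.Helper24.FPRel

open Function Submodule

/-- (a) finite presentation passes to a quotient ring acting on the module. -/
theorem fp_of_surj {B B' : Type*} [CommRing B] [CommRing B'] (M : Type*) [AddCommGroup M]
    [Module B M] [Module B' M] (φ : B →+* B') (hφ : Surjective φ)
    (hsmul : ∀ (b : B) (m : M), b • m = φ b • m) [Module.FinitePresentation B M] :
    Module.FinitePresentation B' M := by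
  letI : Algebra B B' := φ.toAlgebra
  haveI : IsScalarTower B B' M := IsScalarTower.of_algebraMap_smul fun b m => (hsmul b m).symm
  haveI : Module.Finite B' M := Module.Finite.of_restrictScalars_finite B B' M
  obtain ⟨n, g, hg⟩ := Module.Finite.exists_fin' B' M
  let π : (Fin n → B) →ₗ[B] (Fin n → B') := (Algebra.linearMap B B').compLeft (Fin n)
  have hπ : Surjective π := fun v =>
    ⟨fun i => (hφ (v i)).choose, funext fun i => (hφ (v i)).choose_spec⟩
  let h : (Fin n → B) →ₗ[B] M := (g.restrictScalars B) ∘ₗ π
  have hh : Surjective h := hg.comp hπ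
  have hk : (LinearMap.ker h).FG := Module.FinitePresentation.fg_ker h hh
  refine Module.finitePresentation_of_surjective g hg ?_
  apply Submodule.FG.of_restrictScalars B
  have : (LinearMap.ker g).restrictScalars B = (LinearMap.ker h).map π := by
    ext x
    simp only [Submodule.restrictScalars_mem, LinearMap.mem_ker, Submodule.mem_map]
    constructor
    · intro hx
      obtain ⟨y, rfl⟩ := hπ x
      exact ⟨y, hx, rfl⟩
    · rintro ⟨y, hy, rfl⟩
      exact hy
  rw [this]
  exact hk.map π

/-- (b) finite presentation lifts along a surjection with finitely generated kernel. -/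
theorem fp_of_surj_fg {B B' : Type*} [CommRing B] [CommRing B'] (M : Type*) [AddCommGroup M]
    [Module B M] [Module B' M] (φ : B →+* B') (hφ : Surjective φ) (hker : (RingHom.ker φ).FG)
    (hsmul : ∀ (b : B) (m : M), b • m = φ b • m) [Module.FinitePresentation B' M] :
    Module.FinitePresentation B M := by
  letI : Algebra B B' := φ.toAlgebra
  haveI : IsScalarTower B B' M := IsScalarTower.of_algebraMap_smul fun b m => (hsmul b m).symm
  haveI : Module.FinitePresentation B B' :=
    Module.finitePresentation_of_surjective (Algebra.linearMap B B') hφ (by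
      have : LinearMap.ker (Algebra.linearMap B B') = RingHom.ker φ := by
        ext x; simp only [LinearMap.mem_ker, RingHom.mem_ker]; rfl
      rw [this]; exact hker)
  exact Module.FinitePresentation.trans B M B'

/-- (e) Stacks 0561: a module over a finite type algebra which is finitely presented over the base
is finitely presented over the algebra. -/
theorem fp_of_finiteType (R S M : Type*) [CommRing R] [CommRing S] [Algebra R S]
    [Algebra.FiniteType R S] [AddCommGroup M] [Module R M] [Module S M] [IsScalarTower R S M]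
    [Module.FinitePresentation R M] : Module.FinitePresentation S M := by
  classical
  obtain ⟨T, hT⟩ := (Algebra.FiniteType.out : (⊤ : Subalgebra R S).FG)
  obtain ⟨m, π, hπ⟩ := Module.Finite.exists_fin' R M
  obtain ⟨s, hs⟩ := Module.FinitePresentation.fg_ker π hπ
  let ι : (Fin m → R) →ₗ[R] (Fin m → S) := (Algebra.linearMap R S).compLeft (Fin m)
  let e : Fin m → (Fin m → S) := fun j => Pi.single j 1
  let Pm : (Fin m → S) →ₗ[S] M := Fintype.linearCombination S (fun j => π (Pi.single j 1))
  have hπsum : ∀ r : Fin m → R, π r = ∑ j, r j • π (Pi.single j 1) := by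
    intro r
    conv_lhs => rw [← Finset.univ_sum_single r]
    rw [map_sum]
    refine Finset.sum_congr rfl fun j _ => ?_
    rw [← map_smul]
    congr 1
    ext k
    simp [Pi.single_apply]
  have hPmι : ∀ r, Pm (ι r) = π r := by
    intro r
    rw [hπsum r]
    simp only [Pm, Fintype.linearCombination_apply, ι, LinearMap.compLeft_apply, Function.comp,
      Algebra.linearMap_apply, algebraMap_smul]
  have hιsum : ∀ r : Fin m → R, ι r = ∑ j, r j • e j := by
    intro r
    ext k
    simp [ι, e, Pi.single_apply, Finset.sum_apply, Algebra.smul_def]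
  have hPme : ∀ j, Pm (e j) = π (Pi.single j 1) := by
    intro j
    simp only [Pm, e]
    rw [Fintype.linearCombination_apply_single, one_smul]
  have hc : ∀ (t : S) (j : Fin m), ∃ c : Fin m → R, π c = t • π (Pi.single j 1) := fun t j => hπ _
  choose c hc using hc
  let gens : Set (Fin m → S) := ι '' ↑s ∪
    (fun tj : S × Fin m => tj.1 • e tj.2 - ι (c tj.1 tj.2)) '' ((↑T : Set S) ×ˢ Set.univ)
  have hfin : gens.Finite :=
    (s.finite_toSet.image _).union ((T.finite_toSet.prod Set.finite_univ).image _)
  let K : Submodule S (Fin m → S) := span S gens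
  have hKfg : K.FG := Submodule.fg_span hfin
  have hKker : K ≤ LinearMap.ker Pm := by
    rw [Submodule.span_le]
    rintro x (⟨k, hk, rfl⟩ | ⟨⟨t, j⟩, _, rfl⟩)
    · have hk' : k ∈ LinearMap.ker π := hs ▸ subset_span hk
      simp only [SetLike.mem_coe, LinearMap.mem_ker]
      rw [hPmι]; exact hk'
    · simp only [SetLike.mem_coe, LinearMap.mem_ker]
      rw [map_sub, map_smul, hPme, hPmι, hc, sub_self]
  let N : Submodule R (Fin m → S) := LinearMap.range ι ⊔ K.restrictScalars R
  have hX : ∀ t ∈ T, ∀ v ∈ N, t • v ∈ N := by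
    intro t ht v hv
    obtain ⟨a, ⟨r, rfl⟩, k, hk, rfl⟩ := Submodule.mem_sup.1 hv
    rw [smul_add]
    refine N.add_mem ?_ (mem_sup_right (K.smul_mem t hk))
    rw [hιsum r, Finset.smul_sum]
    refine N.sum_mem fun j _ => ?_
    rw [smul_comm]
    refine N.smul_mem (r j) ?_
    have : t • e j = (t • e j - ι (c t j)) + ι (c t j) := by abel
    rw [this]
    refine N.add_mem (mem_sup_right ?_) (mem_sup_left ⟨_, rfl⟩)
    exact subset_span (Or.inr ⟨(t, j), ⟨ht, Set.mem_univ _⟩, rfl⟩)
  have hall : ∀ p : S, ∀ v ∈ N, p • v ∈ N := by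
    intro p
    have hp : p ∈ Algebra.adjoin R (↑T : Set S) := hT ▸ Algebra.mem_top
    induction hp using Algebra.adjoin_induction with
    | mem x hx => exact hX x hx
    | algebraMap r => intro v hv; rw [algebraMap_smul]; exact N.smul_mem r hv
    | add x y _ _ hx hy => intro v hv; rw [add_smul]; exact N.add_mem (hx v hv) (hy v hv)
    | mul x y _ _ hx hy => intro v hv; rw [mul_smul]; exact hx _ (hy v hv)
  have hNtop : ∀ w : Fin m → S, w ∈ N := by
    intro w
    rw [← Finset.univ_sum_single w]
    refine N.sum_mem fun j _ => ?_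
    have h1 : (Pi.single j (w j) : Fin m → S) = w j • e j := by
      ext k; simp [e, Pi.single_apply]
    rw [h1]
    apply hall
    refine mem_sup_left ⟨Pi.single j 1, ?_⟩
    ext k
    by_cases hk : k = j
    · subst hk; simp [ι, e]
    · simp [ι, e, Pi.single_apply, hk]
  have hkerK : LinearMap.ker Pm ≤ K := by
    intro z hz
    obtain ⟨a, ⟨r, rfl⟩, k, hk, rfl⟩ := Submodule.mem_sup.1 (hNtop z)
    have hk' : k ∈ K := hk
    have h0 : π r = 0 := by
      have h1 := hz
      rw [LinearMap.mem_ker, map_add, hPmι, (hKker hk' : Pm k = 0), add_zero] at h1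
      exact h1
    have hr : r ∈ span R (↑s : Set (Fin m → R)) := by rw [hs]; exact h0
    refine K.add_mem ?_ hk'
    have hle : Submodule.map ι (span R (↑s : Set (Fin m → R))) ≤ K.restrictScalars R := by
      rw [Submodule.map_span, Submodule.span_le]
      rintro _ ⟨k, hk, rfl⟩
      exact subset_span (Or.inl ⟨k, hk, rfl⟩)
    exact hle ⟨r, hr, rfl⟩
  have hPmsurj : Surjective Pm := fun x => by
    obtain ⟨r, hr⟩ := hπ x
    exact ⟨ι r, (hPmι r).trans hr⟩
  refine Module.finitePresentation_of_surjective Pm hPmsurj ?_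
  rw [le_antisymm hkerK hKker]
  exact hKfg

/-- (c) independence of the presentation. -/
theorem fp_two_pres {R A : Type*} [CommRing R] [CommRing A] [Algebra R A] {σ τ : Type*}
    [Finite σ] [Finite τ] (M : Type*) [AddCommGroup M] [Module A M]
    [Module (MvPolynomial σ R) M] [Module (MvPolynomial τ R) M]
    (α : MvPolynomial σ R →ₐ[R] A) (hα : Surjective α)
    (β : MvPolynomial τ R →ₐ[R] A) (hβ : Surjective β)
    (hαs : ∀ (p : MvPolynomial σ R) (m : M), p • m = α p • m)
    (hβs : ∀ (p : MvPolynomial τ R) (m : M), p • m = β p • m)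
    [Module.FinitePresentation (MvPolynomial σ R) M] :
    Module.FinitePresentation (MvPolynomial τ R) M := by
  classical
  let g : τ → MvPolynomial σ R := fun j => (hα (β (MvPolynomial.X j))).choose
  have hg : ∀ j, α (g j) = β (MvPolynomial.X j) :=
    fun j => (hα (β (MvPolynomial.X j))).choose_spec
  let g' : σ → MvPolynomial τ R := fun i => (hβ (α (MvPolynomial.X i))).choose
  have hg' : ∀ i, β (g' i) = α (MvPolynomial.X i) :=
    fun i => (hβ (α (MvPolynomial.X i))).choose_spec
  let γ : MvPolynomial (σ ⊕ τ) R →ₐ[R] A :=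
    MvPolynomial.aeval (Sum.elim (fun i => α (MvPolynomial.X i)) (fun j => β (MvPolynomial.X j)))
  let ρ : MvPolynomial (σ ⊕ τ) R →ₐ[R] MvPolynomial σ R :=
    MvPolynomial.aeval (Sum.elim MvPolynomial.X g)
  let ρ' : MvPolynomial (σ ⊕ τ) R →ₐ[R] MvPolynomial τ R :=
    MvPolynomial.aeval (Sum.elim g' MvPolynomial.X)
  have hαρ : α.comp ρ = γ := by
    apply MvPolynomial.algHom_ext
    rintro (i | j) <;> simp [ρ, γ, hg]
  have hβρ' : β.comp ρ' = γ := by
    apply MvPolynomial.algHom_ext
    rintro (i | j) <;> simp [ρ', γ, hg']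
  have hρ : Surjective ρ := fun p => ⟨MvPolynomial.rename Sum.inl p, by
    simp only [ρ]; rw [MvPolynomial.aeval_rename]; simp [MvPolynomial.aeval_X_left]⟩
  have hρ' : Surjective ρ' := fun p => ⟨MvPolynomial.rename Sum.inr p, by
    simp only [ρ']; rw [MvPolynomial.aeval_rename]; simp [MvPolynomial.aeval_X_left]⟩
  have hker : (RingHom.ker ρ.toRingHom).FG :=
    Algebra.FinitePresentation.ker_fG_of_surjective ρ hρ
  letI : Module (MvPolynomial (σ ⊕ τ) R) M := Module.compHom M γ.toRingHom
  have hγs : ∀ (p : MvPolynomial (σ ⊕ τ) R) (m : M), p • m = γ p • m := fun _ _ => rfl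
  haveI : Module.FinitePresentation (MvPolynomial (σ ⊕ τ) R) M :=
    fp_of_surj_fg M ρ.toRingHom hρ hker (fun p m => by
      rw [hγs, hαs]; congr 1; exact (DFunLike.congr_fun hαρ p).symm)
  exact fp_of_surj M ρ'.toRingHom hρ' (fun p m => by
      rw [hγs, hβs]; congr 1; exact (DFunLike.congr_fun hβρ' p).symm)

end Groth.Agent.Helper24.FPRel
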