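import Mathlib

/-!
# Local rings of scheme-theoretic fibres

For `f : X ⟶ Y` and a point `x`, the local ring of the fibre `f.fiber (f x)` at `f.asFiber x`
is identified (as an abstract ring) with
* a localisation of `p.Fiber Γ(X, U)` for affine charts `U`, `V` (`fiberStalk`, `fiberStalk'`);
* the quotient `𝒪_{X,x} ⧸ 𝔪_{f x} 𝒪_{X,x}` (`fiberStalkQuot`).
-/

set_option autoImplicit false

universe u

namespace Groth.Agent.Helper24.FiberStalk

open AlgebraicGeometry CategoryTheory Limits TensorProduct IsLocalRing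

set_option backward.isDefEq.respectTransparency false in
theorem isoL_fst (R S : Type u) [CommRing R] [CommRing S] [Algebra R S] (p : PrimeSpectrum R) :
    (Arrow.leftFunc.mapIso (Spec.fiberToSpecResidueFieldIso R S p)).hom ≫
      Spec.map (CommRingCat.ofHom (Algebra.TensorProduct.includeRight (R := R)
        (A := p.asIdeal.ResidueField) (B := S)).toRingHom) =
    (Spec.map (CommRingCat.ofHom (algebraMap R S))).fiberι p := by
  simp [Spec.fiberToSpecResidueFieldIso, Scheme.Hom.fiberι]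

set_option backward.isDefEq.respectTransparency false in
theorem fiberStalk {X Y : Scheme.{u}} (f : X ⟶ Y) {V : Y.Opens} (hV : IsAffineOpen V)
    {U : X.Opens} (hU : IsAffineOpen U) (e : U ≤ f ⁻¹ᵁ V) (P : PrimeSpectrum Γ(Y, V))
    (z : f.fiber (hV.fromSpec P)) (hz : f.fiberι (hV.fromSpec P) z ∈ U) :
    letI := (f.appLE V U e).hom.toAlgebra
    ∃ (w : Ideal (P.asIdeal.Fiber Γ(X, U))) (_ : w.IsPrime),
      w.comap (Algebra.TensorProduct.includeRight (R := Γ(Y, V))
        (A := P.asIdeal.ResidueField) (B := Γ(X, U))) =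
        (hU.primeIdealOf ⟨f.fiberι (hV.fromSpec P) z, hz⟩).asIdeal ∧
      Nonempty ((f.fiber (hV.fromSpec P)).presheaf.stalk z ≃+* Localization.AtPrime w) := by
  letI := (f.appLE V U e).hom.toAlgebra
  have e₁ : Spec.map (CommRingCat.ofHom (algebraMap Γ(Y, V) Γ(X, U))) ≫ hV.fromSpec =
      hU.fromSpec ≫ f := IsAffineOpen.SpecMap_appLE_fromSpec f hV hU e
  let ρ : (Spec.map (CommRingCat.ofHom (algebraMap Γ(Y, V) Γ(X, U)))).fiber P ⟶
      f.fiber (hV.fromSpec P) :=
    pullback.map _ _ _ _ hU.fromSpec (Spec.map (hV.fromSpec.residueFieldMap P)) hV.fromSpec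
      e₁ (by simp; rfl)
  haveI : IsOpenImmersion ρ := Scheme.pullback_map_isOpenImmersion _ _ _ _ _ _ _ _ _
  have hρ1 : ρ ≫ f.fiberι (hV.fromSpec P) =
      (Spec.map (CommRingCat.ofHom (algebraMap Γ(Y, V) Γ(X, U)))).fiberι P ≫ hU.fromSpec := by
    simp [ρ, Scheme.Hom.fiberι]
  let isoL := Arrow.leftFunc.mapIso (Spec.fiberToSpecResidueFieldIso Γ(Y, V) Γ(X, U) P)
  have hL := isoL_fst Γ(Y, V) Γ(X, U) P
  have hr : Set.range ρ = _ := Scheme.Pullback.range_map _ _ _ _ _ _ _ _ _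
  have hzr : z ∈ Set.range ρ := by
    rw [hr]
    refine ⟨?_, ?_⟩
    · show f.fiberι (hV.fromSpec P) z ∈ Set.range hU.fromSpec
      rw [hU.range_fromSpec]; exact hz
    · exact (Spec.map (hV.fromSpec.residueFieldMap P)).surjective _
  obtain ⟨t, ht⟩ := hzr
  haveI : IsOpenImmersion (isoL.inv ≫ ρ) := inferInstance
  have hjw : (isoL.inv ≫ ρ) (isoL.hom t) = z := by
    rw [← Scheme.Hom.comp_apply, Iso.hom_inv_id_assoc]; exact ht
  refine ⟨(isoL.hom t).asIdeal, (isoL.hom t).isPrime, ?_, ?_⟩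
  · have hA : (Spec.map (CommRingCat.ofHom (Algebra.TensorProduct.includeRight
        (R := Γ(Y, V)) (A := P.asIdeal.ResidueField) (B := Γ(X, U))).toRingHom)) (isoL.hom t) =
        ((Spec.map (CommRingCat.ofHom (algebraMap Γ(Y, V) Γ(X, U)))).fiberι P) t := by
      rw [← hL]; rfl
    have hB : f.fiberι (hV.fromSpec P) (ρ t) =
        hU.fromSpec (((Spec.map (CommRingCat.ofHom (algebraMap Γ(Y, V) Γ(X, U)))).fiberι P) t) := by
      show (ρ ≫ f.fiberι (hV.fromSpec P)) t = _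
      rw [hρ1]; rfl
    have h1 : hU.fromSpec ((Spec.map (CommRingCat.ofHom (Algebra.TensorProduct.includeRight
        (R := Γ(Y, V)) (A := P.asIdeal.ResidueField) (B := Γ(X, U))).toRingHom)) (isoL.hom t)) =
        f.fiberι (hV.fromSpec P) z := by
      rw [← ht, hA, hB]
    have h2 : (Spec.map (CommRingCat.ofHom (Algebra.TensorProduct.includeRight
        (R := Γ(Y, V)) (A := P.asIdeal.ResidueField) (B := Γ(X, U))).toRingHom)) (isoL.hom t) =
        hU.primeIdealOf ⟨f.fiberι (hV.fromSpec P) z, hz⟩ := by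
      apply hU.fromSpec.isOpenEmbedding.injective
      rw [h1, hU.fromSpec_primeIdealOf]
    exact congrArg PrimeSpectrum.asIdeal h2
  · rw [← hjw]
    exact ⟨(asIso ((isoL.inv ≫ ρ).stalkMap (isoL.hom t)) ≪≫
      Spec.stalkIso _ (isoL.hom t)).commRingCatIsoToRingEquiv⟩

set_option backward.isDefEq.respectTransparency false in
theorem fiberStalk' {X Y : Scheme.{u}} (f : X ⟶ Y) (x : X) {V : Y.Opens} (hV : IsAffineOpen V)
    {U : X.Opens} (hU : IsAffineOpen U) (e : U ≤ f ⁻¹ᵁ V) (hxU : x ∈ U) :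
    letI := (f.appLE V U e).hom.toAlgebra
    ∃ (w : Ideal ((hV.primeIdealOf ⟨f x, e hxU⟩).asIdeal.Fiber Γ(X, U))) (_ : w.IsPrime),
      w.comap (Algebra.TensorProduct.includeRight (R := Γ(Y, V))
        (A := (hV.primeIdealOf ⟨f x, e hxU⟩).asIdeal.ResidueField) (B := Γ(X, U))) =
        (hU.primeIdealOf ⟨x, hxU⟩).asIdeal ∧
      Nonempty ((f.fiber (f x)).presheaf.stalk (f.asFiber x) ≃+* Localization.AtPrime w) := by
  letI := (f.appLE V U e).hom.toAlgebra
  have key : ∀ y' (_ : y' = f x), ∃ z : f.fiber y', f.fiberι y' z = x ∧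
      Nonempty ((f.fiber y').presheaf.stalk z ≃+*
        (f.fiber (f x)).presheaf.stalk (f.asFiber x)) := by
    intro y' ey
    subst ey
    exact ⟨f.asFiber x, f.fiberι_asFiber x, ⟨RingEquiv.refl _⟩⟩
  have hP : hV.fromSpec (hV.primeIdealOf ⟨f x, e hxU⟩) = f x :=
    hV.fromSpec_primeIdealOf ⟨f x, e hxU⟩
  obtain ⟨z, hzx, ⟨e0⟩⟩ := key _ hP
  have hz : f.fiberι _ z ∈ U := by rw [hzx]; exact hxU
  obtain ⟨w, hw, hwq, ⟨e1⟩⟩ := fiberStalk f hV hU e (hV.primeIdealOf ⟨f x, e hxU⟩) z hz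
  refine ⟨w, hw, ?_, ⟨e0.symm.trans e1⟩⟩
  rw [hwq]
  exact congrArg (fun a => (hU.primeIdealOf a).asIdeal) (Subtype.ext hzx)

set_option backward.isDefEq.respectTransparency false in
theorem fiberStalkQuot {X Y : Scheme.{u}} (f : X ⟶ Y) (x : X) :
    Nonempty ((f.fiber (f x)).presheaf.stalk (f.asFiber x) ≃+*
      (X.presheaf.stalk x ⧸
        (maximalIdeal (Y.presheaf.stalk (f x))).map (f.stalkMap x).hom)) := by
  obtain ⟨V, hV, hfxV, -⟩ := exists_isAffineOpen_mem_and_subset (x := f x) (U := ⊤) trivial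
  obtain ⟨U, hU, hxU, hUV⟩ :=
    exists_isAffineOpen_mem_and_subset (x := x) (U := f ⁻¹ᵁ V) hfxV
  have e : U ≤ f ⁻¹ᵁ V := hUV
  obtain ⟨w, hw, hwq, ⟨e1⟩⟩ := fiberStalk' f x hV hU e hxU
  letI := (f.appLE V U e).hom.toAlgebra
  haveI := hw
  let r : Ideal Γ(X, U) := w.comap (Algebra.TensorProduct.includeRight (R := Γ(Y, V))
    (A := (hV.primeIdealOf ⟨f x, e hxU⟩).asIdeal.ResidueField) (B := Γ(X, U)))
  haveI : r.IsPrime := Ideal.comap_isPrime _ _
  let e2 := Ideal.Fiber.algEquivAux₂ (hV.primeIdealOf ⟨f x, e hxU⟩).asIdeal w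
  letI := X.presheaf.algebra_section_stalk (U := U) ⟨x, hxU⟩
  haveI hloc : IsLocalization.AtPrime (X.presheaf.stalk x) r := by
    have : ∀ (r' : Ideal Γ(X, U)) [r'.IsPrime], r' = (hU.primeIdealOf ⟨x, hxU⟩).asIdeal →
        IsLocalization.AtPrime (X.presheaf.stalk x) r' := by
      intro r' _ hr'
      subst hr'
      exact hU.isLocalization_stalk ⟨x, hxU⟩
    exact this r hwq
  let ε : Localization.AtPrime r ≃ₐ[Γ(X, U)] X.presheaf.stalk x :=
    IsLocalization.algEquiv r.primeCompl _ _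
  have h3 : f.appLE V U e ≫ X.presheaf.germ U x hxU =
      Y.presheaf.germ V (f x) (e hxU) ≫ f.stalkMap x := by
    rw [Scheme.Hom.germ_stalkMap, Scheme.Hom.appLE, Category.assoc, X.presheaf.germ_res]
  have hJ : (maximalIdeal (Y.presheaf.stalk (f x))).map (f.stalkMap x).hom =
      (((hV.primeIdealOf ⟨f x, e hxU⟩).asIdeal.map (algebraMap Γ(Y, V) Γ(X, U))).map
        (algebraMap Γ(X, U) (Localization.AtPrime r))).map
          (ε.toRingEquiv : Localization.AtPrime r →+* X.presheaf.stalk x) := by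
    letI := Y.presheaf.algebra_section_stalk (U := V) ⟨f x, e hxU⟩
    haveI := hV.isLocalization_stalk ⟨f x, e hxU⟩
    rw [← IsLocalization.AtPrime.map_eq_maximalIdeal (hV.primeIdealOf ⟨f x, e hxU⟩).asIdeal
      (Y.presheaf.stalk (f x)), Ideal.map_map, Ideal.map_map, Ideal.map_map]
    congr 1
    ext a
    show (f.stalkMap x).hom ((Y.presheaf.germ V (f x) (e hxU)).hom a) =
      ε (algebraMap _ _ ((f.appLE V U e).hom a))
    rw [ε.commutes]
    exact (congr($(h3).hom a)).symm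
  exact ⟨e1.trans (e2.toRingEquiv.trans (Ideal.quotientEquiv _ _ ε.toRingEquiv hJ))⟩

end Groth.Agent.Helper24.FiberStalk
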