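import Mathlib

/-!
Helper24: recognising filtered colimits in `Under (CommRingCat.of R)` elementwise.
-/

set_option autoImplicit false
universe u

namespace Groth.Agent.Helper24

open CategoryTheory Limits

/-- A cocone over a filtered diagram of `R`-algebras which is jointly surjective and "eventually
injective" is a colimit cocone. -/
theorem nonempty_isColimit_under {R : CommRingCat.{u}} {I : Type u} [SmallCategory I] [IsFiltered I]
    (D : I ⥤ Under R) (c : Cocone D)
    (h1 : ∀ a : c.pt.right, ∃ (i : I) (b : (D.obj i).right), (c.ι.app i).right.hom b = a)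
    (h2 : ∀ (i : I) (b : (D.obj i).right), (c.ι.app i).right.hom b = 0 →
      ∃ (j : I) (h : i ⟶ j), (D.map h).right.hom b = 0) :
    Nonempty (IsColimit c) := by
  haveI : IsConnected I := IsFiltered.isConnected I
  suffices h : IsColimit ((Under.forget R).mapCocone c) from
    ⟨isColimitOfReflects (Under.forget R) h⟩
  haveI : ReflectsColimitsOfShape I (forget CommRingCat.{u}) :=
    reflectsColimitsOfShape_of_reflectsIsomorphisms
  suffices h : IsColimit ((forget CommRingCat.{u}).mapCocone ((Under.forget R).mapCocone c)) from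
    isColimitOfReflects (forget CommRingCat.{u}) h
  refine Types.FilteredColimit.isColimitOf' _ _ ?_ ?_
  · intro x
    obtain ⟨i, b, hb⟩ := h1 x
    exact ⟨i, b, hb.symm⟩
  · intro i x' y' hxy
    obtain ⟨x, rfl⟩ : ∃ x : (D.obj i).right, x = x' := ⟨x', rfl⟩
    obtain ⟨y, rfl⟩ : ∃ y : (D.obj i).right, y = y' := ⟨y', rfl⟩
    have hxy' : (c.ι.app i).right.hom x = (c.ι.app i).right.hom y := hxy
    have : (c.ι.app i).right.hom (x - y) = 0 := by rw [map_sub, sub_eq_zero]; exact hxy'
    obtain ⟨j, h, hj⟩ := h2 i _ this
    refine ⟨j, h, ?_⟩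
    rw [map_sub, sub_eq_zero] at hj
    exact hj

end Groth.Agent.Helper24
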