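import Mathlib

/-!
# Closed subsets proper over a base: general lemmas (Mathlib only)
-/

set_option autoImplicit false

universe u

namespace Groth.Agent.Helper24.ProperOver

open CategoryTheory CategoryTheory.Limits AlgebraicGeometry TopologicalSpace

set_option backward.isDefEq.respectTransparency false in
/-- If `ℓ` is universally closed and surjective, `p` is locally of finite type and `ℓ ≫ p` is
proper, then `p` is proper (Stacks 09MQ + 0AH6). -/
lemma proper_of_surj_univClosed {T W S : Scheme.{u}} (ℓ : T ⟶ W) [UniversallyClosed ℓ]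
    [Surjective ℓ] (p : W ⟶ S) [LocallyOfFiniteType p] [IsProper (ℓ ≫ p)] : IsProper p := by
  haveI huc' : UniversallyClosed p := UniversallyClosed.of_comp_surjective ℓ p
  have hℓuc : UniversallyClosed ℓ := inferInstance
  have hm := MorphismProperty.pullbackMap (P := @UniversallyClosed)
    (f := ℓ ≫ p) (g := ℓ ≫ p) (f' := p) (g' := p) (i₁ := ℓ) (i₂ := ℓ) hℓuc hℓuc rfl rfl
  have hcomm : ℓ ≫ pullback.diagonal p =
      pullback.diagonal (ℓ ≫ p) ≫
        pullback.map (ℓ ≫ p) (ℓ ≫ p) p p ℓ ℓ (𝟙 _) ((Category.comp_id _).trans rfl)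
          ((Category.comp_id _).trans rfl) := by
    apply pullback.hom_ext <;> simp
  haveI : UniversallyClosed (ℓ ≫ pullback.diagonal p) := by
    rw [hcomm]
    haveI : UniversallyClosed (pullback.map (ℓ ≫ p) (ℓ ≫ p) p p ℓ ℓ (𝟙 _)
      ((Category.comp_id _).trans rfl) ((Category.comp_id _).trans rfl)) := hm
    infer_instance
  have hd' : UniversallyClosed (pullback.diagonal p) :=
    UniversallyClosed.of_comp_surjective ℓ _
  haveI : IsSeparated p :=
    ⟨IsClosedImmersion.of_isPreimmersion _ (pullback.diagonal p).isClosedMap.isClosed_range⟩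
  exact { }

set_option backward.isDefEq.respectTransparency false in
/-- The reduced induced structure on a closed set `Z` lifts through any closed immersion with
range `Z`; the lift is a surjective closed immersion. -/
lemma exists_lift_closedImm {T X : Scheme.{u}} (i : T ⟶ X) [IsClosedImmersion i] (Zc : Closeds X)
    (h : Set.range i = (Zc : Set X)) :
    ∃ ℓ : (Scheme.IdealSheafData.vanishingIdeal Zc).subscheme ⟶ T,
      ℓ ≫ i = (Scheme.IdealSheafData.vanishingIdeal Zc).subschemeι ∧ IsClosedImmersion ℓ ∧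
        Surjective ℓ := by
  have hker : i.ker ≤ (Scheme.IdealSheafData.vanishingIdeal Zc).subschemeι.ker := by
    rw [Scheme.IdealSheafData.ker_subschemeι,
      ← Scheme.IdealSheafData.le_support_iff_le_vanishingIdeal, ← SetLike.coe_subset_coe]
    intro x hx
    exact Scheme.Hom.range_subset_ker_support i (h ▸ hx)
  obtain ⟨ℓ, hℓ⟩ : ∃ ℓ : (Scheme.IdealSheafData.vanishingIdeal Zc).subscheme ⟶ T,
      ℓ ≫ i = (Scheme.IdealSheafData.vanishingIdeal Zc).subschemeι :=
    ⟨IsClosedImmersion.lift i _ hker, IsClosedImmersion.lift_fac _ _ _⟩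
  haveI : IsClosedImmersion (ℓ ≫ i) := by rw [hℓ]; infer_instance
  haveI hcl : IsClosedImmersion ℓ := IsClosedImmersion.of_comp ℓ i
  refine ⟨ℓ, hℓ, hcl, ⟨fun t => ?_⟩⟩
  have h1 : i t ∈ Set.range (Scheme.IdealSheafData.vanishingIdeal Zc).subschemeι := by
    rw [Scheme.IdealSheafData.range_subschemeι,
      Scheme.IdealSheafData.coe_support_vanishingIdeal, ← h]
    exact ⟨t, rfl⟩
  obtain ⟨z, hz⟩ := h1
  refine ⟨z, i.isClosedEmbedding.injective ?_⟩
  rw [← Scheme.Hom.comp_apply, hℓ, hz]

/-- If some closed immersion with range `Z` is proper over `S`, so is the reduced structure. -/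
lemma proper_red_of_closedImm {T X S : Scheme.{u}} (f : X ⟶ S) (i : T ⟶ X) [IsClosedImmersion i]
    (Zc : Closeds X) (h : Set.range i = (Zc : Set X)) [IsProper (i ≫ f)] :
    IsProper ((Scheme.IdealSheafData.vanishingIdeal Zc).subschemeι ≫ f) := by
  obtain ⟨ℓ, hℓ, hcl, -⟩ := exists_lift_closedImm i Zc h
  haveI := hcl
  rw [← hℓ, Category.assoc]
  infer_instance

/-- If the reduced structure on `Z` is proper over `S`, so is any closed subscheme structure. -/
lemma proper_closedImm_of_red {T X S : Scheme.{u}} (f : X ⟶ S) [LocallyOfFiniteType f]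
    (i : T ⟶ X) [IsClosedImmersion i] (Zc : Closeds X) (h : Set.range i = (Zc : Set X))
    [IsProper ((Scheme.IdealSheafData.vanishingIdeal Zc).subschemeι ≫ f)] :
    IsProper (i ≫ f) := by
  obtain ⟨ℓ, hℓ, hcl, hs⟩ := exists_lift_closedImm i Zc h
  haveI := hcl
  haveI := hs
  haveI : IsProper (ℓ ≫ (i ≫ f)) := by rw [← Category.assoc, hℓ]; infer_instance
  exact proper_of_surj_univClosed ℓ (i ≫ f)

set_option backward.isDefEq.respectTransparency false in
/-- The reduced structure on `Z` maps to the reduced structure on the closure of `f(Z)`. -/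
lemma exists_lift_image {X Y : Scheme.{u}} (f : X ⟶ Y) (Zc : Closeds X) (Wc : Closeds Y)
    (h : (Wc : Set Y) = closure (f '' (Zc : Set X))) :
    ∃ ℓ : (Scheme.IdealSheafData.vanishingIdeal Zc).subscheme ⟶
        (Scheme.IdealSheafData.vanishingIdeal Wc).subscheme,
      ℓ ≫ (Scheme.IdealSheafData.vanishingIdeal Wc).subschemeι =
        (Scheme.IdealSheafData.vanishingIdeal Zc).subschemeι ≫ f := by
  have hker : (Scheme.IdealSheafData.vanishingIdeal Wc).subschemeι.ker ≤
      ((Scheme.IdealSheafData.vanishingIdeal Zc).subschemeι ≫ f).ker := by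
    rw [Scheme.Hom.ker_comp, Scheme.IdealSheafData.ker_subschemeι,
      Scheme.IdealSheafData.ker_subschemeι, Scheme.IdealSheafData.map_vanishingIdeal]
    apply Scheme.IdealSheafData.vanishingIdeal_antimono
    rw [TopologicalSpace.Closeds.closure_le, h]
    exact subset_closure
  exact ⟨IsClosedImmersion.lift _ _ hker, IsClosedImmersion.lift_fac _ _ _⟩

set_option backward.isDefEq.respectTransparency false in
/-- Image of a closed subset proper over `S` under an `S`-morphism which is universally closed on
it: the image (closed) is proper over `S`. -/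
lemma proper_image {X Y S : Scheme.{u}} (p : X ⟶ S) (q : Y ⟶ S) [LocallyOfFiniteType q]
    (f : X ⟶ Y) (w : f ≫ q = p) (Zc : Closeds X)
    [IsProper ((Scheme.IdealSheafData.vanishingIdeal Zc).subschemeι ≫ p)]
    [UniversallyClosed ((Scheme.IdealSheafData.vanishingIdeal Zc).subschemeι ≫ f)]
    (Wc : Closeds Y) (h : (Wc : Set Y) = f '' (Zc : Set X)) :
    IsProper ((Scheme.IdealSheafData.vanishingIdeal Wc).subschemeι ≫ q) := by
  have h' : (Wc : Set Y) = closure (f '' (Zc : Set X)) := by
    rw [← h, Wc.isClosed.closure_eq]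
  obtain ⟨ℓ, hℓ⟩ := exists_lift_image f Zc Wc h'
  haveI : UniversallyClosed (ℓ ≫ (Scheme.IdealSheafData.vanishingIdeal Wc).subschemeι) := by
    rw [hℓ]; infer_instance
  haveI : UniversallyClosed ℓ :=
    UniversallyClosed.of_comp_of_isSeparated ℓ (Scheme.IdealSheafData.vanishingIdeal Wc).subschemeι
  haveI : Surjective ℓ := ⟨fun y => by
    have h1 : (Scheme.IdealSheafData.vanishingIdeal Wc).subschemeι y ∈ (Wc : Set Y) := by
      have h0 : (Scheme.IdealSheafData.vanishingIdeal Wc).subschemeι y ∈
          Set.range (Scheme.IdealSheafData.vanishingIdeal Wc).subschemeι := ⟨y, rfl⟩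
      rwa [Scheme.IdealSheafData.range_subschemeι,
        Scheme.IdealSheafData.coe_support_vanishingIdeal] at h0
    rw [h] at h1
    obtain ⟨x, hx, hxy⟩ := h1
    have h2 : x ∈ Set.range (Scheme.IdealSheafData.vanishingIdeal Zc).subschemeι := by
      rw [Scheme.IdealSheafData.range_subschemeι,
        Scheme.IdealSheafData.coe_support_vanishingIdeal]
      exact hx
    obtain ⟨z, hz⟩ := h2
    refine ⟨z, (Scheme.IdealSheafData.vanishingIdeal Wc).subschemeι.isClosedEmbedding.injective ?_⟩
    rw [← Scheme.Hom.comp_apply, hℓ, Scheme.Hom.comp_apply, hz, hxy]⟩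
  haveI : IsProper (ℓ ≫ (Scheme.IdealSheafData.vanishingIdeal Wc).subschemeι ≫ q) := by
    rw [← Category.assoc, hℓ, Category.assoc, w]; infer_instance
  exact proper_of_surj_univClosed ℓ _

/-- The image of a closed set under a morphism universally closed on its reduced structure is
closed. -/
lemma isClosed_image {X Y : Scheme.{u}} (f : X ⟶ Y) (Zc : Closeds X)
    [UniversallyClosed ((Scheme.IdealSheafData.vanishingIdeal Zc).subschemeι ≫ f)] :
    IsClosed (f '' (Zc : Set X)) := by
  have h := ((Scheme.IdealSheafData.vanishingIdeal Zc).subschemeι ≫ f).isClosedMap.isClosed_range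
  rwa [Scheme.Hom.comp_base, TopCat.coe_comp, Set.range_comp,
    Scheme.IdealSheafData.range_subschemeι,
    Scheme.IdealSheafData.coe_support_vanishingIdeal] at h

end Groth.Agent.Helper24.ProperOver
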