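import Mathlib
import Groth.Agent.Lib.Helper24.ProperOver

/-!
# Finite unions of closed subsets proper over a base (Mathlib only)
-/

set_option autoImplicit false

universe u

namespace Groth.Agent.Helper24.ProperOver

open CategoryTheory CategoryTheory.Limits AlgebraicGeometry TopologicalSpace

set_option backward.isDefEq.respectTransparency false in
lemma isClosed_range_comp_diagonal {T W S : Scheme.{u}} (ℓ : T ⟶ W) [UniversallyClosed ℓ]
    (p : W ⟶ S) [IsProper (ℓ ≫ p)] : IsClosed (Set.range (ℓ ≫ pullback.diagonal p)) := by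
  have hℓuc : UniversallyClosed ℓ := inferInstance
  have hm := MorphismProperty.pullbackMap (P := @UniversallyClosed)
    (f := ℓ ≫ p) (g := ℓ ≫ p) (f' := p) (g' := p) (i₁ := ℓ) (i₂ := ℓ) hℓuc hℓuc rfl rfl
  have hcomm : ℓ ≫ pullback.diagonal p =
      pullback.diagonal (ℓ ≫ p) ≫
        pullback.map (ℓ ≫ p) (ℓ ≫ p) p p ℓ ℓ (𝟙 _) ((Category.comp_id _).trans rfl)
          ((Category.comp_id _).trans rfl) := by
    apply pullback.hom_ext <;> simp
  haveI : UniversallyClosed (ℓ ≫ pullback.diagonal p) := by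
    rw [hcomm]
    haveI : UniversallyClosed (pullback.map (ℓ ≫ p) (ℓ ≫ p) p p ℓ ℓ (𝟙 _)
      ((Category.comp_id _).trans rfl) ((Category.comp_id _).trans rfl)) := hm
    infer_instance
  exact (ℓ ≫ pullback.diagonal p).isClosedMap.isClosed_range

set_option backward.isDefEq.respectTransparency false in
/-- Two jointly surjective universally closed maps `ℓ₁, ℓ₂` into `W` with `ℓ_k ≫ p` proper and `p`
locally of finite type: then `p` is proper. -/
lemma proper_of_jointly_surj {T₁ T₂ W S : Scheme.{u}} (ℓ₁ : T₁ ⟶ W) (ℓ₂ : T₂ ⟶ W)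
    [UniversallyClosed ℓ₁] [UniversallyClosed ℓ₂]
    (hs : Set.range ℓ₁ ∪ Set.range ℓ₂ = Set.univ)
    (p : W ⟶ S) [LocallyOfFiniteType p] [IsProper (ℓ₁ ≫ p)] [IsProper (ℓ₂ ≫ p)] : IsProper p := by
  haveI huc : UniversallyClosed p := by
    constructor
    intro X' Y' i₁ i₂ f' H K hK
    have h1 : IsClosedMap (pullback.fst i₁ ℓ₁ ≫ f') :=
      UniversallyClosed.universally_isClosedMap _ _ _
        ((IsPullback.of_hasPullback i₁ ℓ₁).paste_horiz H)
    have h2 : IsClosedMap (pullback.fst i₁ ℓ₂ ≫ f') :=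
      UniversallyClosed.universally_isClosedMap _ _ _
        ((IsPullback.of_hasPullback i₁ ℓ₂).paste_horiz H)
    have e : f' '' K = (pullback.fst i₁ ℓ₁ ≫ f') '' ((pullback.fst i₁ ℓ₁) ⁻¹' K) ∪
        (pullback.fst i₁ ℓ₂ ≫ f') '' ((pullback.fst i₁ ℓ₂) ⁻¹' K) := by
      ext y
      constructor
      · rintro ⟨x, hx, rfl⟩
        have hx0 : i₁ x ∈ Set.range ℓ₁ ∪ Set.range ℓ₂ := hs ▸ Set.mem_univ _
        rcases hx0 with h | h
        · have hx' : x ∈ Set.range (pullback.fst i₁ ℓ₁) := by
            rw [Scheme.Pullback.range_fst]; exact h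
          obtain ⟨z, rfl⟩ := hx'
          exact Or.inl ⟨z, hx, rfl⟩
        · have hx' : x ∈ Set.range (pullback.fst i₁ ℓ₂) := by
            rw [Scheme.Pullback.range_fst]; exact h
          obtain ⟨z, rfl⟩ := hx'
          exact Or.inr ⟨z, hx, rfl⟩
      · rintro (⟨z, hz, rfl⟩ | ⟨z, hz, rfl⟩)
        · exact ⟨_, hz, rfl⟩
        · exact ⟨_, hz, rfl⟩
    show IsClosed (f' '' K)
    rw [e]
    exact (h1 _ (hK.preimage (Scheme.Hom.continuous _))).union
      (h2 _ (hK.preimage (Scheme.Hom.continuous _)))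
  haveI : IsSeparated p := by
    have hr : Set.range (pullback.diagonal p) =
        Set.range (ℓ₁ ≫ pullback.diagonal p) ∪ Set.range (ℓ₂ ≫ pullback.diagonal p) := by
      simp only [Scheme.Hom.comp_base, TopCat.coe_comp, Set.range_comp]
      rw [← Set.image_union, hs, Set.image_univ]
    have hcl : IsClosed (Set.range (pullback.diagonal p)) := by
      rw [hr]
      exact (isClosed_range_comp_diagonal ℓ₁ p).union (isClosed_range_comp_diagonal ℓ₂ p)
    exact ⟨IsClosedImmersion.of_isPreimmersion _ hcl⟩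
  exact { }

set_option backward.isDefEq.respectTransparency false in
/-- Binary union of closed subsets proper over `S`. -/
lemma proper_union {X S : Scheme.{u}} (f : X ⟶ S) [LocallyOfFiniteType f] (A B C : Closeds X)
    (h : (C : Set X) = (A : Set X) ∪ (B : Set X))
    [IsProper ((Scheme.IdealSheafData.vanishingIdeal A).subschemeι ≫ f)]
    [IsProper ((Scheme.IdealSheafData.vanishingIdeal B).subschemeι ≫ f)] :
    IsProper ((Scheme.IdealSheafData.vanishingIdeal C).subschemeι ≫ f) := by
  have hA : A ≤ C := by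
    rw [← SetLike.coe_subset_coe, h]; exact Set.subset_union_left
  have hB : B ≤ C := by
    rw [← SetLike.coe_subset_coe, h]; exact Set.subset_union_right
  obtain ⟨ℓ₁, e₁⟩ : ∃ ℓ₁ : (Scheme.IdealSheafData.vanishingIdeal A).subscheme ⟶
      (Scheme.IdealSheafData.vanishingIdeal C).subscheme,
      ℓ₁ ≫ (Scheme.IdealSheafData.vanishingIdeal C).subschemeι =
        (Scheme.IdealSheafData.vanishingIdeal A).subschemeι :=
    ⟨Scheme.IdealSheafData.inclusion (Scheme.IdealSheafData.vanishingIdeal_antimono hA),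
      Scheme.IdealSheafData.inclusion_subschemeι _⟩
  obtain ⟨ℓ₂, e₂⟩ : ∃ ℓ₂ : (Scheme.IdealSheafData.vanishingIdeal B).subscheme ⟶
      (Scheme.IdealSheafData.vanishingIdeal C).subscheme,
      ℓ₂ ≫ (Scheme.IdealSheafData.vanishingIdeal C).subschemeι =
        (Scheme.IdealSheafData.vanishingIdeal B).subschemeι :=
    ⟨Scheme.IdealSheafData.inclusion (Scheme.IdealSheafData.vanishingIdeal_antimono hB),
      Scheme.IdealSheafData.inclusion_subschemeι _⟩
  haveI : IsClosedImmersion (ℓ₁ ≫ (Scheme.IdealSheafData.vanishingIdeal C).subschemeι) := by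
    rw [e₁]; infer_instance
  haveI : IsClosedImmersion (ℓ₂ ≫ (Scheme.IdealSheafData.vanishingIdeal C).subschemeι) := by
    rw [e₂]; infer_instance
  haveI : IsClosedImmersion ℓ₁ :=
    IsClosedImmersion.of_comp ℓ₁ (Scheme.IdealSheafData.vanishingIdeal C).subschemeι
  haveI : IsClosedImmersion ℓ₂ :=
    IsClosedImmersion.of_comp ℓ₂ (Scheme.IdealSheafData.vanishingIdeal C).subschemeι
  haveI : IsProper (ℓ₁ ≫ (Scheme.IdealSheafData.vanishingIdeal C).subschemeι ≫ f) := by
    rw [← Category.assoc, e₁]; infer_instance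
  haveI : IsProper (ℓ₂ ≫ (Scheme.IdealSheafData.vanishingIdeal C).subschemeι ≫ f) := by
    rw [← Category.assoc, e₂]; infer_instance
  have hs : Set.range ℓ₁ ∪ Set.range ℓ₂ = Set.univ := by
    rw [Set.eq_univ_iff_forall]
    intro x
    have h0 : (Scheme.IdealSheafData.vanishingIdeal C).subschemeι x ∈ (C : Set X) := by
      have h00 : (Scheme.IdealSheafData.vanishingIdeal C).subschemeι x ∈
          Set.range (Scheme.IdealSheafData.vanishingIdeal C).subschemeι := ⟨x, rfl⟩
      rwa [Scheme.IdealSheafData.range_subschemeι,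
        Scheme.IdealSheafData.coe_support_vanishingIdeal] at h00
    rw [h] at h0
    rcases h0 with h1 | h1
    · left
      have h2 : (Scheme.IdealSheafData.vanishingIdeal C).subschemeι x ∈
          Set.range (Scheme.IdealSheafData.vanishingIdeal A).subschemeι := by
        rw [Scheme.IdealSheafData.range_subschemeι,
          Scheme.IdealSheafData.coe_support_vanishingIdeal]
        exact h1
      obtain ⟨a, ha⟩ := h2
      refine ⟨a, (Scheme.IdealSheafData.vanishingIdeal C).subschemeι.isClosedEmbedding.injective ?_⟩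
      rw [← Scheme.Hom.comp_apply, e₁, ha]
    · right
      have h2 : (Scheme.IdealSheafData.vanishingIdeal C).subschemeι x ∈
          Set.range (Scheme.IdealSheafData.vanishingIdeal B).subschemeι := by
        rw [Scheme.IdealSheafData.range_subschemeι,
          Scheme.IdealSheafData.coe_support_vanishingIdeal]
        exact h1
      obtain ⟨a, ha⟩ := h2
      refine ⟨a, (Scheme.IdealSheafData.vanishingIdeal C).subschemeι.isClosedEmbedding.injective ?_⟩
      rw [← Scheme.Hom.comp_apply, e₂, ha]
  exact proper_of_jointly_surj ℓ₁ ℓ₂ hs _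

set_option backward.isDefEq.respectTransparency false in
/-- The empty closed subset is proper over `S`. -/
lemma proper_empty {X S : Scheme.{u}} (f : X ⟶ S) (C : Closeds X) (h : (C : Set X) = ∅) :
    IsProper ((Scheme.IdealSheafData.vanishingIdeal C).subschemeι ≫ f) := by
  haveI : IsEmpty ↥(Scheme.IdealSheafData.vanishingIdeal C).subscheme := by
    rw [← Set.range_eq_empty_iff (f := ⇑(Scheme.IdealSheafData.vanishingIdeal C).subschemeι),
      Scheme.IdealSheafData.range_subschemeι, Scheme.IdealSheafData.coe_support_vanishingIdeal, h]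
  haveI : IsClosedImmersion ((Scheme.IdealSheafData.vanishingIdeal C).subschemeι ≫ f) :=
    inferInstance
  infer_instance

end Groth.Agent.Helper24.ProperOver
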