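import Mathlib
import Groth.Agent.H29.RegLocal2

/-! Regularity of `R/(f)` when a derivation takes `f` to a unit mod `f`. -/

universe u

namespace Groth.Agent.Helper24.RegDer

open IsLocalRing

variable {R : Type u} [CommRing R]

lemma deriv_sq_mem (D : Derivation ℤ R R) (q : Ideal R) {y : R} (hy : y ∈ q ^ 2) : D y ∈ q := by
  rw [pow_two] at hy
  have hy' : y ∈ q • q := by rwa [Ideal.smul_eq_mul]
  refine Submodule.smul_induction_on hy' ?_ ?_
  · intro a ha b hb
    rw [smul_eq_mul, Derivation.leibniz, smul_eq_mul, smul_eq_mul]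
    exact q.add_mem (q.mul_mem_right _ ha) (q.mul_mem_right _ hb)
  · intro x y hx hy
    rw [map_add]; exact q.add_mem hx hy

theorem isRegularRing_quotient_of_derivation [IsRegularRing R] (f : R) (D : Derivation ℤ R R)
    (hD : IsUnit (Ideal.Quotient.mk (Ideal.span {f}) (D f))) :
    IsRegularRing (R ⧸ Ideal.span ({f} : Set R)) := by
  haveI : IsNoetherianRing R := inferInstance
  set I : Ideal R := Ideal.span {f} with hI
  rw [isRegularRing_iff]
  intro P hP
  let q : Ideal R := P.comap (Ideal.Quotient.mk I)
  haveI hq : q.IsPrime := Ideal.comap_isPrime _ _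
  have hfq : f ∈ q := by
    show Ideal.Quotient.mk I f ∈ P
    have h0 : Ideal.Quotient.mk I f = 0 :=
      Ideal.Quotient.eq_zero_iff_mem.2 (Ideal.mem_span_singleton_self f)
    rw [h0]; exact P.zero_mem
  have hIq : I ≤ q := by rw [hI, Ideal.span_singleton_le_iff_mem]; exact hfq
  have hDf : D f ∉ q := by
    intro hmem
    obtain ⟨v, hv⟩ := hD.exists_left_inv
    obtain ⟨u, rfl⟩ := Ideal.Quotient.mk_surjective v
    rw [← map_mul, ← map_one (Ideal.Quotient.mk I), Ideal.Quotient.eq] at hv
    have h1 : u * D f - 1 ∈ q := hIq hv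
    have h2 : u * D f ∈ q := q.mul_mem_left u hmem
    have h3 : (1 : R) ∈ q := by
      have := q.sub_mem h2 h1
      simpa using this
    exact hq.ne_top ((Ideal.eq_top_iff_one q).2 h3)
  let x : Localization.AtPrime q := algebraMap R (Localization.AtPrime q) f
  have hx : x ∈ maximalIdeal (Localization.AtPrime q) :=
    (IsLocalization.AtPrime.to_map_mem_maximal_iff (Localization.AtPrime q) q f).2 hfq
  have hx2 : x ∉ maximalIdeal (Localization.AtPrime q) ^ 2 := by
    rw [← Localization.AtPrime.map_eq_maximalIdeal, ← Ideal.map_pow]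
    intro hmem
    obtain ⟨w, hw, hwf⟩ := (IsLocalization.algebraMap_mem_map_algebraMap_iff q.primeCompl
      (Localization.AtPrime q) (q ^ 2) f).1 hmem
    have h3 : D (w * f) ∈ q := deriv_sq_mem D q hwf
    rw [Derivation.leibniz, smul_eq_mul, smul_eq_mul] at h3
    have h4 : f * D w ∈ q := q.mul_mem_right _ hfq
    have h5 : w * D f ∈ q := by
      have := q.sub_mem h3 h4
      simpa using this
    rcases hq.mem_or_mem h5 with h | h
    · exact hw h
    · exact hDf h
  haveI : IsRegularLocalRing (Localization.AtPrime q) := inferInstance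
  have hreg := (Groth.Agent.H29.isRegularLocalRing_quotient_span_singleton
    (Localization.AtPrime q) x hx hx2).1
  have hmap : I.map (algebraMap R (Localization.AtPrime q)) = Ideal.span {x} := by
    rw [hI, Ideal.map_span, Set.image_singleton]
  have hloc : IsLocalization (Algebra.algebraMapSubmonoid (R ⧸ I) q.primeCompl)
      (Localization.AtPrime q ⧸ I.map (algebraMap R (Localization.AtPrime q))) := inferInstance
  have hsub : Algebra.algebraMapSubmonoid (R ⧸ I) q.primeCompl = P.primeCompl := by
    ext y
    constructor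
    · rintro ⟨z, hz, rfl⟩
      exact fun h => hz h
    · intro hy
      obtain ⟨z, rfl⟩ := Ideal.Quotient.mk_surjective y
      exact ⟨z, fun h => hy h, rfl⟩
  rw [hsub] at hloc
  let e1 : Localization.AtPrime P ≃ₐ[R ⧸ I]
      (Localization.AtPrime q ⧸ I.map (algebraMap R (Localization.AtPrime q))) :=
    IsLocalization.algEquiv P.primeCompl _ _
  let e2 : (Localization.AtPrime q ⧸ I.map (algebraMap R (Localization.AtPrime q))) ≃+*
      (Localization.AtPrime q ⧸ Ideal.span {x}) := Ideal.quotEquivOfEq hmap
  exact IsRegularLocalRing.of_ringEquiv (e1.toRingEquiv.trans e2).symm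

end Groth.Agent.Helper24.RegDer
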