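import Mathlib
import Groth.Agent.H29.RegParam
import Groth.Agent.Lib.Helper24.RegDer

/-! Jacobian-type criterion in a regular local ring via derivations. -/

universe u

namespace Groth.Agent.Helper24.RegDer

open IsLocalRing

lemma range_append {α : Type*} {m n : ℕ} (a : Fin m → α) (b : Fin n → α) :
    Set.range (Fin.append a b) = Set.range a ∪ Set.range b := by
  ext x; constructor
  · rintro ⟨i, rfl⟩
    refine Fin.addCases (fun i => ?_) (fun i => ?_) i
    · left; exact ⟨i, by rw [Fin.append_left]⟩
    · right; exact ⟨i, by rw [Fin.append_right]⟩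
  · rintro (⟨i, rfl⟩ | ⟨i, rfl⟩)
    · exact ⟨Fin.castAdd n i, Fin.append_left a b i⟩
    · exact ⟨Fin.natAdd m i, Fin.append_right a b i⟩

variable {R : Type u} [CommRing R]

theorem linearIndependent_of_det_unit [IsLocalRing R] {m : ℕ} (f : Fin m → R)
    (hf : ∀ i, f i ∈ maximalIdeal R) (D : Fin m → Derivation ℤ R R)
    (hdet : IsUnit (Matrix.det (Matrix.of (fun i j : Fin m => D i (f j))))) :
    LinearIndependent (ResidueField R)
      (fun i => (maximalIdeal R).toCotangent (⟨f i, hf i⟩ : maximalIdeal R)) := by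
  classical
  rw [Fintype.linearIndependent_iff]
  intro g hg
  have hsurj : ∀ j, ∃ c : R, IsLocalRing.residue R c = g j :=
    fun j => IsLocalRing.residue_surjective (g j)
  choose c hc using hsurj
  let w : maximalIdeal R := ∑ j, c j • (⟨f j, hf j⟩ : maximalIdeal R)
  have hw0 : (maximalIdeal R).toCotangent w = 0 := by
    rw [← hg, map_sum]
    refine Finset.sum_congr rfl (fun j _ => ?_)
    rw [map_smul, ← hc j, ← IsLocalRing.ResidueField.algebraMap_eq, algebraMap_smul]
  have hw : (w : R) = ∑ j, c j * f j := by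
    simp [w, Submodule.coe_sum]
  have hy : (∑ j, c j * f j) ∈ maximalIdeal R ^ 2 := by
    rw [← hw]; exact (Ideal.toCotangent_eq_zero _ w).1 hw0
  set A : Matrix (Fin m) (Fin m) R := Matrix.of (fun i j : Fin m => D i (f j)) with hA
  have hAc : ∀ i, (A.mulVec c) i ∈ maximalIdeal R := by
    intro i
    have h1 : D i (∑ j, c j * f j) ∈ maximalIdeal R := deriv_sq_mem (D i) _ hy
    rw [map_sum] at h1
    have h2 : ∑ j, D i (c j * f j) = (A.mulVec c) i + ∑ j, f j * D i (c j) := by
      rw [Matrix.mulVec, dotProduct, ← Finset.sum_add_distrib]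
      refine Finset.sum_congr rfl (fun j _ => ?_)
      rw [Derivation.leibniz, smul_eq_mul, smul_eq_mul, hA, Matrix.of_apply]
      ring
    rw [h2] at h1
    have h3 : ∑ j, f j * D i (c j) ∈ maximalIdeal R :=
      Ideal.sum_mem _ (fun j _ => Ideal.mul_mem_right _ _ (hf j))
    have := (maximalIdeal R).sub_mem h1 h3
    simpa using this
  intro j
  have h4 : A.det * c j ∈ maximalIdeal R := by
    have h5 : (A.adjugate.mulVec (A.mulVec c)) j = A.det * c j := by
      rw [Matrix.mulVec_mulVec, Matrix.adjugate_mul, Matrix.smul_mulVec, Matrix.one_mulVec]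
      rfl
    rw [← h5, Matrix.mulVec, dotProduct]
    exact Ideal.sum_mem _ (fun i _ => Ideal.mul_mem_left _ _ (hAc i))
  have h6 : c j ∈ maximalIdeal R := (Ideal.unit_mul_mem_iff_mem _ hdet).1 h4
  rw [← hc j]
  exact (IsLocalRing.residue_eq_zero_iff _).2 h6

theorem regular_of_det_unit [IsRegularLocalRing R] {m : ℕ} (f : Fin m → R)
    (hf : ∀ i, f i ∈ maximalIdeal R) (D : Fin m → Derivation ℤ R R)
    (hdet : IsUnit (Matrix.det (Matrix.of (fun i j : Fin m => D i (f j))))) :
    IsRegularLocalRing (R ⧸ Ideal.span (Set.range f)) ∧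
      RingTheory.Sequence.IsRegular R (List.ofFn f) := by
  classical
  have hli := linearIndependent_of_det_unit f hf D hdet
  let x : Fin m → maximalIdeal R := fun i => ⟨f i, hf i⟩
  have hxf : (fun i => ((x i : maximalIdeal R) : R)) = f := rfl
  refine ⟨?_, ?_⟩
  · have h := (Groth.Agent.H29.isRegularLocalRing_quotient_of_linearIndependent R x hli).2
    rw [hxf] at h
    exact h
  · obtain ⟨s, y, hrs, hspan⟩ := Groth.Agent.H29.exists_extension_generators R x hli
    rw [hxf] at hspan
    have hd : ringKrullDim R = ((m + s : ℕ) : WithBot ℕ∞) := by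
      rw [hrs]; exact (IsRegularLocalRing.spanFinrank_maximalIdeal (R := R)).symm
    let z : Fin (m + s) → R := Fin.append f (fun j => ((y j : maximalIdeal R) : R))
    have hz : Ideal.span (Set.range z) = maximalIdeal R := by
      rw [range_append]; exact hspan
    have hreg := Groth.Agent.H29.isRegular_ofFn_of_span_eq_maximalIdeal R (m + s) hd z hz
    have hw : RingTheory.Sequence.IsWeaklyRegular R (List.ofFn f) := by
      have h1 := hreg.toIsWeaklyRegular
      rw [show List.ofFn z = List.ofFn f ++ List.ofFn (fun j => ((y j : maximalIdeal R) : R)) from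
        List.ofFn_fin_append _ _] at h1
      exact ((RingTheory.Sequence.isWeaklyRegular_append_iff R _ _).1 h1).1
    refine RingTheory.Sequence.IsRegular.of_isWeaklyRegular_of_mem_maximalIdeal R ?_ hw
    intro r hr
    rw [List.mem_ofFn] at hr
    obtain ⟨i, rfl⟩ := hr
    exact hf i

end Groth.Agent.Helper24.RegDer
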