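import Mathlib
import Groth.Prelude.Def_RootCh

/-!
# Helper library for the RootCh cluster, part A: coordinates of roots/coroots in a base,
fundamental weights as a dual basis, comparison of root and coroot coordinates.
-/

set_option autoImplicit false

namespace Groth.Agent.Helper24.RC

open RootCh Module

universe u v w x
variable {ι : Type u} {R : Type v} {M : Type w} {N : Type x}

section Basic
variable [CommRing R] [AddCommGroup M] [Module R M] [AddCommGroup N] [Module R N]
variable {P : RootPairing ι R M N} [P.IsRootSystem]

theorem toLinearMap_fundWeight (b : P.Base) (i : b.support) :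
    P.toLinearMap (fundWeight b i) = b.toCoweightBasis.coord i := by
  unfold fundWeight
  exact P.toLinearMap.apply_symm_toPerfPair_self _

theorem pair_fundWeight (b : P.Base) (i : b.support) (x : N) :
    P.toLinearMap (fundWeight b i) x = b.toCoweightBasis.repr x i := by
  rw [toLinearMap_fundWeight, Basis.coord_apply]

theorem pair_fundCoweight (b : P.Base) (i : b.support) (m : M) :
    P.toLinearMap m (fundCoweight b i) = b.toWeightBasis.repr m i :=
  pair_fundWeight (P := P.flip) b.flip i m

theorem pair_fundWeight_coroot_self (b : P.Base) (i : b.support) :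
    P.toLinearMap (fundWeight b i) (P.coroot i) = 1 := by
  classical
  rw [pair_fundWeight, b.toCoweightBasis_repr_coroot, Finsupp.single_eq_same]

theorem pair_fundWeight_coroot_ne (b : P.Base) {i j : b.support} (h : j ≠ i) :
    P.toLinearMap (fundWeight b i) (P.coroot j) = 0 := by
  classical
  rw [pair_fundWeight, b.toCoweightBasis_repr_coroot, Finsupp.single_apply, if_neg h]

theorem pair_root_fundCoweight_self (b : P.Base) (i : b.support) :
    P.toLinearMap (P.root i) (fundCoweight b i) = 1 := by
  classical
  rw [pair_fundCoweight, b.toWeightBasis_repr_root, Finsupp.single_eq_same]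

theorem pair_root_fundCoweight_ne (b : P.Base) {i j : b.support} (h : j ≠ i) :
    P.toLinearMap (P.root j) (fundCoweight b i) = 0 := by
  classical
  rw [pair_fundCoweight, b.toWeightBasis_repr_root, Finsupp.single_apply, if_neg h]

/-- expansion of an element of `N` in simple coroots -/
theorem expand_N (b : P.Base) (x : N) :
    x = ∑ i : b.support, P.toLinearMap (fundWeight b i) x • P.coroot i := by
  conv_lhs => rw [← b.toCoweightBasis.sum_repr x]
  refine Finset.sum_congr rfl fun i _ => ?_
  rw [pair_fundWeight, b.toCoweightBasis_apply]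

/-- expansion of an element of `M` in simple roots -/
theorem expand_M (b : P.Base) (m : M) :
    m = ∑ i : b.support, P.toLinearMap m (fundCoweight b i) • P.root i := by
  conv_lhs => rw [← b.toWeightBasis.sum_repr m]
  refine Finset.sum_congr rfl fun i _ => ?_
  rw [pair_fundCoweight, b.toWeightBasis_apply]

/-- two elements of `M` with the same pairings against simple coroots are equal -/
theorem eq_of_pair_coroot (b : P.Base) {m m' : M}
    (h : ∀ i : b.support, P.toLinearMap m (P.coroot i) = P.toLinearMap m' (P.coroot i)) : m = m' := by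
  apply P.toPerfPair.injective
  apply b.toCoweightBasis.ext
  intro i
  simpa using h i

/-- two elements of `N` with the same pairings against simple roots are equal -/
theorem eq_of_pair_root (b : P.Base) {y y' : N}
    (h : ∀ i : b.support, P.toLinearMap (P.root i) y = P.toLinearMap (P.root i) y') : y = y' :=
  eq_of_pair_coroot (P := P.flip) b.flip h

/-- expansion of an element of `M` in fundamental weights -/
theorem expand_fund (b : P.Base) (m : M) :
    m = ∑ i : b.support, P.toLinearMap m (P.coroot i) • fundWeight b i := by
  classical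
  apply eq_of_pair_coroot b
  intro j
  rw [map_sum, LinearMap.sum_apply, Finset.sum_eq_single j]
  · rw [map_smul, LinearMap.smul_apply, pair_fundWeight_coroot_self, smul_eq_mul, mul_one]
  · intro i _ hij
    rw [map_smul, LinearMap.smul_apply, pair_fundWeight_coroot_ne b (Ne.symm hij), smul_zero]
  · intro h; exact absurd (Finset.mem_univ j) h

/-- coordinates of a coroot in the simple coroots are natural numbers, or all negatives of such -/
theorem cc_nat_or_neg (b : P.Base) (j : ι) :
    (∀ i : b.support, ∃ n : ℕ, P.toLinearMap (fundWeight b i) (P.coroot j) = (n : R)) ∨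
    (∀ i : b.support, ∃ n : ℕ, P.toLinearMap (fundWeight b i) (P.coroot j) = -(n : R)) := by
  have key : ∀ x ∈ AddSubmonoid.closure (P.coroot '' (b.support : Set ι)), ∀ i : b.support,
      ∃ n : ℕ, P.toLinearMap (fundWeight b i) x = (n : R) := by
    intro x hx i
    refine AddSubmonoid.closure_induction
      (motive := fun x _ => ∃ n : ℕ, P.toLinearMap (fundWeight b i) x = (n : R)) ?_ ?_ ?_ hx
    · rintro _ ⟨k, hk, rfl⟩
      by_cases hki : (⟨k, hk⟩ : b.support) = i
      · subst hki
        exact ⟨1, by simpa using pair_fundWeight_coroot_self b ⟨k, hk⟩⟩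
      · exact ⟨0, by simpa using pair_fundWeight_coroot_ne b hki⟩
    · exact ⟨0, by simp⟩
    · rintro x y _ _ ⟨n, hn⟩ ⟨m, hm⟩
      exact ⟨n + m, by rw [map_add, hn, hm, Nat.cast_add]⟩
  rcases b.coroot_mem_or_neg_mem j with h | h
  · left; exact key _ h
  · right
    intro i
    obtain ⟨n, hn⟩ := key _ h i
    refine ⟨n, ?_⟩
    rw [map_neg] at hn
    rw [← hn, neg_neg]

/-- coordinates of a root in the simple roots are natural numbers, or all negatives of such -/
theorem rc_nat_or_neg (b : P.Base) (j : ι) :
    (∀ i : b.support, ∃ n : ℕ, P.toLinearMap (P.root j) (fundCoweight b i) = (n : R)) ∨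
    (∀ i : b.support, ∃ n : ℕ, P.toLinearMap (P.root j) (fundCoweight b i) = -(n : R)) :=
  cc_nat_or_neg (P := P.flip) b.flip j

theorem cc_int (b : P.Base) (i : b.support) (j : ι) :
    ∃ z : ℤ, P.toLinearMap (fundWeight b i) (P.coroot j) = (z : R) := by
  rcases cc_nat_or_neg b j with h | h
  · obtain ⟨n, hn⟩ := h i; exact ⟨n, by rw [hn]; simp⟩
  · obtain ⟨n, hn⟩ := h i; exact ⟨-n, by rw [hn]; simp⟩

theorem rc_int (b : P.Base) (i : b.support) (j : ι) :
    ∃ z : ℤ, P.toLinearMap (P.root j) (fundCoweight b i) = (z : R) :=
  cc_int (P := P.flip) b.flip i j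

end Basic

section Ordered
variable [Field R] [LinearOrder R] [IsStrictOrderedRing R]
  [AddCommGroup M] [Module R M] [AddCommGroup N] [Module R N]
variable {P : RootPairing ι R M N} [P.IsRootSystem]

theorem rootForm_root_pos [Fintype ι] (j : ι) : 0 < P.RootForm (P.root j) (P.root j) :=
  P.rootForm_pos_of_ne_zero (Submodule.subset_span ⟨j, rfl⟩) (P.ne_zero j)

/-- comparison of the coordinates of a coroot and of the corresponding root -/
theorem rootForm_mul_cc [Fintype ι] (b : P.Base) (i : b.support) (j : ι) :
    P.RootForm (P.root j) (P.root j) * P.toLinearMap (fundWeight b i) (P.coroot j) =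
      P.RootForm (P.root i) (P.root i) * P.toLinearMap (P.root j) (fundCoweight b i) := by
  classical
  have key : (2 : R) • (P.toLinearMap (fundWeight b i) ∘ₗ P.Polarization) =
      P.RootForm (P.root i) (P.root i) • (P.toLinearMap.flip (fundCoweight b i)) := by
    apply b.toWeightBasis.ext
    intro k
    have h := congrArg (P.toLinearMap (fundWeight b i)) (P.rootForm_self_smul_coroot k)
    simp only [map_smul, map_nsmul, smul_eq_mul, nsmul_eq_mul, Nat.cast_ofNat] at h
    simp only [LinearMap.smul_apply, LinearMap.comp_apply, b.toWeightBasis_apply, smul_eq_mul,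
      LinearMap.flip_apply]
    rw [← h]
    by_cases hki : k = i
    · subst hki; rw [pair_fundWeight_coroot_self, pair_root_fundCoweight_self]
    · rw [pair_fundWeight_coroot_ne b hki, pair_root_fundCoweight_ne b hki, mul_zero, mul_zero]
  have h1 := LinearMap.congr_fun key (P.root j)
  have h2 := congrArg (P.toLinearMap (fundWeight b i)) (P.rootForm_self_smul_coroot j)
  simp only [map_smul, map_nsmul, smul_eq_mul, nsmul_eq_mul, Nat.cast_ofNat] at h2
  simp only [LinearMap.smul_apply, LinearMap.comp_apply, smul_eq_mul, LinearMap.flip_apply] at h1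
  rw [h2, h1]

theorem sign_cc_eq_sign_rc [Finite ι] (b : P.Base) (i : b.support) (j : ι) :
    SignType.sign (P.toLinearMap (fundWeight b i) (P.coroot j)) =
      SignType.sign (P.toLinearMap (P.root j) (fundCoweight b i)) := by
  have := Fintype.ofFinite ι
  have h1 := congrArg SignType.sign (rootForm_mul_cc b i j)
  rwa [sign_mul, sign_mul, sign_pos (rootForm_root_pos j), sign_pos (rootForm_root_pos (i : ι)),
    one_mul, one_mul] at h1

theorem sgnVec_fundWeight [Finite ι] (b : P.Base) (i : b.support) :
    sgnVec P (fundWeight b i) = cosgnVec P (fundCoweight b i) :=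
  funext fun j => sign_cc_eq_sign_rc b i j

/-- the correspondence between fundamental weights and coweights is well defined -/
theorem fundCoweight_eq_of_fundWeight_eq [Finite ι] {b b' : P.Base} {i : b.support}
    {i' : b'.support} (h : fundWeight b i = fundWeight b' i') :
    fundCoweight b i = fundCoweight b' i' := by
  classical
  have := Fintype.ofFinite ι
  have e1 : ∀ j : ι, P.RootForm (P.root i) (P.root i) * P.toLinearMap (P.root j) (fundCoweight b i)
      = P.RootForm (P.root i') (P.root i') * P.toLinearMap (P.root j) (fundCoweight b' i') := by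
    intro j
    rw [← rootForm_mul_cc b i j, ← rootForm_mul_cc b' i' j, h]
  obtain ⟨z, hz⟩ := rc_int b' i' (i : ι)
  obtain ⟨z', hz'⟩ := rc_int b i (i' : ι)
  have e2 := e1 i
  have e3 := e1 i'
  rw [pair_root_fundCoweight_self, hz, mul_one] at e2
  rw [pair_root_fundCoweight_self, hz', mul_one] at e3
  have hq := rootForm_root_pos (P := P) (i : ι)
  have hq' := rootForm_root_pos (P := P) (i' : ι)
  have hzpos : (0 : R) < z := by
    rw [e2] at hq
    exact (mul_pos_iff_of_pos_left hq').mp hq
  have hzz : (z' : R) * z = 1 := by
    have : P.RootForm (P.root i) (P.root i) * ((z' : R) * z) = P.RootForm (P.root i) (P.root i) * 1 := by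
      rw [← mul_assoc, e3, ← e2, mul_one]
    exact mul_left_cancel₀ hq.ne' this
  have hzz' : z' * z = 1 := by exact_mod_cast hzz
  have hz1 : z = 1 := by
    have hzpos' : 0 < z := by exact_mod_cast hzpos
    rcases Int.mul_eq_one_iff_eq_one_or_neg_one.mp hzz' with ⟨_, h1⟩ | ⟨_, h1⟩
    · exact h1
    · omega
  rw [hz1, Int.cast_one, mul_one] at e2
  apply eq_of_pair_root b
  intro k
  have := e1 k
  rw [e2] at this
  exact mul_left_cancel₀ hq'.ne' this

end Ordered

end Groth.Agent.Helper24.RC
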