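import Groth.Agent.Lib.Helper24.RootChA

/-!
# Helper library for the RootCh cluster, part B: closed chambers are fundamental domains,
existence of a chamber containing a vector, corners of a facet.
-/

set_option autoImplicit false

namespace Groth.Agent.Helper24.RC

open RootCh Module

universe u v w x
variable {ι : Type u} {R : Type v} {M : Type w} {N : Type x}
variable [Field R] [LinearOrder R] [IsStrictOrderedRing R]
  [AddCommGroup M] [Module R M] [AddCommGroup N] [Module R N]
variable {P : RootPairing ι R M N} [P.IsRootSystem]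

theorem cc_nonneg_or_nonpos (b : P.Base) (j : ι) :
    (∀ i : b.support, 0 ≤ P.toLinearMap (fundWeight b i) (P.coroot j)) ∨
    (∀ i : b.support, P.toLinearMap (fundWeight b i) (P.coroot j) ≤ 0) := by
  rcases cc_nat_or_neg b j with h | h
  · left; intro i; obtain ⟨n, hn⟩ := h i; rw [hn]; exact Nat.cast_nonneg n
  · right; intro i; obtain ⟨n, hn⟩ := h i; rw [hn]; exact neg_nonpos.mpr (Nat.cast_nonneg n)

/-- pairing of a vector with a coroot in terms of pairings with simple coroots -/
theorem pair_coroot_eq_sum (b : P.Base) (ξ : M) (j : ι) :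
    P.toLinearMap ξ (P.coroot j) =
      ∑ i : b.support, P.toLinearMap (fundWeight b i) (P.coroot j) *
        P.toLinearMap ξ (P.coroot i) := by
  conv_lhs => rw [expand_N b (P.coroot j)]
  rw [map_sum]
  refine Finset.sum_congr rfl fun i _ => ?_
  rw [map_smul, smul_eq_mul]

theorem fundWeight_injective (b : P.Base) : Function.Injective (fundWeight b) := by
  intro i j h
  by_contra hij
  have h1 := pair_fundWeight_coroot_self b i
  rw [h, pair_fundWeight_coroot_ne b hij] at h1
  exact zero_ne_one h1

theorem linearIndependent_fundWeight (b : P.Base) : LinearIndependent R (fundWeight b) := by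
  classical
  rw [linearIndependent_iff']
  intro s g hg i hi
  have h1 := congrArg (fun m => P.toLinearMap m (P.coroot i)) hg
  simp only [map_sum, LinearMap.sum_apply, map_smul, LinearMap.smul_apply, smul_eq_mul, map_zero,
    LinearMap.zero_apply] at h1
  rw [Finset.sum_eq_single i] at h1
  · rwa [pair_fundWeight_coroot_self, mul_one] at h1
  · intro k _ hki; rw [pair_fundWeight_coroot_ne b (Ne.symm hki), mul_zero]
  · intro h; exact absurd hi h

theorem fundWeight_mem_closedChamber (b : P.Base) (i : b.support) :
    fundWeight b i ∈ closedChamber b := by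
  intro j hj
  show 0 ≤ P.toLinearMap (fundWeight b i) (P.coroot j)
  by_cases hji : (⟨j, hj⟩ : b.support) = i
  · subst hji
    have := pair_fundWeight_coroot_self b ⟨j, hj⟩
    simp only at this
    rw [this]; exact zero_le_one
  · have := pair_fundWeight_coroot_ne b hji
    simp only at this
    rw [this]

/-- **Closed chambers are fundamental domains** (for fundamental weights): a fundamental weight of
some base lying in the closed chamber of `b` is a fundamental weight of `b`. -/
theorem exists_fundWeight_eq_of_mem_closedChamber (b b' : P.Base) (i' : b'.support)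
    (h : fundWeight b' i' ∈ closedChamber b) :
    ∃ i : b.support, fundWeight b i = fundWeight b' i' := by
  classical
  have ha : ∀ j : b.support, 0 ≤ P.toLinearMap (fundWeight b' i') (P.coroot j) := fun j => h j j.2
  have hi : ∀ j : b.support, P.toLinearMap (fundWeight b' i') (P.coroot j) ≠ 0 → ∀ x : N,
      P.toLinearMap (fundWeight b' i') x = 0 → P.toLinearMap (fundWeight b j) x = 0 := by
    intro j hj x hx
    have hk : ∀ k : b'.support, k ≠ i' → P.toLinearMap (fundWeight b j) (P.coroot k) = 0 := by
      intro k hk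
      have h0 : P.toLinearMap (fundWeight b' i') (P.coroot k) = 0 := pair_fundWeight_coroot_ne b' hk
      rw [pair_coroot_eq_sum b (fundWeight b' i') k] at h0
      have hterm : P.toLinearMap (fundWeight b j) (P.coroot k) *
          P.toLinearMap (fundWeight b' i') (P.coroot j) = 0 := by
        rcases cc_nonneg_or_nonpos b (k : ι) with hs | hs
        · exact (Finset.sum_eq_zero_iff_of_nonneg
            (fun l _ => mul_nonneg (hs l) (ha l))).mp h0 j (Finset.mem_univ j)
        · exact (Finset.sum_eq_zero_iff_of_nonpos
            (fun l _ => mul_nonpos_of_nonpos_of_nonneg (hs l) (ha l))).mp h0 j (Finset.mem_univ j)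
      exact (mul_eq_zero.mp hterm).resolve_right hj
    rw [expand_N b' x, map_sum]
    refine Finset.sum_eq_zero fun k _ => ?_
    rw [map_smul, smul_eq_mul]
    by_cases hk' : k = i'
    · rw [hk', hx, zero_mul]
    · rw [hk k hk', mul_zero]
  obtain ⟨j₀, hj₀⟩ : ∃ j : b.support, P.toLinearMap (fundWeight b' i') (P.coroot j) ≠ 0 := by
    by_contra hcon
    push_neg at hcon
    have h1 : P.toLinearMap (fundWeight b' i') (P.coroot i') = 1 := pair_fundWeight_coroot_self b' i'
    rw [pair_coroot_eq_sum b (fundWeight b' i') i'] at h1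
    rw [Finset.sum_eq_zero (fun l _ => by rw [hcon l, mul_zero])] at h1
    exact zero_ne_one h1
  have hii : ∀ x : N, P.toLinearMap (fundWeight b j₀) x =
      P.toLinearMap (fundWeight b j₀) (P.coroot i') * P.toLinearMap (fundWeight b' i') x := by
    intro x
    have h1 : P.toLinearMap (fundWeight b' i')
        (x - P.toLinearMap (fundWeight b' i') x • P.coroot i') = 0 := by
      rw [map_sub, map_smul, pair_fundWeight_coroot_self b' i', smul_eq_mul, mul_one, sub_self]
    have h2 := hi j₀ hj₀ _ h1
    rw [map_sub, map_smul, smul_eq_mul, sub_eq_zero] at h2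
    rw [h2, mul_comm]
  have h3 := hii (P.coroot j₀)
  rw [pair_fundWeight_coroot_self] at h3
  obtain ⟨z, hz⟩ := cc_int b j₀ (i' : ι)
  obtain ⟨z', hz'⟩ := cc_int b' i' (j₀ : ι)
  rw [hz, hz'] at h3
  have h4 : z * z' = 1 := by exact_mod_cast h3.symm
  have hz'nonneg : 0 ≤ z' := by
    have := ha j₀
    rw [hz'] at this
    exact_mod_cast this
  have hz'1 : z' = 1 := by
    rcases Int.mul_eq_one_iff_eq_one_or_neg_one.mp h4 with ⟨_, h⟩ | ⟨_, h⟩
    · exact h
    · omega
  have hz1 : z = 1 := by rw [hz'1, mul_one] at h4; exact h4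
  refine ⟨j₀, ?_⟩
  apply P.toPerfPair.injective
  ext x
  show P.toLinearMap (fundWeight b j₀) x = P.toLinearMap (fundWeight b' i') x
  rw [hii x, hz, hz1, Int.cast_one, one_mul]

/-- positivity of a pairing with a coroot, for a vector in a closed chamber -/
theorem pos_iff_of_mem_closedChamber (b : P.Base) {ξ : M} (hξ : ξ ∈ closedChamber b) (j : ι) :
    0 < P.toLinearMap ξ (P.coroot j) ↔
      ∃ l : b.support, 0 < P.toLinearMap ξ (P.coroot l) ∧
        0 < P.toLinearMap (fundWeight b l) (P.coroot j) := by
  have ha : ∀ l : b.support, 0 ≤ P.toLinearMap ξ (P.coroot l) := fun l => hξ l l.2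
  rw [pair_coroot_eq_sum b ξ j]
  constructor
  · intro hpos
    by_contra hcon
    push_neg at hcon
    have : ∑ i : b.support, P.toLinearMap (fundWeight b i) (P.coroot j) *
        P.toLinearMap ξ (P.coroot i) ≤ 0 := by
      refine Finset.sum_nonpos fun l _ => ?_
      rcases (ha l).lt_or_eq with h1 | h1
      · exact mul_nonpos_of_nonpos_of_nonneg (hcon l h1) h1.le
      · rw [← h1, mul_zero]
    exact absurd hpos (not_lt.mpr this)
  · rintro ⟨l, hl1, hl2⟩
    have hs : ∀ i : b.support, 0 ≤ P.toLinearMap (fundWeight b i) (P.coroot j) := by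
      rcases cc_nonneg_or_nonpos b j with hs | hs
      · exact hs
      · exact absurd hl2 (not_lt.mpr (hs l))
    exact Finset.sum_pos' (fun i _ => mul_nonneg (hs i) (ha i))
      ⟨l, Finset.mem_univ l, mul_pos hl2 hl1⟩

theorem coroot_neg (j : ι) : P.coroot (P.reflectionPerm j j) = - P.coroot j := by
  rw [P.coroot_reflectionPerm, P.coreflection_apply_self]

theorem root_neg (j : ι) : P.root (P.reflectionPerm j j) = - P.root j := by
  rw [P.root_reflectionPerm, P.reflection_apply_self]

theorem neg_iff_of_mem_closedChamber (b : P.Base) {ξ : M} (hξ : ξ ∈ closedChamber b) (j : ι) :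
    P.toLinearMap ξ (P.coroot j) < 0 ↔
      ∃ l : b.support, 0 < P.toLinearMap ξ (P.coroot l) ∧
        P.toLinearMap (fundWeight b l) (P.coroot j) < 0 := by
  have h := pos_iff_of_mem_closedChamber b hξ (P.reflectionPerm j j)
  rw [coroot_neg] at h
  simpa only [map_neg, neg_pos] using h

theorem sign_eq_of_iff {x y : R} (h1 : 0 < x ↔ 0 < y) (h2 : x < 0 ↔ y < 0) :
    SignType.sign x = SignType.sign y := by
  rcases lt_trichotomy x 0 with h | h | h
  · rw [sign_neg h, sign_neg (h2.mp h)]
  · have hy : y = 0 := by
      rcases lt_trichotomy y 0 with h' | h' | h'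
      · exact absurd (h2.mpr h') (by rw [h]; exact lt_irrefl 0)
      · exact h'
      · exact absurd (h1.mpr h') (by rw [h]; exact lt_irrefl 0)
    rw [h, hy]
  · rw [sign_pos h, sign_pos (h1.mp h)]

/-- two vectors of a closed chamber with the same set of strictly positive simple coordinates
lie in the same facet -/
theorem sgnVec_eq_of_pos_iff (b : P.Base) {ξ η : M} (hξ : ξ ∈ closedChamber b)
    (hη : η ∈ closedChamber b)
    (h : ∀ l : b.support, 0 < P.toLinearMap ξ (P.coroot l) ↔ 0 < P.toLinearMap η (P.coroot l)) :
    sgnVec P ξ = sgnVec P η := by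
  funext j
  apply sign_eq_of_iff
  · show 0 < P.toLinearMap ξ (P.coroot j) ↔ 0 < P.toLinearMap η (P.coroot j)
    rw [pos_iff_of_mem_closedChamber b hξ, pos_iff_of_mem_closedChamber b hη]
    exact exists_congr fun l => and_congr_left' (h l)
  · show P.toLinearMap ξ (P.coroot j) < 0 ↔ P.toLinearMap η (P.coroot j) < 0
    rw [neg_iff_of_mem_closedChamber b hξ, neg_iff_of_mem_closedChamber b hη]
    exact exists_congr fun l => and_congr_left' (h l)

/-- a vector in the same facet as a vector of a closed chamber is in that closed chamber, with the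
same strictly positive simple coordinates -/
theorem mem_closedChamber_of_sgnVec_eq (b : P.Base) {ξ η : M} (hξ : ξ ∈ closedChamber b)
    (h : sgnVec P η = sgnVec P ξ) :
    η ∈ closedChamber b ∧
      ∀ l : b.support, 0 < P.toLinearMap η (P.coroot l) ↔ 0 < P.toLinearMap ξ (P.coroot l) := by
  have hs : ∀ j : ι, SignType.sign (P.toLinearMap η (P.coroot j)) =
      SignType.sign (P.toLinearMap ξ (P.coroot j)) := fun j => congrFun h j
  refine ⟨fun l hl => ?_, fun l => ?_⟩
  · show 0 ≤ P.toLinearMap η (P.coroot l)
    rw [← sign_nonneg_iff, hs l, sign_nonneg_iff]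
    exact hξ l hl
  · rw [← sign_eq_one_iff, hs l, sign_eq_one_iff]

/-- the corners of a facet meeting the closed chamber of `b` -/
theorem corners_eq_image (b : P.Base) (F : Facet P) {ξ : M} (hξF : ξ ∈ F.carrier)
    (hξ : ξ ∈ closedChamber b) :
    F.corners = fundWeight b '' {l : b.support | 0 < P.toLinearMap ξ (P.coroot l)} := by
  have hξF' : sgnVec P ξ = F.sgn := hξF
  ext w
  constructor
  · rintro ⟨⟨b', i', rfl⟩, hw⟩
    have hcl : fundWeight b' i' ∈ closedChamber b := by
      intro l hl
      have h1 := hw l
      have h3 : 0 ≤ P.toLinearMap ξ (P.coroot l) := hξ l hl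
      by_contra hneg
      push_neg at hneg
      have h4 : sgnVec P (fundWeight b' i') l = -1 := sign_neg hneg
      rw [h4] at h1
      rcases h1 with h1 | h1
      · exact absurd h1 (by decide)
      · rw [← hξF'] at h1
        have h5 : (0 : SignType) ≤ sgnVec P ξ l := sign_nonneg_iff.mpr h3
        rw [← h1] at h5
        exact absurd h5 (by decide)
    obtain ⟨i, hi⟩ := exists_fundWeight_eq_of_mem_closedChamber b b' i' hcl
    refine ⟨i, ?_, hi⟩
    have h1 := hw (i : ι)
    rw [← hi] at h1
    have h5 : sgnVec P (fundWeight b i) (i : ι) = 1 := by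
      show SignType.sign (P.toLinearMap (fundWeight b i) (P.coroot i)) = 1
      rw [pair_fundWeight_coroot_self]
      exact sign_pos one_pos
    rw [h5] at h1
    rcases h1 with h1 | h1
    · exact absurd h1 (by decide)
    · rw [← hξF'] at h1
      exact sign_eq_one_iff.mp h1.symm
  · rintro ⟨i, hi, rfl⟩
    refine ⟨⟨b, i, rfl⟩, fun j => ?_⟩
    rw [← hξF']
    show SignType.sign (P.toLinearMap (fundWeight b i) (P.coroot j)) = 0 ∨
      SignType.sign (P.toLinearMap (fundWeight b i) (P.coroot j)) =
        SignType.sign (P.toLinearMap ξ (P.coroot j))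
    rcases lt_trichotomy (P.toLinearMap (fundWeight b i) (P.coroot j)) 0 with h | h | h
    · right
      rw [sign_neg h, sign_neg ((neg_iff_of_mem_closedChamber b hξ j).mpr ⟨i, hi, h⟩)]
    · left
      rw [h, sign_zero]
    · right
      rw [sign_pos h, sign_pos ((pos_iff_of_mem_closedChamber b hξ j).mpr ⟨i, hi, h⟩)]

end Groth.Agent.Helper24.RC
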