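import Groth.Agent.Lib.Helper24.RootChB

/-!
# Helper library for the RootCh cluster, part C: every vector lies in some closed chamber.
-/

set_option autoImplicit false

namespace Groth.Agent.Helper24.RC

open RootCh Module

universe u v w x
variable {ι : Type u} {R : Type v} {M : Type w} {N : Type x}
variable [Field R] [LinearOrder R] [IsStrictOrderedRing R]
  [AddCommGroup M] [Module R M] [AddCommGroup N] [Module R N]
variable {P : RootPairing ι R M N} [P.IsRootSystem]

/-- a functional on `N` which is non-zero on every coroot defines a base all of whose simple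
coroots are positive for it -/
theorem exists_base_pos_of_regular [Finite ι] [P.IsCrystallographic] [P.IsReduced]
    (g : Dual R N) (hg : ∀ i, g (P.coroot i) ≠ 0) :
    ∃ b : P.Base, ∀ i ∈ b.support, 0 < g (P.coroot i) := by
  classical
  letI := P.flip.indexNeg
  have hli : LinearIndepOn R P.flip.root
      (IsAddIndecomposable.baseOf P.flip.root (g : N →+ R)) :=
    P.flip.linearIndepOn_root_baseOf' g hg
  have hsp : ∀ i, P.flip.root i ∈ AddSubmonoid.closure
        (P.flip.root '' IsAddIndecomposable.baseOf P.flip.root (g : N →+ R)) ∨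
      -P.flip.root i ∈ AddSubmonoid.closure
        (P.flip.root '' IsAddIndecomposable.baseOf P.flip.root (g : N →+ R)) :=
    fun i => IsAddIndecomposable.mem_or_neg_mem_closure_baseOf P.flip.root (g : N →+ R) i
      (hg i) (by simp)
  refine ⟨(RootPairing.Base.mk' P.flip _ hli hsp).flip, ?_⟩
  intro i hi
  have hi' : i ∈ IsAddIndecomposable.baseOf P.flip.root (g : N →+ R) := by
    have : i ∈ (Set.toFinite (IsAddIndecomposable.baseOf P.flip.root (g : N →+ R))).toFinset := hi
    exact (Set.Finite.mem_toFinset _).mp this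
  exact IsAddIndecomposable.baseOf_subset_pos P.flip.root (g : N →+ R) hi'

/-- every vector lies in the closed chamber of some base -/
theorem exists_base_mem_closedChamber [Finite ι] [P.IsCrystallographic] [P.IsReduced] (ξ : M) :
    ∃ b : P.Base, ξ ∈ closedChamber b := by
  classical
  have := Fintype.ofFinite ι
  obtain ⟨ρ, hρ⟩ : ∃ ρ : M, ∀ i, P.coroot' i ρ ≠ 0 := by
    refine Module.Dual.exists_forall_ne_zero_of_forall_exists (fun i => P.coroot' i)
      (fun i => ⟨P.root i, ?_⟩)
    simp
  have hT0 : 0 ≤ ∑ i, |P.coroot' i ρ| / |P.coroot' i ξ| :=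
    Finset.sum_nonneg (fun i _ => div_nonneg (abs_nonneg _) (abs_nonneg _))
  have hεpos : 0 < (1 + ∑ i, |P.coroot' i ρ| / |P.coroot' i ξ|)⁻¹ := inv_pos.mpr (by linarith)
  have hsmall : ∀ i, P.coroot' i ξ ≠ 0 →
      (1 + ∑ i, |P.coroot' i ρ| / |P.coroot' i ξ|)⁻¹ * |P.coroot' i ρ| < |P.coroot' i ξ| := by
    intro i hi
    have h1 : |P.coroot' i ρ| / |P.coroot' i ξ| ≤ ∑ i, |P.coroot' i ρ| / |P.coroot' i ξ| :=
      Finset.single_le_sum (f := fun i => |P.coroot' i ρ| / |P.coroot' i ξ|)
        (fun i _ => div_nonneg (abs_nonneg _) (abs_nonneg _)) (Finset.mem_univ i)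
    have h2 : 0 < |P.coroot' i ξ| := abs_pos.mpr hi
    have h3 : |P.coroot' i ρ| ≤ (∑ i, |P.coroot' i ρ| / |P.coroot' i ξ|) * |P.coroot' i ξ| :=
      (div_le_iff₀ h2).mp h1
    rw [inv_mul_lt_iff₀ (by linarith)]
    nlinarith
  generalize (1 + ∑ i, |P.coroot' i ρ| / |P.coroot' i ξ|)⁻¹ = ε at hεpos hsmall
  have hgv : ∀ i, P.toLinearMap (ξ + ε • ρ) (P.coroot i) = P.coroot' i ξ + ε * P.coroot' i ρ := by
    intro i
    rw [map_add, map_smul, LinearMap.add_apply, LinearMap.smul_apply, smul_eq_mul]
    rfl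
  have hg : ∀ i, P.toLinearMap (ξ + ε • ρ) (P.coroot i) ≠ 0 := by
    intro i
    rw [hgv]
    by_cases hi : P.coroot' i ξ = 0
    · rw [hi, zero_add]; exact mul_ne_zero hεpos.ne' (hρ i)
    · intro h0
      have h5 := hsmall i hi
      have h6 : P.coroot' i ξ = -(ε * P.coroot' i ρ) := by linarith
      rw [h6, abs_neg, abs_mul, abs_of_pos hεpos] at h5
      exact lt_irrefl _ h5
  obtain ⟨b, hb⟩ := exists_base_pos_of_regular (P := P) (P.toLinearMap (ξ + ε • ρ)) hg
  refine ⟨b, fun i hi => ?_⟩
  have h7 := hb i hi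
  rw [hgv] at h7
  by_contra hneg
  push_neg at hneg
  have h5 := hsmall i (ne_of_lt hneg)
  have h8 : ε * P.coroot' i ρ ≤ ε * |P.coroot' i ρ| :=
    mul_le_mul_of_nonneg_left (le_abs_self _) hεpos.le
  rw [abs_of_neg hneg] at h5
  linarith

/-- every facet is adjacent to some chamber -/
theorem exists_mem_cham [Finite ι] [P.IsCrystallographic] [P.IsReduced] (F : Facet P) :
    ∃ (ξ : M) (b : P.Base), ξ ∈ F.carrier ∧ ξ ∈ closedChamber b ∧ b ∈ F.cham := by
  obtain ⟨ξ, hξ⟩ := F.exists_sgnVec_eq
  obtain ⟨b, hb⟩ := exists_base_mem_closedChamber (P := P) ξ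
  refine ⟨ξ, b, hξ, hb, ?_⟩
  intro η hη
  exact (mem_closedChamber_of_sgnVec_eq b hb ((hη : sgnVec P η = F.sgn).trans hξ.symm)).1

theorem pair_sum_smul_fundWeight (b : P.Base) (c : b.support → R) (l : b.support) :
    P.toLinearMap (∑ i, c i • fundWeight b i) (P.coroot l) = c l := by
  classical
  rw [map_sum, LinearMap.sum_apply, Finset.sum_eq_single l]
  · rw [map_smul, LinearMap.smul_apply, pair_fundWeight_coroot_self, smul_eq_mul, mul_one]
  · intro i _ hil
    rw [map_smul, LinearMap.smul_apply, pair_fundWeight_coroot_ne b (Ne.symm hil), smul_zero]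
  · intro h; exact absurd (Finset.mem_univ l) h

theorem sum_smul_fundWeight_mem_closedChamber (b : P.Base) (c : b.support → R)
    (hc : ∀ i, 0 ≤ c i) : (∑ i, c i • fundWeight b i) ∈ closedChamber b := by
  intro l hl
  show 0 ≤ P.toLinearMap (∑ i, c i • fundWeight b i) (P.coroot l)
  have := pair_sum_smul_fundWeight b c ⟨l, hl⟩
  simp only at this
  rw [this]; exact hc _

theorem add_mem_closedChamber (b : P.Base) {ξ η : M} (hξ : ξ ∈ closedChamber b)
    (hη : η ∈ closedChamber b) : ξ + η ∈ closedChamber b := by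
  intro l hl
  show 0 ≤ P.coroot' l (ξ + η)
  rw [map_add]
  exact add_nonneg (hξ l hl) (hη l hl)

/-- adding a fundamental weight of `b` to a vector of the closed chamber -/
theorem pos_add_fundWeight_iff (b : P.Base) {ξ : M} (hξ : ξ ∈ closedChamber b) (k l : b.support) :
    0 < P.toLinearMap (ξ + fundWeight b k) (P.coroot l) ↔
      l = k ∨ 0 < P.toLinearMap ξ (P.coroot l) := by
  rw [map_add, LinearMap.add_apply]
  have ha : 0 ≤ P.toLinearMap ξ (P.coroot l) := hξ l l.2
  by_cases hl : l = k
  · subst hl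
    rw [pair_fundWeight_coroot_self]
    constructor
    · intro _; exact Or.inl rfl
    · intro _; linarith
  · rw [pair_fundWeight_coroot_ne b hl, add_zero]
    constructor
    · intro h; exact Or.inr h
    · rintro (h | h)
      · exact absurd h hl
      · exact h

end Groth.Agent.Helper24.RC
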