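import Groth.Agent.Lib.Helper24.RootChC
import Groth.Prelude.Def_RootCh2

/-!
# Helper library for the RootCh cluster, part D: sums of roots over reflection-stable sets,
the sum of the roots of a parabolic set, elementary sets of roots.
-/

set_option autoImplicit false

namespace Groth.Agent.Helper24.RC

open RootCh Module

universe u v w x
variable {ι : Type u} {R : Type v} {M : Type w} {N : Type x}
variable [Field R] [LinearOrder R] [IsStrictOrderedRing R]
  [AddCommGroup M] [Module R M] [AddCommGroup N] [Module R N]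
variable {P : RootPairing ι R M N}

theorem coroot_neg' (j : ι) : P.coroot (P.reflectionPerm j j) = - P.coroot j := by
  rw [P.coroot_reflectionPerm, P.coreflection_apply_self]

theorem pairing_neg_iff [Finite ι] (i j : ι) :
    P.toLinearMap (P.root i) (P.coroot j) < 0 ↔ P.toLinearMap (P.root j) (P.coroot i) < 0 := by
  have h := P.pairingIn_lt_zero_iff R (i := i) (j := j)
  have e1 : P.pairingIn R i j = P.pairing i j := by simpa using P.algebraMap_pairingIn R i j
  have e2 : P.pairingIn R j i = P.pairing j i := by simpa using P.algebraMap_pairingIn R j i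
  rw [e1, e2] at h
  exact h

theorem pair_root_reflectionPerm (l i : ι) :
    P.toLinearMap (P.root (P.reflectionPerm l i)) (P.coroot l) =
      - P.toLinearMap (P.root i) (P.coroot l) := by
  rw [P.root_reflectionPerm, P.reflection_apply, map_sub, map_smul, LinearMap.sub_apply,
    LinearMap.smul_apply, P.root_coroot_two l, smul_eq_mul]
  show P.toLinearMap (P.root i) (P.coroot l) - P.toLinearMap (P.root i) (P.coroot l) * 2 = _
  ring

theorem pair_coroot_reflectionPerm (ξ : M) (l i : ι) :
    P.toLinearMap ξ (P.coroot (P.reflectionPerm l i)) =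
      P.toLinearMap ξ (P.coroot i) -
        P.toLinearMap (P.root l) (P.coroot i) * P.toLinearMap ξ (P.coroot l) := by
  rw [← P.reflectionPerm_coroot l i, map_sub, map_smul, smul_eq_mul]

/-- a sum of roots over a set stable under the reflection `s_l` is orthogonal to the coroot `l` -/
theorem sum_pairing_eq_zero_of_invariant (S : Finset ι) (l : ι)
    (hS : ∀ i, i ∈ S ↔ P.reflectionPerm l i ∈ S) :
    P.toLinearMap (∑ i ∈ S, P.root i) (P.coroot l) = 0 := by
  rw [map_sum, LinearMap.sum_apply]
  have h2 : ∑ i ∈ S, P.toLinearMap (P.root (P.reflectionPerm l i)) (P.coroot l) =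
      ∑ i ∈ S, P.toLinearMap (P.root i) (P.coroot l) :=
    Finset.sum_equiv (P.reflectionPerm l) hS (fun i _ => rfl)
  have h3 : ∑ i ∈ S, P.toLinearMap (P.root (P.reflectionPerm l i)) (P.coroot l) =
      - ∑ i ∈ S, P.toLinearMap (P.root i) (P.coroot l) := by
    rw [← Finset.sum_neg_distrib]
    exact Finset.sum_congr rfl fun i _ => pair_root_reflectionPerm l i
  linarith

/-- the sum of the roots non-negative on `ξ` pairs positively with every coroot positive on `ξ` -/
theorem sum_pairing_pos [Finite ι] (ξ : M) (S : Finset ι)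
    (hS : ∀ i, i ∈ S ↔ 0 ≤ P.toLinearMap ξ (P.coroot i)) (l : ι)
    (hl : 0 < P.toLinearMap ξ (P.coroot l)) :
    0 < P.toLinearMap (∑ i ∈ S, P.root i) (P.coroot l) := by
  classical
  rw [map_sum, LinearMap.sum_apply]
  have hpl : P.toLinearMap (P.root l) (P.coroot l) = 2 := P.root_coroot_two l
  have himg : (S.filter (fun i => P.toLinearMap (P.root i) (P.coroot l) < 0)).image
      (P.reflectionPerm l) ⊆ S.filter (fun i => ¬ P.toLinearMap (P.root i) (P.coroot l) < 0) := by
    intro j hj
    obtain ⟨i, hi, rfl⟩ := Finset.mem_image.mp hj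
    rw [Finset.mem_filter] at hi ⊢
    refine ⟨(hS _).mpr ?_, ?_⟩
    · rw [pair_coroot_reflectionPerm]
      have h1 := (hS i).mp hi.1
      have h2 := (pairing_neg_iff i l).mp hi.2
      nlinarith [mul_pos (neg_pos.mpr h2) hl]
    · rw [pair_root_reflectionPerm]
      intro h
      linarith [hi.2]
  have hTm : ∑ i ∈ S.filter (fun i => P.toLinearMap (P.root i) (P.coroot l) < 0),
      P.toLinearMap (P.root i) (P.coroot l) =
      - ∑ i ∈ (S.filter (fun i => P.toLinearMap (P.root i) (P.coroot l) < 0)).image
        (P.reflectionPerm l), P.toLinearMap (P.root i) (P.coroot l) := by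
    rw [Finset.sum_image (fun x _ y _ h => (P.reflectionPerm l).injective h),
      ← Finset.sum_neg_distrib]
    exact Finset.sum_congr rfl (fun i _ => by rw [pair_root_reflectionPerm, neg_neg])
  have hlmem : l ∈ S.filter (fun i => ¬ P.toLinearMap (P.root i) (P.coroot l) < 0) \
      (S.filter (fun i => P.toLinearMap (P.root i) (P.coroot l) < 0)).image
        (P.reflectionPerm l) := by
    rw [Finset.mem_sdiff, Finset.mem_filter]
    refine ⟨⟨(hS l).mpr hl.le, ?_⟩, ?_⟩
    · rw [hpl]; norm_num
    · intro h
      obtain ⟨i, hi, hil⟩ := Finset.mem_image.mp h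
      have hi' : i = P.reflectionPerm l l := by
        have := congrArg (P.reflectionPerm l) hil
        rwa [P.reflectionPerm_self] at this
      have h0 := (hS i).mp (Finset.mem_filter.mp hi).1
      rw [hi', pair_coroot_reflectionPerm, hpl] at h0
      linarith
  have hnonneg : ∀ i ∈ S.filter (fun i => ¬ P.toLinearMap (P.root i) (P.coroot l) < 0) \
      (S.filter (fun i => P.toLinearMap (P.root i) (P.coroot l) < 0)).image
        (P.reflectionPerm l), 0 ≤ P.toLinearMap (P.root i) (P.coroot l) :=
    fun i hi => not_lt.mp (Finset.mem_filter.mp (Finset.mem_sdiff.mp hi).1).2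
  have hge := Finset.single_le_sum hnonneg hlmem
  have hsplit := Finset.sum_filter_add_sum_filter_not S
    (fun i => P.toLinearMap (P.root i) (P.coroot l) < 0)
    (fun i => P.toLinearMap (P.root i) (P.coroot l))
  have hT' := Finset.sum_sdiff (f := fun i => P.toLinearMap (P.root i) (P.coroot l)) himg
  rw [hpl] at hge
  linarith

/-- the sum of the roots of the parabolic set of a facet lies in the facet -/
theorem sum_parab_mem_carrier [Finite ι] (F : Facet P) :
    (∑ i ∈ (Set.toFinite F.parab).toFinset, P.root i) ∈ F.carrier := by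
  obtain ⟨ξ, hξF⟩ := F.exists_sgnVec_eq
  have hS : ∀ i, i ∈ (Set.toFinite F.parab).toFinset ↔ 0 ≤ P.toLinearMap ξ (P.coroot i) := by
    intro i
    rw [Set.Finite.mem_toFinset]
    show F.sgn i ≠ -1 ↔ _
    rw [← hξF]
    show SignType.sign (P.toLinearMap ξ (P.coroot i)) ≠ -1 ↔ _
    rw [Ne, sign_eq_neg_one_iff, not_lt]
  show sgnVec P _ = F.sgn
  rw [← hξF]
  funext l
  show SignType.sign (P.toLinearMap _ (P.coroot l)) = SignType.sign (P.toLinearMap ξ (P.coroot l))
  rcases lt_trichotomy (P.toLinearMap ξ (P.coroot l)) 0 with h | h | h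
  · have h1 : 0 < P.toLinearMap ξ (P.coroot (P.reflectionPerm l l)) := by
      rw [coroot_neg', map_neg]; linarith
    have h2 := sum_pairing_pos ξ _ hS _ h1
    rw [coroot_neg', map_neg] at h2
    rw [sign_neg h, sign_neg (by linarith)]
  · rw [h, sign_zero]
    rw [sum_pairing_eq_zero_of_invariant, sign_zero]
    intro i
    rw [hS, hS, pair_coroot_reflectionPerm, h, mul_zero, sub_zero]
  · rw [sign_pos h, sign_pos (sum_pairing_pos ξ _ hS l h)]

variable [P.IsRootSystem]

theorem corners_subset_baseCorners (F : Facet P) (b : P.Base) (hb : b ∈ F.cham) :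
    F.corners ⊆ baseCorners b := by
  obtain ⟨ξ, hξF⟩ := F.exists_sgnVec_eq
  have hξ : ξ ∈ closedChamber b := hb hξF
  rw [corners_eq_image b F hξF hξ]
  rintro _ ⟨l, _, rfl⟩
  exact ⟨⟨b, l, rfl⟩, fundWeight_mem_closedChamber b l⟩

theorem pair_eq_of_mem_span_corners {d : P.Base → N} (hd : IsCCS d) (F : Facet P) {b b' : P.Base}
    (hb : b ∈ F.cham) (hb' : b' ∈ F.cham) {x : M} (hx : x ∈ Submodule.span R F.corners) :
    P.toLinearMap x (d b) = P.toLinearMap x (d b') := by
  have : Submodule.span R F.corners ≤ LinearMap.ker (P.toLinearMap.flip (d b - d b')) := by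
    rw [Submodule.span_le]
    intro w hw
    rw [SetLike.mem_coe, LinearMap.mem_ker, LinearMap.flip_apply, map_sub, sub_eq_zero]
    exact hd.corner_eq b b' w (corners_subset_baseCorners F b hb hw)
      (corners_subset_baseCorners F b' hb' hw)
  have h := this hx
  rw [LinearMap.mem_ker, LinearMap.flip_apply, map_sub, sub_eq_zero] at h
  exact h

theorem corr_fundWeight_iff [Finite ι] (b : P.Base) (l : b.support) (x : N) :
    Corr P (fundWeight b l) x ↔ x = fundCoweight b l := by
  constructor
  · rintro ⟨b'', i'', h1, h2⟩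
    rw [← h2]
    exact fundCoweight_eq_of_fundWeight_eq h1
  · rintro rfl
    exact ⟨b, l, rfl, rfl⟩

theorem root'_reflectionPerm_fundCoweight (b : P.Base) {l l' : b.support} (h : l ≠ l') (i : ι) :
    P.root' (P.reflectionPerm l i) (fundCoweight b l') = P.root' i (fundCoweight b l') := by
  show P.toLinearMap (P.root (P.reflectionPerm l i)) _ = P.toLinearMap (P.root i) _
  rw [P.root_reflectionPerm, P.reflection_apply, map_sub, map_smul, LinearMap.sub_apply,
    LinearMap.smul_apply, pair_root_fundCoweight_ne b h, smul_zero, sub_zero]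

/-- the sum of the roots of an elementary set of roots of a facet lies in the span of the corners -/
theorem sum_psi_mem_span_corners [Finite ι] [P.IsCrystallographic] [P.IsReduced] (F : Facet P)
    (m : M) (hm : m ∈ F.corners) :
    (∑ i ∈ (Set.toFinite (F.Psi m)).toFinset, P.root i) ∈ Submodule.span R F.corners := by
  classical
  obtain ⟨ξ, b, hξF, hξ, -⟩ := exists_mem_cham F
  have hcor := corners_eq_image b F hξF hξ
  have hm' := hm
  rw [hcor] at hm'
  obtain ⟨k, hk, rfl⟩ := hm'
  rw [expand_fund b (∑ i ∈ (Set.toFinite (F.Psi (fundWeight b k))).toFinset, P.root i)]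
  refine Submodule.sum_mem _ fun l _ => ?_
  by_cases hl : 0 < P.toLinearMap ξ (P.coroot l)
  · exact Submodule.smul_mem _ _ (Submodule.subset_span (by rw [hcor]; exact ⟨l, hl, rfl⟩))
  · have hlk : l ≠ k := fun h => hl (h ▸ hk)
    have key : ∀ i, i ∈ F.Psi (fundWeight b k) → P.reflectionPerm l i ∈ F.Psi (fundWeight b k) := by
      rintro i ⟨h1, h2⟩
      refine ⟨fun x hx => ?_, fun w' hw' hne x hx => ?_⟩
      · have hx' := (corr_fundWeight_iff b k x).mp hx
        subst hx'
        rw [root'_reflectionPerm_fundCoweight b hlk]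
        exact h1 _ hx
      · have hw'' := hw'
        rw [hcor] at hw''
        obtain ⟨l', hl', rfl⟩ := hw''
        have hx' := (corr_fundWeight_iff b l' x).mp hx
        subst hx'
        have hll' : l ≠ l' := fun h => hl (h ▸ hl')
        rw [root'_reflectionPerm_fundCoweight b hll']
        exact h2 _ hw' hne _ hx
    have : P.toLinearMap (∑ i ∈ (Set.toFinite (F.Psi (fundWeight b k))).toFinset, P.root i)
        (P.coroot l) = 0 := by
      apply sum_pairing_eq_zero_of_invariant
      intro i
      rw [Set.Finite.mem_toFinset, Set.Finite.mem_toFinset]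
      exact ⟨key i, fun h => by have := key _ h; rwa [P.reflectionPerm_self] at this⟩
    rw [this, zero_smul]
    exact Submodule.zero_mem _

end Groth.Agent.Helper24.RC
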