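import Groth.Agent.Lib.Helper24.RootChD

/-!
# Helper library for the RootCh cluster, part E: parabolic sets of roots and facets.
-/

set_option autoImplicit false

namespace Groth.Agent.Helper24.RC

open RootCh Module

universe u v w x
variable {ι : Type u} {R : Type v} {M : Type w} {N : Type x}
variable [Field R] [LinearOrder R] [IsStrictOrderedRing R]
  [AddCommGroup M] [Module R M] [AddCommGroup N] [Module R N]
variable {P : RootPairing ι R M N}

theorem root_neg' (j : ι) : P.root (P.reflectionPerm j j) = - P.root j := by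
  rw [P.root_reflectionPerm, P.reflection_apply_self]

theorem reflectionPerm_neg_eq (l : ι) :
    P.reflectionPerm (P.reflectionPerm l l) = P.reflectionPerm l := by
  ext i
  apply P.root.injective
  have h1 := P.reflectionPerm_root (P.reflectionPerm l l) i
  have h2 := P.reflectionPerm_root l i
  rw [← h1, ← h2, coroot_neg', root_neg']
  simp only [map_neg, neg_smul_neg]

theorem facet_sgn_neg (F : Facet P) (i : ι) : F.sgn (P.reflectionPerm i i) = - F.sgn i := by
  obtain ⟨ξ, hξ⟩ := F.exists_sgnVec_eq
  rw [← hξ]
  show SignType.sign (P.toLinearMap ξ (P.coroot (P.reflectionPerm i i))) =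
    - SignType.sign (P.toLinearMap ξ (P.coroot i))
  rw [coroot_neg', map_neg, Left.sign_neg]

theorem le_iff_parab_subset (F G : Facet P) : F ≤ G ↔ F.parab ⊆ G.parab := by
  constructor
  · intro h i hi
    rcases h i with h1 | h1
    · show G.sgn i ≠ -1
      rw [h1]; decide
    · show G.sgn i ≠ -1
      rw [h1]; exact hi
  · intro h i
    have h1 : F.sgn i ≠ -1 → G.sgn i ≠ -1 := fun hi => h hi
    have h2 : F.sgn (P.reflectionPerm i i) ≠ -1 → G.sgn (P.reflectionPerm i i) ≠ -1 :=
      fun hi => h hi
    rw [facet_sgn_neg, facet_sgn_neg] at h2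
    revert h1 h2
    generalize F.sgn i = s
    generalize G.sgn i = t
    revert s t
    decide

/-- a variant of `sum_pairing_pos` for abstract finite sets of roots -/
theorem sum_pairing_pos' [Finite ι] (T : Finset ι) (l : ι) (hl : l ∈ T)
    (hnl : P.reflectionPerm l l ∉ T)
    (hstab : ∀ i ∈ T, P.toLinearMap (P.root i) (P.coroot l) < 0 → P.reflectionPerm l i ∈ T) :
    0 < P.toLinearMap (∑ i ∈ T, P.root i) (P.coroot l) := by
  classical
  rw [map_sum, LinearMap.sum_apply]
  have hpl : P.toLinearMap (P.root l) (P.coroot l) = 2 := P.root_coroot_two l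
  have himg : (T.filter (fun i => P.toLinearMap (P.root i) (P.coroot l) < 0)).image
      (P.reflectionPerm l) ⊆ T.filter (fun i => ¬ P.toLinearMap (P.root i) (P.coroot l) < 0) := by
    intro j hj
    obtain ⟨i, hi, rfl⟩ := Finset.mem_image.mp hj
    rw [Finset.mem_filter] at hi ⊢
    refine ⟨hstab i hi.1 hi.2, ?_⟩
    rw [pair_root_reflectionPerm]
    intro h
    linarith [hi.2]
  have hTm : ∑ i ∈ T.filter (fun i => P.toLinearMap (P.root i) (P.coroot l) < 0),
      P.toLinearMap (P.root i) (P.coroot l) =
      - ∑ i ∈ (T.filter (fun i => P.toLinearMap (P.root i) (P.coroot l) < 0)).image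
        (P.reflectionPerm l), P.toLinearMap (P.root i) (P.coroot l) := by
    rw [Finset.sum_image (fun x _ y _ h => (P.reflectionPerm l).injective h),
      ← Finset.sum_neg_distrib]
    exact Finset.sum_congr rfl (fun i _ => by rw [pair_root_reflectionPerm, neg_neg])
  have hlmem : l ∈ T.filter (fun i => ¬ P.toLinearMap (P.root i) (P.coroot l) < 0) \
      (T.filter (fun i => P.toLinearMap (P.root i) (P.coroot l) < 0)).image
        (P.reflectionPerm l) := by
    rw [Finset.mem_sdiff, Finset.mem_filter]
    refine ⟨⟨hl, ?_⟩, ?_⟩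
    · rw [hpl]; norm_num
    · intro h
      obtain ⟨i, hi, hil⟩ := Finset.mem_image.mp h
      have hi' : i = P.reflectionPerm l l := by
        have := congrArg (P.reflectionPerm l) hil
        rwa [P.reflectionPerm_self] at this
      exact hnl (hi' ▸ (Finset.mem_filter.mp hi).1)
  have hnonneg : ∀ i ∈ T.filter (fun i => ¬ P.toLinearMap (P.root i) (P.coroot l) < 0) \
      (T.filter (fun i => P.toLinearMap (P.root i) (P.coroot l) < 0)).image
        (P.reflectionPerm l), 0 ≤ P.toLinearMap (P.root i) (P.coroot l) :=
    fun i hi => not_lt.mp (Finset.mem_filter.mp (Finset.mem_sdiff.mp hi).1).2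
  have hge := Finset.single_le_sum hnonneg hlmem
  have hsplit := Finset.sum_filter_add_sum_filter_not T
    (fun i => P.toLinearMap (P.root i) (P.coroot l) < 0)
    (fun i => P.toLinearMap (P.root i) (P.coroot l))
  have hT' := Finset.sum_sdiff (f := fun i => P.toLinearMap (P.root i) (P.coroot l)) himg
  rw [hpl] at hge
  linarith

/-- closed sets of roots are stable under the "upward" part of a reflection -/
theorem reflectionPerm_mem_of_closed [Finite ι] [P.IsCrystallographic] [P.IsReduced] (S : Set ι)
    (hcl : ∀ i j k : ι, i ∈ S → j ∈ S → P.root k = P.root i + P.root j → k ∈ S) {l i : ι}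
    (hl : l ∈ S) (hi : i ∈ S) (hp : P.toLinearMap (P.root i) (P.coroot l) < 0)
    (hne : i ≠ P.reflectionPerm l l) : P.reflectionPerm l i ∈ S := by
  have hil : l ≠ i := by
    rintro rfl
    rw [P.root_coroot_two] at hp
    norm_num at hp
  have hneg : P.root l ≠ - P.root i := by
    intro h
    apply hne
    apply P.root.injective
    rw [root_neg', h, neg_neg]
  have hli : LinearIndependent R ![P.root l, P.root i] :=
    RootPairing.IsReduced.linearIndependent P hil hneg
  have hn : ((P.pairingIn ℤ i l : ℤ) : R) = P.toLinearMap (P.root i) (P.coroot l) := by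
    have := P.algebraMap_pairingIn ℤ i l
    simpa using this
  have hnneg : P.pairingIn ℤ i l < 0 := by
    have : ((P.pairingIn ℤ i l : ℤ) : R) < 0 := by rw [hn]; exact hp
    exact_mod_cast this
  have hchain := P.chainBotCoeff_sub_chainTopCoeff hli
  have key : ∀ t : ℕ, (t : ℤ) ≤ - P.pairingIn ℤ i l →
      ∃ k ∈ S, P.root k = P.root i + t • P.root l := by
    intro t
    induction t with
    | zero => intro _; exact ⟨i, hi, by simp⟩
    | succ t ih =>
      intro ht
      obtain ⟨k, hk, hkr⟩ := ih (by push_cast at ht; linarith)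
      have hmem : P.root i + (t + 1) • P.root l ∈ Set.range P.root := by
        rw [P.root_add_nsmul_mem_range_iff_le_chainTopCoeff hli]
        have : ((t + 1 : ℕ) : ℤ) ≤ P.chainTopCoeff l i := by
          push_cast at ht ⊢
          linarith [hchain, Int.natCast_nonneg (P.chainBotCoeff l i)]
        exact_mod_cast this
      obtain ⟨k', hk'⟩ := hmem
      refine ⟨k', hcl k l k' hk hl ?_, hk'⟩
      rw [hk', hkr, succ_nsmul, add_assoc]
  have e : ((- P.pairingIn ℤ i l).toNat : ℤ) = - P.pairingIn ℤ i l :=
    Int.toNat_of_nonneg (by omega)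
  obtain ⟨k, hk, hkr⟩ := key (- P.pairingIn ℤ i l).toNat (by rw [e])
  have : k = P.reflectionPerm l i := by
    apply P.root.injective
    rw [hkr, ← P.reflectionPerm_root l i, ← hn, sub_eq_add_neg, ← neg_smul]
    congr 1
    rw [← Nat.cast_smul_eq_nsmul R]
    congr 1
    have := congrArg (Int.cast (R := R)) e
    push_cast at this
    exact this
  rw [← this]
  exact hk

/-- every parabolic set of roots is the parabolic set of a facet -/
theorem exists_facet_parab_eq [Finite ι] [P.IsCrystallographic] [P.IsReduced] (S : Set ι)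
    (hS : IsParabolicSubset P S) : ∃ F : Facet P, F.parab = S := by
  classical
  obtain ⟨hcl, hcov⟩ := hS
  have hmemT : ∀ i, i ∈ (Set.toFinite S).toFinset ↔ i ∈ S := fun i => Set.Finite.mem_toFinset _
  have hstab : ∀ l, l ∈ S → P.reflectionPerm l l ∈ S → ∀ i, i ∈ S → P.reflectionPerm l i ∈ S := by
    intro l hl hnl i hi
    rcases lt_trichotomy (P.toLinearMap (P.root i) (P.coroot l)) 0 with hp | hp | hp
    · by_cases hne : i = P.reflectionPerm l l
      · rw [hne, P.reflectionPerm_self]; exact hl
      · exact reflectionPerm_mem_of_closed S hcl hl hi hp hne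
    · have : P.reflectionPerm l i = i := by
        apply P.root.injective
        rw [← P.reflectionPerm_root l i, hp, zero_smul, sub_zero]
      rw [this]; exact hi
    · have hp' : P.toLinearMap (P.root i) (P.coroot (P.reflectionPerm l l)) < 0 := by
        rw [coroot_neg', map_neg]; linarith
      have hperm : P.reflectionPerm (P.reflectionPerm l l) = P.reflectionPerm l :=
        reflectionPerm_neg_eq l
      by_cases hne : i = P.reflectionPerm (P.reflectionPerm l l) (P.reflectionPerm l l)
      · have hil : i = l := by rw [hne, hperm, P.reflectionPerm_self]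
        rw [hil]; exact hnl
      · have := reflectionPerm_mem_of_closed S hcl hnl hi hp' hne
        rwa [hperm] at this
  have hA : ∀ l, l ∈ S → P.reflectionPerm l l ∈ S →
      P.toLinearMap (∑ i ∈ (Set.toFinite S).toFinset, P.root i) (P.coroot l) = 0 := by
    intro l hl hnl
    apply sum_pairing_eq_zero_of_invariant
    intro i
    rw [hmemT, hmemT]
    exact ⟨hstab l hl hnl i, fun h => by
      have := hstab l hl hnl _ h
      rwa [P.reflectionPerm_self] at this⟩
  have hB : ∀ l, l ∈ S → P.reflectionPerm l l ∉ S →
      0 < P.toLinearMap (∑ i ∈ (Set.toFinite S).toFinset, P.root i) (P.coroot l) := by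
    intro l hl hnl
    apply sum_pairing_pos' _ l ((hmemT l).mpr hl) (fun h => hnl ((hmemT _).mp h))
    intro i hi hp
    rw [hmemT] at hi ⊢
    exact reflectionPerm_mem_of_closed S hcl hl hi hp (fun h => hnl (h ▸ hi))
  refine ⟨Facet.ofVec P (∑ i ∈ (Set.toFinite S).toFinset, P.root i), ?_⟩
  ext l
  show SignType.sign (P.toLinearMap (∑ i ∈ (Set.toFinite S).toFinset, P.root i) (P.coroot l)) ≠ -1
    ↔ l ∈ S
  rw [Ne, sign_eq_neg_one_iff, not_lt]
  constructor
  · intro h
    by_contra hl
    have hnl : P.reflectionPerm l l ∈ S := (hcov l).resolve_left hl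
    have hnn : P.reflectionPerm (P.reflectionPerm l l) (P.reflectionPerm l l) ∉ S := by
      rw [reflectionPerm_neg_eq, P.reflectionPerm_self]; exact hl
    have := hB _ hnl hnn
    rw [coroot_neg', map_neg] at this
    linarith
  · intro hl
    by_cases hnl : P.reflectionPerm l l ∈ S
    · exact (hA l hl hnl).ge
    · exact (hB l hl hnl).le

/-- the parabolic set of a facet is a parabolic set of roots -/
theorem isParabolicSubset_parab [Finite ι] (F : Facet P) : IsParabolicSubset P F.parab := by
  classical
  have := Fintype.ofFinite ι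
  obtain ⟨ξ, hξ⟩ := F.exists_sgnVec_eq
  have hmem : ∀ i, i ∈ F.parab ↔ 0 ≤ P.toLinearMap ξ (P.coroot i) := by
    intro i
    show F.sgn i ≠ -1 ↔ _
    rw [← hξ]
    show SignType.sign (P.toLinearMap ξ (P.coroot i)) ≠ -1 ↔ _
    rw [Ne, sign_eq_neg_one_iff, not_lt]
  refine ⟨fun i j k hi hj hk => ?_, fun i => ?_⟩
  · rw [hmem] at hi hj ⊢
    have hq : ∀ m : ι, 0 < P.RootForm (P.root m) (P.root m) := fun m =>
      P.rootForm_pos_of_ne_zero (Submodule.subset_span ⟨m, rfl⟩) (P.ne_zero m)
    have h1 : P.RootForm (P.root k) (P.root k) • P.coroot k =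
        P.RootForm (P.root i) (P.root i) • P.coroot i +
          P.RootForm (P.root j) (P.root j) • P.coroot j := by
      rw [P.rootForm_self_smul_coroot k, P.rootForm_self_smul_coroot i,
        P.rootForm_self_smul_coroot j, hk, map_add, smul_add]
    have h2 := congrArg (P.toLinearMap ξ) h1
    simp only [map_add, map_smul, smul_eq_mul] at h2
    have h3 : 0 ≤ P.RootForm (P.root k) (P.root k) * P.toLinearMap ξ (P.coroot k) := by
      rw [h2]
      exact add_nonneg (mul_nonneg (hq i).le hi) (mul_nonneg (hq j).le hj)
    exact (mul_nonneg_iff_of_pos_left (hq k)).mp h3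
  · by_cases h : i ∈ F.parab
    · exact Or.inl h
    · right
      rw [hmem] at h ⊢
      rw [coroot_neg', map_neg]
      linarith

end Groth.Agent.Helper24.RC
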