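import Groth.Agent.Lib.Helper24.RootChE

/-!
# Helper library for the RootCh cluster, part F: positive coroots of a base, comparison with
Mathlib's `IsPos`, reflection of a base.
-/

set_option autoImplicit false

namespace Groth.Agent.Helper24.RC

open RootCh Module

universe u v w x
variable {ι : Type u} {R : Type v} {M : Type w} {N : Type x}
variable [Field R] [LinearOrder R] [IsStrictOrderedRing R]
  [AddCommGroup M] [Module R M] [AddCommGroup N] [Module R N]
variable {P : RootPairing ι R M N}

section Refl

theorem pair_reflection_coreflection (i : ι) (x : M) (y : N) :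
    P.toLinearMap (P.reflection i x) (P.coreflection i y) = P.toLinearMap x y := by
  rw [P.reflection_apply, P.coreflection_apply]
  simp only [map_sub, map_smul, LinearMap.sub_apply, LinearMap.smul_apply, smul_eq_mul,
    LinearMap.flip_apply, P.root_coroot_two]
  ring

theorem refl_li (b : P.Base) (i : ι) [DecidableEq ι] :
    LinearIndepOn R P.root ↑(b.support.image (P.reflectionPerm i)) := by
  rw [Finset.coe_image]
  apply LinearIndepOn.image_of_comp (P.reflectionPerm i) P.root
  have h : P.root ∘ (P.reflectionPerm i) = ⇑(P.reflection i : M →ₗ[R] M) ∘ P.root :=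
    funext fun j => P.root_reflectionPerm i j
  rw [h]
  exact b.linearIndepOn_root.map_injOn _ (P.reflection i).injective.injOn

theorem refl_mem (b : P.Base) (i : ι) [DecidableEq ι] (j : ι) :
    P.root j ∈ AddSubmonoid.closure (P.root '' ↑(b.support.image (P.reflectionPerm i))) ∨
    -P.root j ∈ AddSubmonoid.closure (P.root '' ↑(b.support.image (P.reflectionPerm i))) := by
  have key : ∀ x ∈ AddSubmonoid.closure (P.root '' (b.support : Set ι)),
      P.reflection i x ∈
        AddSubmonoid.closure (P.root '' ↑(b.support.image (P.reflectionPerm i))) := by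
    intro x hx
    refine AddSubmonoid.closure_induction (motive := fun x _ => P.reflection i x ∈
        AddSubmonoid.closure (P.root '' ↑(b.support.image (P.reflectionPerm i)))) ?_ ?_ ?_ hx
    · rintro _ ⟨l, hl, rfl⟩
      rw [← P.root_reflectionPerm]
      exact AddSubmonoid.subset_closure
        ⟨P.reflectionPerm i l, Finset.mem_coe.mpr (Finset.mem_image_of_mem _ hl), rfl⟩
    · rw [map_zero]; exact zero_mem _
    · intro x y _ _ hx hy
      rw [map_add]; exact add_mem hx hy
  have hj : P.reflection i (P.root (P.reflectionPerm i j)) = P.root j := by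
    rw [← P.root_reflectionPerm, P.reflectionPerm_self]
  rcases b.root_mem_or_neg_mem (P.reflectionPerm i j) with h | h
  · left
    rw [← hj]; exact key _ h
  · right
    rw [← hj, ← map_neg]; exact key _ h

open Classical in
/-- the image of a base under a reflection -/
noncomputable def reflBase (b : P.Base) (i : ι) : P.Base where
  support := b.support.image (P.reflectionPerm i)
  linearIndepOn_root := refl_li b i
  linearIndepOn_coroot := refl_li (P := P.flip) b.flip i
  root_mem_or_neg_mem := refl_mem b i
  coroot_mem_or_neg_mem := refl_mem (P := P.flip) b.flip i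

theorem mem_reflBase_support {b : P.Base} {i j : ι} :
    j ∈ (reflBase b i).support ↔ ∃ l ∈ b.support, P.reflectionPerm i l = j := by
  classical
  unfold reflBase
  exact Finset.mem_image

/-- the simple index of the reflected base attached to a simple index of `b` -/
noncomputable def reflIdx (b : P.Base) (i : ι) (l : b.support) : (reflBase b i).support :=
  ⟨P.reflectionPerm i l, mem_reflBase_support.mpr ⟨l, l.2, rfl⟩⟩

@[simp] theorem coe_reflIdx (b : P.Base) (i : ι) (l : b.support) :
    ((reflIdx b i l : (reflBase b i).support) : ι) = P.reflectionPerm i l := rfl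

theorem reflIdx_surjective (b : P.Base) (i : ι) : Function.Surjective (reflIdx b i) := by
  rintro ⟨j, hj⟩
  obtain ⟨l, hl, rfl⟩ := mem_reflBase_support.mp hj
  exact ⟨⟨l, hl⟩, rfl⟩

theorem reflIdx_injective (b : P.Base) (i : ι) : Function.Injective (reflIdx b i) := by
  intro l l' h
  have := congrArg Subtype.val h
  simp only [coe_reflIdx] at this
  exact Subtype.ext ((P.reflectionPerm i).injective this)

end Refl

variable [P.IsRootSystem]

theorem fundWeight_reflBase (b : P.Base) (i : ι) (l : b.support) :
    fundWeight (reflBase b i) (reflIdx b i l) = P.reflection i (fundWeight b l) := by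
  apply eq_of_pair_coroot (reflBase b i)
  intro k'
  obtain ⟨k, rfl⟩ := reflIdx_surjective b i k'
  have h2 : P.toLinearMap (P.reflection i (fundWeight b l)) (P.coroot (reflIdx b i k : ι)) =
      P.toLinearMap (fundWeight b l) (P.coroot k) := by
    rw [coe_reflIdx, P.coroot_reflectionPerm, pair_reflection_coreflection]
  rw [h2]
  by_cases hkl : k = l
  · subst hkl
    rw [pair_fundWeight_coroot_self, pair_fundWeight_coroot_self]
  · rw [pair_fundWeight_coroot_ne b hkl,
      pair_fundWeight_coroot_ne (reflBase b i) (fun h => hkl (reflIdx_injective b i h))]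

theorem pair_fundWeight_reflBase (b : P.Base) (i : ι) (l : b.support) (j : ι) :
    P.toLinearMap (fundWeight (reflBase b i) (reflIdx b i l)) (P.coroot j) =
      P.toLinearMap (fundWeight b l) (P.coroot (P.reflectionPerm i j)) := by
  rw [fundWeight_reflBase, P.coroot_reflectionPerm]
  conv_lhs => rw [← P.coreflection_same i (P.coroot j)]
  rw [pair_reflection_coreflection]

end Groth.Agent.Helper24.RC
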