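import Groth.Agent.Lib.Helper24.RootChF

/-!
# Helper library for the RootCh cluster, part G: positive coroots, `IsPos`, adjacent chambers.
-/

set_option autoImplicit false

namespace Groth.Agent.Helper24.RC

open RootCh Module

universe u v w x
variable {ι : Type u} {R : Type v} {M : Type w} {N : Type x}
variable [Field R] [LinearOrder R] [IsStrictOrderedRing R]
  [AddCommGroup M] [Module R M] [AddCommGroup N] [Module R N]
variable {P : RootPairing ι R M N} [P.IsRootSystem]

/-- coroot `j` is a non-negative combination of the simple coroots of `b` -/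
def Pos (b : P.Base) (j : ι) : Prop :=
  ∀ i : b.support, 0 ≤ P.toLinearMap (fundWeight b i) (P.coroot j)

theorem pos_or_pos_neg (b : P.Base) (j : ι) : Pos b j ∨ Pos b (P.reflectionPerm j j) := by
  rcases cc_nonneg_or_nonpos b j with h | h
  · exact Or.inl h
  · right
    intro i
    rw [coroot_neg', map_neg]
    exact neg_nonneg.mpr (h i)

theorem not_pos_neg_of_pos (b : P.Base) {j : ι} (h : Pos b j) :
    ¬ Pos b (P.reflectionPerm j j) := by
  intro h'
  have h0 : ∀ i : b.support, P.toLinearMap (fundWeight b i) (P.coroot j) = 0 := by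
    intro i
    have h1 := h' i
    rw [coroot_neg', map_neg] at h1
    exact le_antisymm (by linarith) (h i)
  have : P.coroot j = 0 := by
    rw [expand_N b (P.coroot j)]
    exact Finset.sum_eq_zero fun i _ => by rw [h0 i, zero_smul]
  exact P.ne_zero' j this

theorem pos_neg_iff (b : P.Base) (j : ι) : Pos b (P.reflectionPerm j j) ↔ ¬ Pos b j :=
  ⟨fun h h' => not_pos_neg_of_pos b h' h, fun h => (pos_or_pos_neg b j).resolve_left h⟩

theorem pos_of_mem_support (b : P.Base) (i : b.support) : Pos b i := by
  intro l
  by_cases h : i = l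
  · subst h; rw [pair_fundWeight_coroot_self]; exact zero_le_one
  · rw [pair_fundWeight_coroot_ne b h]

/-- a vector of the closed chamber pairs non-negatively with the positive coroots -/
theorem pair_nonneg_of_pos (b : P.Base) {ξ : M} (hξ : ξ ∈ closedChamber b) {j : ι}
    (hj : Pos b j) : 0 ≤ P.toLinearMap ξ (P.coroot j) := by
  rw [pair_coroot_eq_sum b ξ j]
  exact Finset.sum_nonneg fun i _ => mul_nonneg (hj i) (hξ i i.2)

theorem pos_reflBase (b : P.Base) (i j : ι) :
    Pos (reflBase b i) j ↔ Pos b (P.reflectionPerm i j) := by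
  constructor
  · intro h l
    rw [← pair_fundWeight_reflBase]
    exact h _
  · intro h l'
    obtain ⟨l, rfl⟩ := reflIdx_surjective b i l'
    rw [pair_fundWeight_reflBase]
    exact h l

theorem height_cast (b : P.Base) (j : ι) :
    ((b.height j : ℤ) : R) = ∑ i : b.support, P.toLinearMap (P.root j) (fundCoweight b i) := by
  classical
  choose z hz using fun i : b.support => rc_int b i j
  have hf : ∀ i : b.support,
      (fun l : ι => if h : l ∈ b.support then z ⟨l, h⟩ else 0) (i : ι) = z i := fun i => by
    simp only [i.2, dite_true]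
  have hroot : P.root j = ∑ l ∈ b.support,
      (fun l : ι => if h : l ∈ b.support then z ⟨l, h⟩ else 0) l • P.root l := by
    rw [← Finset.sum_coe_sort b.support]
    conv_lhs => rw [expand_M b (P.root j)]
    refine Finset.sum_congr rfl fun i _ => ?_
    rw [hz i, hf i, Int.cast_smul_eq_zsmul]
  rw [RootPairing.Base.height_eq_sum hroot, ← Finset.sum_coe_sort b.support, Int.cast_sum]
  refine Finset.sum_congr rfl fun i _ => ?_
  rw [hz i]
  exact congrArg Int.cast (hf i)

theorem isPos_iff_pos [Finite ι] (b : P.Base) (j : ι) : b.IsPos j ↔ Pos b j := by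
  have hsign : ∀ i : b.support, (0 ≤ P.toLinearMap (fundWeight b i) (P.coroot j) ↔
      0 ≤ P.toLinearMap (P.root j) (fundCoweight b i)) := fun i => by
    rw [← sign_nonneg_iff, sign_cc_eq_sign_rc, sign_nonneg_iff]
  have hcast : (0 < b.height j) ↔
      0 < ∑ i : b.support, P.toLinearMap (P.root j) (fundCoweight b i) := by
    rw [← height_cast]; exact Int.cast_pos.symm
  rw [RootPairing.Base.isPos_iff, hcast]
  constructor
  · intro hpos i
    rw [hsign]
    rcases rc_nat_or_neg b j with h | h
    · obtain ⟨n, hn⟩ := h i; rw [hn]; exact Nat.cast_nonneg n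
    · exfalso
      have : ∑ i : b.support, P.toLinearMap (P.root j) (fundCoweight b i) ≤ 0 :=
        Finset.sum_nonpos fun i _ => by
          obtain ⟨n, hn⟩ := h i; rw [hn]; exact neg_nonpos.mpr (Nat.cast_nonneg n)
      linarith
  · intro hpos
    have hnn : ∀ i : b.support, 0 ≤ P.toLinearMap (P.root j) (fundCoweight b i) :=
      fun i => (hsign i).mp (hpos i)
    have hne : ∃ i : b.support, P.toLinearMap (P.root j) (fundCoweight b i) ≠ 0 := by
      by_contra hcon
      push Not at hcon
      apply P.ne_zero j
      rw [expand_M b (P.root j)]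
      exact Finset.sum_eq_zero fun i _ => by rw [hcon i, zero_smul]
    obtain ⟨i, hi⟩ := hne
    exact Finset.sum_pos' (fun i _ => hnn i)
      ⟨i, Finset.mem_univ i, lt_of_le_of_ne (hnn i) (Ne.symm hi)⟩

/-- a simple reflection permutes the positive coroots other than the simple one -/
theorem pos_reflectionPerm [Finite ι] [P.IsCrystallographic] [P.IsReduced] (b : P.Base)
    (i : b.support) {j : ι} (hj : Pos b j) (hji : j ≠ i) : Pos b (P.reflectionPerm i j) := by
  rw [← isPos_iff_pos] at hj ⊢
  exact hj.reflectionPerm i.2 hji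

theorem baseCorners_eq_range (b : P.Base) : baseCorners b = Set.range (fundWeight b) := by
  ext w
  constructor
  · rintro ⟨⟨b', i', rfl⟩, hw⟩
    obtain ⟨i, hi⟩ := exists_fundWeight_eq_of_mem_closedChamber b b' i' hw
    exact ⟨i, hi⟩
  · rintro ⟨i, rfl⟩
    exact ⟨⟨b, i, rfl⟩, fundWeight_mem_closedChamber b i⟩

/-- the fundamental weights of the reflected base, away from the reflecting simple root -/
theorem fundWeight_reflBase_of_ne (b : P.Base) (i : b.support) {l : b.support} (hl : l ≠ i) :
    fundWeight (reflBase b i) (reflIdx b i l) = fundWeight b l := by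
  rw [fundWeight_reflBase, P.reflection_apply]
  have : P.coroot' i (fundWeight b l) = 0 := pair_fundWeight_coroot_ne b (Ne.symm hl)
  rw [this, zero_smul, sub_zero]

theorem fundWeight_reflBase_self (b : P.Base) (i : b.support) :
    fundWeight (reflBase b i) (reflIdx b i i) = fundWeight b i - P.root i := by
  rw [fundWeight_reflBase, P.reflection_apply]
  have : P.coroot' i (fundWeight b i) = 1 := pair_fundWeight_coroot_self b i
  rw [this, one_smul]

/-- common corners of a base and its reflection in a simple root -/
theorem baseCorners_inter_reflBase (b : P.Base) (i : b.support) :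
    baseCorners b ∩ baseCorners (reflBase b i) = fundWeight b '' {l : b.support | l ≠ i} := by
  rw [baseCorners_eq_range, baseCorners_eq_range]
  ext w
  constructor
  · rintro ⟨⟨l, rfl⟩, ⟨l', hl'⟩⟩
    refine ⟨l, ?_, rfl⟩
    rintro rfl
    obtain ⟨l₂, rfl⟩ := reflIdx_surjective b l l'
    by_cases h2 : l₂ = l
    · subst h2
      rw [fundWeight_reflBase_self] at hl'
      have : P.root (l₂ : ι) = 0 := by
        have := congrArg (fun x => fundWeight b l₂ - x) hl'
        simpa using this
      exact P.ne_zero _ this
    · rw [fundWeight_reflBase_of_ne b l h2] at hl'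
      exact h2 (fundWeight_injective b hl')
  · rintro ⟨l, hl, rfl⟩
    exact ⟨⟨l, rfl⟩, ⟨reflIdx b i l, fundWeight_reflBase_of_ne b i hl⟩⟩

theorem ncard_baseCorners_inter_reflBase (b : P.Base) (i : b.support) :
    (baseCorners b ∩ baseCorners (reflBase b i)).ncard + 1 = b.support.card := by
  classical
  rw [baseCorners_inter_reflBase, Set.ncard_image_of_injective _ (fundWeight_injective b)]
  have h1 : {l : b.support | l ≠ i} = ({i} : Set b.support)ᶜ := by
    ext l; simp
  rw [h1, Set.ncard_compl, Set.ncard_singleton, Nat.card_eq_fintype_card, Fintype.card_coe]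
  have : 0 < b.support.card := Finset.card_pos.mpr ⟨i, i.2⟩
  omega

/-- the positive roots of a base not positive for its reflection in a simple root -/
theorem isPos_and_not_isPos_reflBase_iff [Finite ι] [P.IsCrystallographic] [P.IsReduced]
    (b : P.Base) (i : b.support) (j : ι) :
    (b.IsPos j ∧ ¬ (reflBase b i).IsPos j) ↔ j = i := by
  rw [isPos_iff_pos, isPos_iff_pos, pos_reflBase]
  constructor
  · rintro ⟨h1, h2⟩
    by_contra hji
    exact h2 (pos_reflectionPerm b i h1 hji)
  · rintro rfl
    exact ⟨pos_of_mem_support b i, not_pos_neg_of_pos b (pos_of_mem_support b i)⟩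

end Groth.Agent.Helper24.RC
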