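import Groth.Agent.Lib.Helper24.RootChG

/-!
# Helper library for the RootCh cluster, part H: monotonicity of a complementary convex solid
along galleries.
-/

set_option autoImplicit false

namespace Groth.Agent.Helper24.RC

open RootCh Module

universe u v w x
variable {ι : Type u} {R : Type v} {M : Type w} {N : Type x}
variable [Field R] [LinearOrder R] [IsStrictOrderedRing R]
  [AddCommGroup M] [Module R M] [AddCommGroup N] [Module R N]
variable {P : RootPairing ι R M N} [P.IsRootSystem]
variable [Finite ι] [P.IsCrystallographic] [P.IsReduced]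

/-- across a wall: `d b - d (s_i b)` is a non-positive multiple of the simple coroot `i` -/
theorem d_sub_d_reflBase {d : P.Base → N} (hd : IsCCS d) (b : P.Base) (i : b.support) :
    ∃ s : R, s ≤ 0 ∧ d b - d (reflBase b i) = s • P.coroot i := by
  classical
  have heq : d b - d (reflBase b i) =
      P.toLinearMap (fundWeight b i) (d b - d (reflBase b i)) • P.coroot i := by
    conv_lhs => rw [expand_N b (d b - d (reflBase b i))]
    rw [Finset.sum_eq_single i]
    · intro l _ hl
      have hmem : fundWeight b l ∈ baseCorners b ∩ baseCorners (reflBase b i) := by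
        rw [baseCorners_inter_reflBase]; exact ⟨l, hl, rfl⟩
      rw [map_sub, hd.corner_eq b (reflBase b i) _ hmem.1 hmem.2, sub_self, zero_smul]
    · intro h; exact absurd (Finset.mem_univ i) h
  refine ⟨P.toLinearMap (fundWeight b i) (d b - d (reflBase b i)), ?_, heq⟩
  have hB2 := hd.wall_le b (reflBase b i) i (ncard_baseCorners_inter_reflBase b i)
    (fun j => isPos_and_not_isPos_reflBase_iff b i j)
  have h2 : P.toLinearMap (P.root i) (d b - d (reflBase b i)) ≤ 0 := by
    rw [map_sub]; exact sub_nonpos.mpr hB2
  rw [heq, map_smul, smul_eq_mul, P.root_coroot_two] at h2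
  linarith

/-- **monotonicity**: the value of a corner `m` of a chamber `b'` on `d` is smallest at `b'` -/
theorem mono {d : P.Base → N} (hd : IsCCS d) (b' : P.Base) {m : M} (hm : m ∈ baseCorners b')
    (c : P.Base) : P.toLinearMap m (d b') ≤ P.toLinearMap m (d c) := by
  classical
  have main : ∀ n : ℕ, ∀ c : P.Base, {j | Pos b' j ∧ ¬ Pos c j}.ncard = n →
      P.toLinearMap m (d b') ≤ P.toLinearMap m (d c) := by
    intro n
    induction n using Nat.strong_induction_on with
    | _ n ih =>
      intro c hc
      by_cases hA : ∀ i : c.support, Pos b' i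
      · have hmc : m ∈ baseCorners c :=
          ⟨hm.1, fun i hi => pair_nonneg_of_pos b' hm.2 (hA ⟨i, hi⟩)⟩
        exact (hd.corner_eq b' c m hm hmc).le
      · push Not at hA
        obtain ⟨i, hi⟩ := hA
        have hnegi : Pos b' (P.reflectionPerm i i) := (pos_neg_iff b' i).mpr hi
        have hsub : {j | Pos b' j ∧ ¬ Pos (reflBase c i) j} ⊂ {j | Pos b' j ∧ ¬ Pos c j} := by
          refine ⟨fun j hj => ⟨hj.1, fun hpos => ?_⟩, fun hcon => ?_⟩
          · have hji : j ≠ i := by
              rintro rfl
              exact hi hj.1
            exact hj.2 ((pos_reflBase c i j).mpr (pos_reflectionPerm c i hpos hji))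
          · have h1 : P.reflectionPerm i i ∈ {j | Pos b' j ∧ ¬ Pos c j} :=
              ⟨hnegi, not_pos_neg_of_pos c (pos_of_mem_support c i)⟩
            have h2 := (hcon h1).2
            apply h2
            rw [pos_reflBase, P.reflectionPerm_self]
            exact pos_of_mem_support c i
        have hlt : {j | Pos b' j ∧ ¬ Pos (reflBase c i) j}.ncard < n := by
          rw [← hc]; exact Set.ncard_lt_ncard hsub (Set.toFinite _)
        have h1 := ih _ hlt (reflBase c i) rfl
        obtain ⟨s, hs, hds⟩ := d_sub_d_reflBase hd c i
        have h2 : P.toLinearMap m (d c) =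
            P.toLinearMap m (d (reflBase c i)) + s * P.toLinearMap m (P.coroot i) := by
          have := congrArg (P.toLinearMap m) hds
          rw [map_sub, map_smul, smul_eq_mul] at this
          linarith
        have h3 : P.toLinearMap m (P.coroot i) ≤ 0 := by
          have := pair_nonneg_of_pos b' hm.2 hnegi
          rw [coroot_neg', map_neg] at this
          linarith
        have h4 : 0 ≤ s * P.toLinearMap m (P.coroot i) := mul_nonneg_of_nonpos_of_nonpos hs h3
        linarith
  exact main _ c rfl

end Groth.Agent.Helper24.RC
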