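import Groth.Agent.Lib.Helper24.RootChH

/-!
# Helper library for the RootCh cluster, part I: the dual solid of a facet as an intersection of
hyperplanes and half-spaces.
-/

set_option autoImplicit false

namespace Groth.Agent.Helper24.RC

open RootCh Module

universe u v w x
variable {ι : Type u} {R : Type v} {M : Type w} {N : Type x}
variable [Field R] [LinearOrder R] [IsStrictOrderedRing R]
  [AddCommGroup M] [Module R M] [AddCommGroup N] [Module R N]
variable {P : RootPairing ι R M N} [P.IsRootSystem]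

theorem base_ext {b b' : P.Base} (h : b.support = b'.support) : b = b' := by
  cases b; cases b'; simp only at h; subst h; rfl

instance [Finite ι] : Finite P.Base :=
  Finite.of_injective (fun b : P.Base => b.support) (fun _ _ h => base_ext h)

theorem fundWeights_finite [Finite ι] : (fundWeights P).Finite := by
  have : fundWeights P = ⋃ b : P.Base, Set.range (fundWeight b) := by
    ext w; simp only [fundWeights, Set.mem_setOf_eq, Set.mem_iUnion, Set.mem_range]
  rw [this]
  exact Set.finite_iUnion fun b => Set.finite_range _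

theorem fundWeight_mem_baseCorners (b : P.Base) (l : b.support) : fundWeight b l ∈ baseCorners b :=
  ⟨⟨b, l, rfl⟩, fundWeight_mem_closedChamber b l⟩

theorem corners'_subset_fundWeights (F : Facet P) : F.corners' ⊆ fundWeights P := by
  intro m hm
  obtain ⟨b, _, hmb⟩ := Set.mem_iUnion₂.mp hm
  exact hmb.1

theorem cham_subset_of_le {F' F : Facet P} (h : F' ≤ F) : F'.cham ⊆ F.cham := by
  intro c hc η hη l hl
  obtain ⟨ξ', hξ'⟩ := F'.exists_sgnVec_eq
  have h1 : 0 ≤ P.toLinearMap ξ' (P.coroot l) := hc hξ' l hl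
  have h2 : (0 : SignType) ≤ F'.sgn l := by
    rw [← hξ']; exact sign_nonneg_iff.mpr h1
  have h3 : (0 : SignType) ≤ F.sgn l := by
    rcases h l with h0 | h0
    · rw [h0]
    · rw [h0]; exact h2
  have hη' : sgnVec P η = F.sgn := hη
  rw [← hη'] at h3
  exact sign_nonneg_iff.mp h3

theorem corners'_subset_of_le {F' F : Facet P} (h : F' ≤ F) : F'.corners' ⊆ F.corners' := by
  intro m hm
  obtain ⟨b, hb, hmb⟩ := Set.mem_iUnion₂.mp hm
  exact Set.mem_iUnion₂.mpr ⟨b, cham_subset_of_le h hb, hmb⟩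

theorem ofVec_add_le (b : P.Base) {ξ : M} (hξ : ξ ∈ closedChamber b) (k : b.support) :
    Facet.ofVec P (ξ + fundWeight b k) ≤ Facet.ofVec P ξ := by
  intro j
  have hξk := add_mem_closedChamber b hξ (fundWeight_mem_closedChamber b k)
  have hmono : ∀ l : b.support, 0 < P.toLinearMap ξ (P.coroot l) →
      0 < P.toLinearMap (ξ + fundWeight b k) (P.coroot l) :=
    fun l hl => (pos_add_fundWeight_iff b hξ k l).mpr (Or.inr hl)
  show SignType.sign (P.toLinearMap ξ (P.coroot j)) = 0 ∨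
    SignType.sign (P.toLinearMap ξ (P.coroot j)) =
      SignType.sign (P.toLinearMap (ξ + fundWeight b k) (P.coroot j))
  rcases lt_trichotomy (P.toLinearMap ξ (P.coroot j)) 0 with h | h | h
  · right
    obtain ⟨l, hl1, hl2⟩ := (neg_iff_of_mem_closedChamber b hξ j).mp h
    rw [sign_neg h,
      sign_neg ((neg_iff_of_mem_closedChamber b hξk j).mpr ⟨l, hmono l hl1, hl2⟩)]
  · left; rw [h, sign_zero]
  · right
    obtain ⟨l, hl1, hl2⟩ := (pos_iff_of_mem_closedChamber b hξ j).mp h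
    rw [sign_pos h,
      sign_pos ((pos_iff_of_mem_closedChamber b hξk j).mpr ⟨l, hmono l hl1, hl2⟩)]

theorem corners_ofVec_add (b : P.Base) {ξ : M} (hξ : ξ ∈ closedChamber b) (k : b.support) :
    (Facet.ofVec P (ξ + fundWeight b k)).corners =
      insert (fundWeight b k) (Facet.ofVec P ξ).corners := by
  have hξk := add_mem_closedChamber b hξ (fundWeight_mem_closedChamber b k)
  rw [corners_eq_image b (Facet.ofVec P (ξ + fundWeight b k)) (ξ := ξ + fundWeight b k) rfl hξk,
    corners_eq_image b (Facet.ofVec P ξ) (ξ := ξ) rfl hξ]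
  ext w
  simp only [Set.mem_image, Set.mem_setOf_eq, Set.mem_insert_iff]
  constructor
  · rintro ⟨l, hl, rfl⟩
    rcases (pos_add_fundWeight_iff b hξ k l).mp hl with h | h
    · left; rw [h]
    · right; exact ⟨l, h, rfl⟩
  · rintro (rfl | ⟨l, hl, rfl⟩)
    · exact ⟨k, (pos_add_fundWeight_iff b hξ k k).mpr (Or.inl rfl), rfl⟩
    · exact ⟨l, (pos_add_fundWeight_iff b hξ k l).mpr (Or.inr hl), rfl⟩

open Classical in
/-- the common value `⟨m, d b⟩` for the chambers `b` having `m` as a corner -/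
noncomputable def hval (d : P.Base → N) (m : M) : R :=
  if h : ∃ b : P.Base, m ∈ baseCorners b then P.toLinearMap m (d (Classical.choose h)) else 0

theorem hval_eq {d : P.Base → N} (hd : IsCCS d) {b : P.Base} {m : M} (hm : m ∈ baseCorners b) :
    hval d m = P.toLinearMap m (d b) := by
  have h : ∃ b : P.Base, m ∈ baseCorners b := ⟨b, hm⟩
  rw [hval, dif_pos h]
  exact hd.corner_eq _ b m (Classical.choose_spec h) hm

theorem convex_hyper (d : P.Base → N) (m : M) : Convex R (hyper d m) := by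
  intro x hx y hy a b _ _ hab c hc
  rw [map_add, map_smul, map_smul, hx c hc, hy c hc, smul_eq_mul, smul_eq_mul, ← add_mul, hab,
    one_mul]

theorem convex_halfClosed (d : P.Base → N) (m : M) : Convex R (halfClosed d m) := by
  intro x hx y hy a b ha hb hab c hc
  show P.toLinearMap m (d c) ≤ P.toLinearMap m (a • x + b • y)
  rw [map_add, map_smul, map_smul, smul_eq_mul, smul_eq_mul]
  have h1 : P.toLinearMap m (d c) ≤ P.toLinearMap m x := hx c hc
  have h2 : P.toLinearMap m (d c) ≤ P.toLinearMap m y := hy c hc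
  calc P.toLinearMap m (d c) = a * P.toLinearMap m (d c) + b * P.toLinearMap m (d c) := by
        rw [← add_mul, hab, one_mul]
    _ ≤ _ := add_le_add (mul_le_mul_of_nonneg_left h1 ha) (mul_le_mul_of_nonneg_left h2 hb)

variable [Finite ι] [P.IsCrystallographic] [P.IsReduced]

/-- a perturbation argument: a chamber containing `ξ` on which `ξ + ε ρ` is strictly dominant -/
theorem exists_base_mem_closedChamber' (ξ ρ : M)
    (hρ : ∀ i, P.coroot' i ξ = 0 → P.coroot' i ρ ≠ 0) :
    ∃ ε : R, 0 < ε ∧ ∃ b : P.Base, ξ ∈ closedChamber b ∧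
      ∀ i ∈ b.support, 0 < P.toLinearMap (ξ + ε • ρ) (P.coroot i) := by
  classical
  have := Fintype.ofFinite ι
  have hT0 : 0 ≤ ∑ i, |P.coroot' i ρ| / |P.coroot' i ξ| :=
    Finset.sum_nonneg (fun i _ => div_nonneg (abs_nonneg _) (abs_nonneg _))
  have hεpos : 0 < (1 + ∑ i, |P.coroot' i ρ| / |P.coroot' i ξ|)⁻¹ := inv_pos.mpr (by linarith)
  have hsmall : ∀ i, P.coroot' i ξ ≠ 0 →
      (1 + ∑ i, |P.coroot' i ρ| / |P.coroot' i ξ|)⁻¹ * |P.coroot' i ρ| < |P.coroot' i ξ| := by
    intro i hi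
    have h1 : |P.coroot' i ρ| / |P.coroot' i ξ| ≤ ∑ i, |P.coroot' i ρ| / |P.coroot' i ξ| :=
      Finset.single_le_sum (f := fun i => |P.coroot' i ρ| / |P.coroot' i ξ|)
        (fun i _ => div_nonneg (abs_nonneg _) (abs_nonneg _)) (Finset.mem_univ i)
    have h2 : 0 < |P.coroot' i ξ| := abs_pos.mpr hi
    have h3 : |P.coroot' i ρ| ≤ (∑ i, |P.coroot' i ρ| / |P.coroot' i ξ|) * |P.coroot' i ξ| :=
      (div_le_iff₀ h2).mp h1
    rw [inv_mul_lt_iff₀ (by linarith)]
    nlinarith
  generalize (1 + ∑ i, |P.coroot' i ρ| / |P.coroot' i ξ|)⁻¹ = ε at hεpos hsmall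
  have hgv : ∀ i, P.toLinearMap (ξ + ε • ρ) (P.coroot i) = P.coroot' i ξ + ε * P.coroot' i ρ := by
    intro i
    rw [map_add, map_smul, LinearMap.add_apply, LinearMap.smul_apply, smul_eq_mul]
    rfl
  have hg : ∀ i, P.toLinearMap (ξ + ε • ρ) (P.coroot i) ≠ 0 := by
    intro i
    rw [hgv]
    by_cases hi : P.coroot' i ξ = 0
    · rw [hi, zero_add]; exact mul_ne_zero hεpos.ne' (hρ i hi)
    · intro h0
      have h5 := hsmall i hi
      have h6 : P.coroot' i ξ = -(ε * P.coroot' i ρ) := by linarith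
      rw [h6, abs_neg, abs_mul, abs_of_pos hεpos] at h5
      exact lt_irrefl _ h5
  obtain ⟨b, hb⟩ := exists_base_pos_of_regular (P := P) (P.toLinearMap (ξ + ε • ρ)) hg
  refine ⟨ε, hεpos, b, fun i hi => ?_, hb⟩
  have h7 := hb i hi
  rw [hgv] at h7
  by_contra hneg
  push Not at hneg
  have h5 := hsmall i (ne_of_lt hneg)
  have h8 : ε * P.coroot' i ρ ≤ ε * |P.coroot' i ρ| :=
    mul_le_mul_of_nonneg_left (le_abs_self _) hεpos.le
  rw [abs_of_neg hneg] at h5
  linarith

/-- boundedness of the solid in the directions orthogonal to the corners of a facet -/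
theorem exists_neg_of_ne_zero (F : Facet P) {v : N} (hv : v ≠ 0)
    (hperp : ∀ m ∈ F.corners, P.toLinearMap m v = 0) :
    ∃ m ∈ F.corners', P.toLinearMap m v < 0 := by
  classical
  by_contra hcon
  push Not at hcon
  obtain ⟨ξ, b₀, hξF, hξ, hb₀⟩ := exists_mem_cham F
  obtain ⟨ρ₀, hρ₀def⟩ : ∃ ρ₀ : M, ρ₀ = ∑ l : b₀.support, fundWeight b₀ l := ⟨_, rfl⟩
  have hρ₀ : ∀ j, P.toLinearMap ρ₀ (P.coroot j) ≠ 0 := by
    intro j h0
    rw [hρ₀def, map_sum, LinearMap.sum_apply] at h0
    have hall : ∀ l : b₀.support, P.toLinearMap (fundWeight b₀ l) (P.coroot j) = 0 := by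
      rcases cc_nonneg_or_nonpos b₀ j with hs | hs
      · exact fun l => (Finset.sum_eq_zero_iff_of_nonneg (fun l _ => hs l)).mp h0 l
          (Finset.mem_univ l)
      · exact fun l => (Finset.sum_eq_zero_iff_of_nonpos (fun l _ => hs l)).mp h0 l
          (Finset.mem_univ l)
    apply P.ne_zero' j
    rw [expand_N b₀ (P.coroot j)]
    exact Finset.sum_eq_zero fun l _ => by rw [hall l, zero_smul]
  obtain ⟨ε, hε, b₁, hξ₁, hb₁⟩ := exists_base_mem_closedChamber' (P := P) ξ (-ρ₀) (fun i _ => by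
    show P.toLinearMap (-ρ₀) (P.coroot i) ≠ 0
    rw [map_neg, LinearMap.neg_apply, neg_ne_zero]; exact hρ₀ i)
  have hb₁F : b₁ ∈ F.cham := fun η hη => (mem_closedChamber_of_sgnVec_eq b₁ hξ₁
    ((hη : sgnVec P η = F.sgn).trans (hξF : sgnVec P ξ = F.sgn).symm)).1
  have hc0 : ∀ l : b₀.support, 0 ≤ P.toLinearMap (fundWeight b₀ l) v := fun l =>
    hcon _ (Set.mem_iUnion₂.mpr ⟨b₀, hb₀, fundWeight_mem_baseCorners b₀ l⟩)
  have hc1 : ∀ l : b₁.support, 0 ≤ P.toLinearMap (fundWeight b₁ l) v := fun l =>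
    hcon _ (Set.mem_iUnion₂.mpr ⟨b₁, hb₁F, fundWeight_mem_baseCorners b₁ l⟩)
  have hg1 : P.toLinearMap (ξ + ε • -ρ₀) v = ∑ l : b₁.support,
      P.toLinearMap (fundWeight b₁ l) v * P.toLinearMap (ξ + ε • -ρ₀) (P.coroot l) := by
    conv_lhs => rw [expand_N b₁ v]
    rw [map_sum]
    refine Finset.sum_congr rfl fun l _ => ?_
    rw [map_smul, smul_eq_mul]
  have hξv : P.toLinearMap ξ v = 0 := by
    conv_lhs => rw [expand_fund b₀ ξ]
    rw [map_sum, LinearMap.sum_apply]
    refine Finset.sum_eq_zero fun l _ => ?_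
    rw [map_smul, LinearMap.smul_apply, smul_eq_mul]
    by_cases hl : 0 < P.toLinearMap ξ (P.coroot l)
    · rw [hperp _ (by rw [corners_eq_image b₀ F hξF hξ]; exact ⟨l, hl, rfl⟩), mul_zero]
    · have : P.toLinearMap ξ (P.coroot l) = 0 := le_antisymm (not_lt.mp hl) (hξ l l.2)
      rw [this, zero_mul]
  have hg2 : P.toLinearMap (ξ + ε • -ρ₀) v =
      - (ε * ∑ l : b₀.support, P.toLinearMap (fundWeight b₀ l) v) := by
    rw [map_add, LinearMap.add_apply, hξv, zero_add, map_smul, LinearMap.smul_apply, map_neg,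
      LinearMap.neg_apply, hρ₀def, map_sum, LinearMap.sum_apply, smul_eq_mul, mul_neg]
  have hsum0 : 0 ≤ ∑ l : b₀.support, P.toLinearMap (fundWeight b₀ l) v :=
    Finset.sum_nonneg fun l _ => hc0 l
  have hgle : P.toLinearMap (ξ + ε • -ρ₀) v ≤ 0 := by
    rw [hg2]; exact neg_nonpos.mpr (mul_nonneg hε.le hsum0)
  have hnn : ∀ l ∈ (Finset.univ : Finset b₁.support), 0 ≤ P.toLinearMap (fundWeight b₁ l) v *
      P.toLinearMap (ξ + ε • -ρ₀) (P.coroot l) :=
    fun l _ => mul_nonneg (hc1 l) (hb₁ l l.2).le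
  have hs0 : ∑ l : b₁.support, P.toLinearMap (fundWeight b₁ l) v *
      P.toLinearMap (ξ + ε • -ρ₀) (P.coroot l) = 0 :=
    le_antisymm (by rw [← hg1]; exact hgle) (Finset.sum_nonneg hnn)
  apply hv
  rw [expand_N b₁ v]
  refine Finset.sum_eq_zero fun l _ => ?_
  have := (Finset.sum_eq_zero_iff_of_nonneg hnn).mp hs0 l (Finset.mem_univ l)
  rcases mul_eq_zero.mp this with h | h
  · rw [h, zero_smul]
  · exact absurd h (hb₁ l l.2).ne'

end Groth.Agent.Helper24.RC
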