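import Groth.Agent.Lib.Helper24.RootChI

/-!
# Helper library for the RootCh cluster, part J: the dual solid of a facet is an intersection of
hyperplanes and half-spaces; semi-stability criteria.
-/

set_option autoImplicit false

namespace Groth.Agent.Helper24.RC

open RootCh Module

universe u v w x
variable {ι : Type u} {R : Type v} {M : Type w} {N : Type x}
variable [Field R] [LinearOrder R] [IsStrictOrderedRing R]
  [AddCommGroup M] [Module R M] [AddCommGroup N] [Module R N]
variable {P : RootPairing ι R M N} [P.IsRootSystem]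
variable [Finite ι] [P.IsCrystallographic] [P.IsReduced]

theorem mem_dualSolid_of_mem {d : P.Base → N} (hd : IsCCS d) :
    ∀ (n : ℕ) (F : Facet P), (F.corners' \ F.corners).ncard = n →
      ∀ y : N, (∀ m ∈ F.corners, y ∈ hyper d m) → (∀ m ∈ F.corners', y ∈ halfClosed d m) →
        y ∈ dualSolid d F := by
  classical
  intro n
  induction n using Nat.strong_induction_on with
  | _ n ih =>
    intro F hn y hy1 hy2
    obtain ⟨ξ, b₀, hξF, hξ, hb₀⟩ := exists_mem_cham F
    have hb₀mem : d b₀ ∈ dualSolid d F := subset_convexHull R _ ⟨b₀, hb₀, rfl⟩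
    obtain ⟨v, hvdef⟩ : ∃ v : N, v = y - d b₀ := ⟨_, rfl⟩
    have hyv : y = d b₀ + v := by rw [hvdef]; abel
    by_cases hv : v = 0
    · rw [hyv, hv, add_zero]; exact hb₀mem
    have hperp : ∀ m ∈ F.corners, P.toLinearMap m v = 0 := by
      intro m hm
      rw [hvdef, map_sub, sub_eq_zero]
      exact hy1 m hm b₀ (corners_subset_baseCorners F b₀ hb₀ hm)
    obtain ⟨m₀, hm₀, hm₀neg⟩ := exists_neg_of_ne_zero F hv hperp
    have hfin : F.corners'.Finite := fundWeights_finite.subset (corners'_subset_fundWeights F)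
    obtain ⟨Ng, hNg⟩ : ∃ Ng : Finset M,
        Ng = hfin.toFinset.filter (fun m => P.toLinearMap m v < 0) := ⟨_, rfl⟩
    have hmemNg : ∀ m, m ∈ Ng ↔ m ∈ F.corners' ∧ P.toLinearMap m v < 0 := by
      intro m; rw [hNg, Finset.mem_filter, Set.Finite.mem_toFinset]
    have hNgne : Ng.Nonempty := ⟨m₀, (hmemNg m₀).mpr ⟨hm₀, hm₀neg⟩⟩
    obtain ⟨m₁, hm₁N, hmin⟩ := Finset.exists_min_image Ng
      (fun m => (hval d m - P.toLinearMap m (d b₀)) / P.toLinearMap m v) hNgne
    obtain ⟨hm₁, hm₁neg⟩ := (hmemNg m₁).mp hm₁N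
    obtain ⟨t, ht⟩ : ∃ t : R,
        t = (hval d m₁ - P.toLinearMap m₁ (d b₀)) / P.toLinearMap m₁ v := ⟨_, rfl⟩
    have hmin' : ∀ m ∈ F.corners', P.toLinearMap m v < 0 →
        hval d m - P.toLinearMap m (d b₀) ≤ t * P.toLinearMap m v := by
      intro m hm hneg
      have h : (hval d m₁ - P.toLinearMap m₁ (d b₀)) / P.toLinearMap m₁ v ≤
          (hval d m - P.toLinearMap m (d b₀)) / P.toLinearMap m v :=
        hmin m ((hmemNg m).mpr ⟨hm, hneg⟩)
      rw [← ht] at h
      exact (le_div_iff_of_neg hneg).mp h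
    have hvalle : ∀ m ∈ F.corners',
        hval d m ≤ P.toLinearMap m (d b₀) + P.toLinearMap m v := by
      intro m hm
      obtain ⟨b, hb, hmb⟩ := Set.mem_iUnion₂.mp hm
      rw [hval_eq hd hmb, ← map_add, ← hyv]
      exact hy2 m hm b hmb
    have hvalle0 : ∀ m ∈ F.corners', hval d m ≤ P.toLinearMap m (d b₀) := by
      intro m hm
      obtain ⟨b, hb, hmb⟩ := Set.mem_iUnion₂.mp hm
      rw [hval_eq hd hmb]
      exact mono hd b hmb b₀
    have ht1 : 1 ≤ t := by
      rw [ht, one_le_div_of_neg hm₁neg]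
      linarith [hvalle m₁ hm₁]
    have ht0 : 0 < t := lt_of_lt_of_le one_pos ht1
    have htm₁ : t * P.toLinearMap m₁ v = hval d m₁ - P.toLinearMap m₁ (d b₀) := by
      rw [ht, div_mul_cancel₀ _ hm₁neg.ne]
    -- the new facet
    obtain ⟨b, hb, hm₁b⟩ := Set.mem_iUnion₂.mp hm₁
    rw [baseCorners_eq_range] at hm₁b
    obtain ⟨k, hk⟩ := hm₁b
    have hξb : ξ ∈ closedChamber b := hb hξF
    have hF : F = Facet.ofVec P ξ := Facet.ext (hξF : sgnVec P ξ = F.sgn).symm
    obtain ⟨F', hF'def⟩ : ∃ F' : Facet P, F' = Facet.ofVec P (ξ + fundWeight b k) := ⟨_, rfl⟩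
    have hF'le : F' ≤ F := by rw [hF'def, hF]; exact ofVec_add_le b hξb k
    have hcorn : F'.corners = insert m₁ F.corners := by
      rw [hF'def, hF, ← hk]; exact corners_ofVec_add b hξb k
    have hcham : F'.cham ⊆ F.cham := cham_subset_of_le hF'le
    have hcorn' : F'.corners' ⊆ F.corners' := corners'_subset_of_le hF'le
    have hm₁F : m₁ ∉ F.corners := fun h => by
      have h0 := hperp m₁ h
      rw [h0] at hm₁neg
      exact lt_irrefl _ hm₁neg
    have hsub : F'.corners' \ F'.corners ⊂ F.corners' \ F.corners := by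
      refine ⟨fun m hm => ⟨hcorn' hm.1, fun h => hm.2 ?_⟩, fun hcon => ?_⟩
      · rw [hcorn]; exact Set.mem_insert_of_mem _ h
      · have h0 := hcon ⟨hm₁, hm₁F⟩
        apply h0.2
        rw [hcorn]; exact Set.mem_insert _ _
    have hlt : (F'.corners' \ F'.corners).ncard < n := by
      rw [← hn]; exact Set.ncard_lt_ncard hsub (hfin.subset Set.sdiff_subset)
    -- the point z
    obtain ⟨z, hz⟩ : ∃ z : N, z = d b₀ + t • v := ⟨_, rfl⟩
    have hzm : ∀ m : M, P.toLinearMap m z = P.toLinearMap m (d b₀) + t * P.toLinearMap m v := by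
      intro m; rw [hz, map_add, map_smul, smul_eq_mul]
    have hz1 : ∀ m ∈ F'.corners, z ∈ hyper d m := by
      intro m hm c hc
      rw [hcorn] at hm
      rw [hzm]
      rcases Set.mem_insert_iff.mp hm with hmm | hm
      · rw [hmm] at hc ⊢
        rw [htm₁, ← hval_eq hd hc]; ring
      · rw [hperp m hm, mul_zero, add_zero]
        exact hd.corner_eq b₀ c m (corners_subset_baseCorners F b₀ hb₀ hm) hc
    have hz2 : ∀ m ∈ F'.corners', z ∈ halfClosed d m := by
      intro m hm c hc
      have hmF := hcorn' hm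
      show P.toLinearMap m (d c) ≤ P.toLinearMap m z
      rw [hzm, ← hval_eq hd hc]
      rcases lt_or_ge (P.toLinearMap m v) 0 with hneg | hpos
      · linarith [hmin' m hmF hneg]
      · have h5 := hvalle0 m hmF
        have h6 : 0 ≤ t * P.toLinearMap m v := mul_nonneg ht0.le hpos
        linarith
    have hzF' : z ∈ dualSolid d F' := ih _ hlt F' rfl z hz1 hz2
    have hzF : z ∈ dualSolid d F := convexHull_mono (Set.image_mono hcham) hzF'
    have hconv := convex_convexHull R (d '' F.cham)
    have h1 : 0 ≤ 1 - t⁻¹ := by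
      have : t⁻¹ ≤ 1 := inv_le_one_of_one_le₀ ht1
      linarith
    have h2 : 0 ≤ t⁻¹ := inv_nonneg.mpr ht0.le
    have hcomb := hconv hb₀mem hzF h1 h2 (by ring : 1 - t⁻¹ + t⁻¹ = 1)
    have hyeq : y = (1 - t⁻¹) • d b₀ + t⁻¹ • z := by
      rw [hz, smul_add, smul_smul, inv_mul_cancel₀ ht0.ne', one_smul, sub_smul, one_smul, hyv]
      abel
    rw [hyeq]; exact hcomb

/-- **the dual solid of a facet** is the intersection of the hyperplanes of its corners with the
closed half-spaces of the corners of the adjacent chambers -/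
theorem dualSolid_eq {d : P.Base → N} (hd : IsCCS d) (F : Facet P) :
    dualSolid d F =
      (⋂ m ∈ F.corners, hyper d m) ∩ ⋂ m ∈ F.corners', halfClosed d m := by
  apply Set.Subset.antisymm
  · apply convexHull_min
    · rintro _ ⟨c, hc, rfl⟩
      refine ⟨Set.mem_iInter₂.mpr fun m hm b hb => ?_, Set.mem_iInter₂.mpr fun m hm b hb => ?_⟩
      · exact hd.corner_eq c b m (corners_subset_baseCorners F c hc hm) hb
      · exact mono hd b hb c
    · exact (convex_iInter₂ fun m _ => convex_hyper d m).inter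
        (convex_iInter₂ fun m _ => convex_halfClosed d m)
  · rintro y ⟨hy1, hy2⟩
    exact mem_dualSolid_of_mem hd _ F rfl y (fun m hm => Set.mem_iInter₂.mp hy1 m hm)
      (fun m hm => Set.mem_iInter₂.mp hy2 m hm)

/-- (iii) ⇔ (iv) -/
theorem isSemistable_iff {d : P.Base → N} (hd : IsCCS d) :
    IsSemistable d ↔ ∀ b : P.Base, ∀ m ∈ baseCorners b, P.toLinearMap m (d b) ≤ 0 := by
  have hsgn0 : ∀ i, (Facet.origin P).sgn i = 0 := by
    intro i
    show SignType.sign (P.coroot' i 0) = 0
    rw [map_zero, sign_zero]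
  have hcham : (Facet.origin P).cham = Set.univ := by
    apply Set.eq_univ_of_forall
    intro b η hη l hl
    have h0 : sgnVec P η l = 0 := by
      rw [(hη : sgnVec P η = (Facet.origin P).sgn)]
      exact hsgn0 l
    exact (sign_eq_zero_iff.mp h0).ge
  have hcorn : (Facet.origin P).corners = ∅ := by
    apply Set.eq_empty_of_forall_notMem
    rintro m ⟨⟨b, i, rfl⟩, hm⟩
    have h1 := hm i
    have h5 : sgnVec P (fundWeight b i) (i : ι) = 1 := by
      show SignType.sign (P.toLinearMap (fundWeight b i) (P.coroot i)) = 1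
      rw [pair_fundWeight_coroot_self]; exact sign_pos one_pos
    rw [h5, hsgn0] at h1
    rcases h1 with h1 | h1 <;> exact absurd h1 (by decide)
  have hsolid : solid d = dualSolid d (Facet.origin P) := by
    rw [solid, dualSolid, hcham, Set.image_univ]
  show (0 : N) ∈ solid d ↔ _
  rw [hsolid, dualSolid_eq hd, hcorn]
  constructor
  · rintro ⟨_, h2⟩ b m hm
    have hm' : m ∈ (Facet.origin P).corners' :=
      Set.mem_iUnion₂.mpr ⟨b, by rw [hcham]; trivial, hm⟩
    have h3 : P.toLinearMap m (d b) ≤ P.toLinearMap m 0 := Set.mem_iInter₂.mp h2 m hm' b hm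
    rwa [map_zero] at h3
  · intro h
    refine ⟨by simp, Set.mem_iInter₂.mpr fun m _ b hb => ?_⟩
    show P.toLinearMap m (d b) ≤ P.toLinearMap m 0
    rw [map_zero]; exact h b m hb

theorem deg_eq (d : P.Base → N) (F : Facet P) (b : P.Base) :
    F.deg d b = P.toLinearMap (∑ i ∈ (Set.toFinite F.parab).toFinset, P.root i) (d b) := by
  rw [Facet.deg, map_sum, LinearMap.sum_apply]

theorem pair_eq_sum_fund (b : P.Base) (η : M) (x : N) :
    P.toLinearMap η x =
      ∑ l : b.support, P.toLinearMap η (P.coroot l) * P.toLinearMap (fundWeight b l) x := by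
  conv_lhs => rw [expand_fund b η]
  rw [map_sum, LinearMap.sum_apply]
  refine Finset.sum_congr rfl fun l _ => ?_
  rw [map_smul, LinearMap.smul_apply, smul_eq_mul]

/-- (iii) ⇒ (i) -/
theorem deg_le_zero {d : P.Base → N}
    (h3 : ∀ b : P.Base, ∀ m ∈ baseCorners b, P.toLinearMap m (d b) ≤ 0)
    (F : Facet P) (b : P.Base) (hb : b ∈ F.cham) : F.deg d b ≤ 0 := by
  rw [deg_eq, pair_eq_sum_fund b]
  apply Finset.sum_nonpos
  intro l _
  have h1 : 0 ≤ P.toLinearMap (∑ i ∈ (Set.toFinite F.parab).toFinset, P.root i) (P.coroot l) :=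
    hb (sum_parab_mem_carrier F) l l.2
  exact mul_nonpos_iff.mpr (Or.inl ⟨h1, h3 b _ (fundWeight_mem_baseCorners b l)⟩)

/-- the facet of a fundamental weight is a ray -/
theorem fundWeight_facet (b : P.Base) (i : b.support) :
    b ∈ (Facet.ofVec P (fundWeight b i)).cham ∧ (Facet.ofVec P (fundWeight b i)).dim = 1 ∧
      ∀ η ∈ (Facet.ofVec P (fundWeight b i)).carrier, ∃ c : R, 0 < c ∧ η = c • fundWeight b i := by
  classical
  have hω := fundWeight_mem_closedChamber b i
  have key : ∀ η ∈ (Facet.ofVec P (fundWeight b i)).carrier, η ∈ closedChamber b ∧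
      0 < P.toLinearMap η (P.coroot i) ∧ η = P.toLinearMap η (P.coroot i) • fundWeight b i := by
    intro η hη
    obtain ⟨h1, h2⟩ := mem_closedChamber_of_sgnVec_eq b hω
      (hη : sgnVec P η = sgnVec P (fundWeight b i))
    have hi : 0 < P.toLinearMap η (P.coroot i) :=
      (h2 i).mpr (by rw [pair_fundWeight_coroot_self]; exact one_pos)
    refine ⟨h1, hi, ?_⟩
    conv_lhs => rw [expand_fund b η]
    rw [Finset.sum_eq_single i]
    · intro l _ hl
      have hnot : ¬ 0 < P.toLinearMap η (P.coroot l) := by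
        rw [h2 l, pair_fundWeight_coroot_ne b hl]; exact lt_irrefl _
      have h0 : P.toLinearMap η (P.coroot l) = 0 := le_antisymm (not_lt.mp hnot) (h1 l l.2)
      rw [h0, zero_smul]
    · intro h; exact absurd (Finset.mem_univ i) h
  refine ⟨fun η hη => (key η hη).1, ?_, fun η hη => ⟨_, (key η hη).2.1, (key η hη).2.2⟩⟩
  have hspan : Submodule.span R (Facet.ofVec P (fundWeight b i)).carrier =
      Submodule.span R {fundWeight b i} := by
    apply le_antisymm
    · rw [Submodule.span_le]
      intro η hη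
      rw [SetLike.mem_coe, Submodule.mem_span_singleton]
      exact ⟨_, (key η hη).2.2.symm⟩
    · apply Submodule.span_mono
      rw [Set.singleton_subset_iff]
      exact (rfl : sgnVec P (fundWeight b i) = _)
  rw [Facet.dim, hspan]
  apply finrank_span_singleton
  intro h0
  have h1 := pair_fundWeight_coroot_self b i
  rw [h0, map_zero, LinearMap.zero_apply] at h1
  exact zero_ne_one h1

/-- (ii) ⇒ (iii), one chamber and corner at a time -/
theorem pair_le_zero_of_deg {d : P.Base → N} (b : P.Base) (i : b.support)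
    (h : (Facet.ofVec P (fundWeight b i)).deg d b ≤ 0) :
    P.toLinearMap (fundWeight b i) (d b) ≤ 0 := by
  obtain ⟨c, hc, hσ⟩ := (fundWeight_facet b i).2.2 _
    (sum_parab_mem_carrier (Facet.ofVec P (fundWeight b i)))
  rw [deg_eq, hσ, map_smul, LinearMap.smul_apply, smul_eq_mul] at h
  by_contra hcon
  push Not at hcon
  have := mul_pos hc hcon
  linarith

end Groth.Agent.Helper24.RC
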