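import Groth.Agent.Lib.Helper24.RootChJ

/-!
# Helper library for the RootCh cluster, part K: special facets, degrees, invariant metrics.
-/

set_option autoImplicit false

namespace Groth.Agent.Helper24.RC

open RootCh Module

universe u v w x
variable {ι : Type u} {R : Type v} {M : Type w} {N : Type x}
variable [Field R] [LinearOrder R] [IsStrictOrderedRing R]
  [AddCommGroup M] [Module R M] [AddCommGroup N] [Module R N]
variable {P : RootPairing ι R M N} [P.IsRootSystem]
variable [Finite ι] [P.IsCrystallographic] [P.IsReduced]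

/-- the sum of the roots of the parabolic set of a facet -/
noncomputable def sig (F : Facet P) : M := ∑ i ∈ (Set.toFinite F.parab).toFinset, P.root i

theorem sig_mem_carrier (F : Facet P) : sig F ∈ F.carrier := sum_parab_mem_carrier F

theorem deg_eq_sig (d : P.Base → N) (F : Facet P) (b : P.Base) :
    F.deg d b = P.toLinearMap (sig F) (d b) := deg_eq d F b

theorem pair_sig (F : Facet P) (y : N) :
    P.toLinearMap (sig F) y =
      ∑ i ∈ (Set.toFinite F.parab).toFinset, P.toLinearMap (P.root i) y := by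
  rw [sig, map_sum, LinearMap.sum_apply]

theorem dualSolid_subset_solid (d : P.Base → N) (F : Facet P) : dualSolid d F ⊆ solid d :=
  convexHull_mono (Set.image_subset_range d _)

theorem pair_le_of_mem_solid {d : P.Base → N} (hd : IsCCS d) (c : P.Base) {m : M}
    (hm : m ∈ baseCorners c) {y : N} (hy : y ∈ solid d) :
    P.toLinearMap m (d c) ≤ P.toLinearMap m y := by
  have hsub : solid d ⊆ halfClosed d m := by
    apply convexHull_min _ (convex_halfClosed d m)
    rintro _ ⟨c', rfl⟩ b hb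
    exact mono hd b hb c'
  exact hsub hy c hm

theorem deg_le_pair {d : P.Base → N} (hd : IsCCS d) (G : Facet P) (c : P.Base) (hc : c ∈ G.cham)
    {y : N} (hy : y ∈ solid d) : G.deg d c ≤ P.toLinearMap (sig G) y := by
  rw [deg_eq_sig, pair_eq_sum_fund c _ (d c), pair_eq_sum_fund c _ y]
  apply Finset.sum_le_sum
  intro l _
  have h1 : 0 ≤ P.toLinearMap (sig G) (P.coroot l) := hc (sig_mem_carrier G) l l.2
  exact mul_le_mul_of_nonneg_left
    (pair_le_of_mem_solid hd c (fundWeight_mem_baseCorners c l) hy) h1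

theorem deg_eq_pair {d : P.Base → N} (hd : IsCCS d) (F : Facet P) (b : P.Base) (hb : b ∈ F.cham)
    {y : N} (hy : y ∈ dualSolid d F) : F.deg d b = P.toLinearMap (sig F) y := by
  have hσF := sig_mem_carrier F
  have hσb := hb hσF
  rw [deg_eq_sig, pair_eq_sum_fund b _ (d b), pair_eq_sum_fund b _ y]
  refine Finset.sum_congr rfl fun l _ => ?_
  by_cases hl : 0 < P.toLinearMap (sig F) (P.coroot l)
  · have hcor : fundWeight b l ∈ F.corners := by
      rw [corners_eq_image b F hσF hσb]; exact ⟨l, hl, rfl⟩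
    rw [dualSolid_eq hd] at hy
    have h1 : P.toLinearMap (fundWeight b l) y = P.toLinearMap (fundWeight b l) (d b) :=
      Set.mem_iInter₂.mp hy.1 _ hcor b (fundWeight_mem_baseCorners b l)
    rw [h1]
  · have h0 : P.toLinearMap (sig F) (P.coroot l) = 0 :=
      le_antisymm (not_lt.mp hl) (hσb l l.2)
    rw [h0, zero_mul, zero_mul]

theorem pair_sig_le {F : Facet P} (G : Facet P) {y₀ : N} (hy₀ : y₀ ∈ F.dualCarrier) :
    P.toLinearMap (sig G) y₀ ≤ P.toLinearMap (sig F) y₀ ∧
      (P.toLinearMap (sig G) y₀ = P.toLinearMap (sig F) y₀ → G.parab ⊆ F.parab) := by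
  classical
  rw [pair_sig, pair_sig]
  have hF : ∀ i, i ∈ (Set.toFinite F.parab).toFinset ↔ 0 ≤ P.toLinearMap (P.root i) y₀ := by
    intro i
    rw [Set.Finite.mem_toFinset]
    show F.sgn i ≠ -1 ↔ _
    rw [← (hy₀ : cosgnVec P y₀ = F.sgn)]
    show SignType.sign (P.toLinearMap (P.root i) y₀) ≠ -1 ↔ _
    rw [Ne, sign_eq_neg_one_iff, not_lt]
  obtain ⟨A, hA⟩ : ∃ A : Finset ι, A = (Set.toFinite G.parab).toFinset := ⟨_, rfl⟩
  obtain ⟨Bf, hBf⟩ : ∃ Bf : Finset ι, Bf = (Set.toFinite F.parab).toFinset := ⟨_, rfl⟩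
  rw [← hA, ← hBf]
  rw [← hBf] at hF
  have h1 := Finset.sum_inter_add_sum_sdiff A Bf (fun i => P.toLinearMap (P.root i) y₀)
  have h2 : ∑ i ∈ A ∩ Bf, P.toLinearMap (P.root i) y₀ ≤ ∑ i ∈ Bf, P.toLinearMap (P.root i) y₀ :=
    Finset.sum_le_sum_of_subset_of_nonneg Finset.inter_subset_right
      (fun i hi _ => (hF i).mp hi)
  have h3 : ∀ i ∈ A \ Bf, P.toLinearMap (P.root i) y₀ < 0 := fun i hi =>
    not_le.mp (fun h => (Finset.mem_sdiff.mp hi).2 ((hF i).mpr h))
  have h4 : ∑ i ∈ A \ Bf, P.toLinearMap (P.root i) y₀ ≤ 0 :=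
    Finset.sum_nonpos fun i hi => (h3 i hi).le
  refine ⟨by linarith, fun heq i hi => ?_⟩
  by_contra hni
  have hne : (A \ Bf).Nonempty := ⟨i, Finset.mem_sdiff.mpr
    ⟨by rw [hA, Set.Finite.mem_toFinset]; exact hi,
      fun h => hni (by rw [hBf, Set.Finite.mem_toFinset] at h; exact h)⟩⟩
  have h5 : ∑ i ∈ A \ Bf, P.toLinearMap (P.root i) y₀ < 0 := Finset.sum_neg h3 hne
  linarith

/-- a special facet has maximal degree and is the largest facet of that degree -/
theorem special_deg {d : P.Base → N} (hd : IsCCS d) (F : Facet P) (b : P.Base) (hb : b ∈ F.cham)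
    (hF : IsSpecial d F) :
    (∀ (G : Facet P) (c : P.Base), c ∈ G.cham → G.deg d c ≤ F.deg d b) ∧
      ∀ (G : Facet P) (c : P.Base), c ∈ G.cham → G.deg d c = F.deg d b → G ≤ F := by
  obtain ⟨y₀, hy₀F, hy₀S⟩ := hF
  have hsol := dualSolid_subset_solid d F hy₀S
  have hdegF := deg_eq_pair hd F b hb hy₀S
  refine ⟨fun G c hc => ?_, fun G c hc heq => ?_⟩
  · rw [hdegF]; exact (deg_le_pair hd G c hc hsol).trans (pair_sig_le G hy₀F).1
  · rw [le_iff_parab_subset]
    apply (pair_sig_le G hy₀F).2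
    have h1 := deg_le_pair hd G c hc hsol
    have h2 := (pair_sig_le G hy₀F).1
    rw [hdegF] at heq
    linarith

section Metric

variable (B : LinearMap.BilinForm R N)

omit [LinearOrder R] [IsStrictOrderedRing R] [P.IsRootSystem] [Finite ι] [P.IsCrystallographic]
  [P.IsReduced] in
theorem form_coroot (hBs : ∀ y z : N, B y z = B z y)
    (hBi : ∀ (i : ι) (y z : N), B (P.coreflection i y) (P.coreflection i z) = B y z)
    (i : ι) (y : N) :
    2 * B y (P.coroot i) = P.toLinearMap (P.root i) y * B (P.coroot i) (P.coroot i) := by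
  have h := hBi i y (P.coroot i)
  have ha : P.root' i y = P.toLinearMap (P.root i) y := rfl
  simp only [P.coreflection_apply_self, P.coreflection_apply, map_neg, map_sub, map_smul,
    LinearMap.sub_apply, LinearMap.smul_apply, smul_eq_mul, ha] at h
  linear_combination (-1 : R) * h

omit [LinearOrder R] [IsStrictOrderedRing R] [P.IsRootSystem] [Finite ι] [P.IsCrystallographic]
  [P.IsReduced] in
/-- the vector of `M` corresponding to `y₀` under the form `B` -/
theorem exists_dualVec (y₀ : N) : ∃ x₀ : M, ∀ y : N, P.toLinearMap x₀ y = B y₀ y :=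
  ⟨P.toPerfPair.symm (B y₀), fun y => by rw [P.toLinearMap.apply_symm_toPerfPair_self]⟩

omit [P.IsRootSystem] [Finite ι] [P.IsCrystallographic] [P.IsReduced] in
theorem dualVec_mem_carrier (hBs : ∀ y z : N, B y z = B z y)
    (hBp : ∀ y : N, y ≠ 0 → 0 < B y y)
    (hBi : ∀ (i : ι) (y z : N), B (P.coreflection i y) (P.coreflection i z) = B y z)
    {F : Facet P} {y₀ : N} (hy₀ : y₀ ∈ F.dualCarrier) {x₀ : M}
    (hx₀ : ∀ y : N, P.toLinearMap x₀ y = B y₀ y) : x₀ ∈ F.carrier := by
  show sgnVec P x₀ = F.sgn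
  rw [← (hy₀ : cosgnVec P y₀ = F.sgn)]
  funext i
  show SignType.sign (P.toLinearMap x₀ (P.coroot i)) =
    SignType.sign (P.toLinearMap (P.root i) y₀)
  have h1 := form_coroot B hBs hBi i y₀
  have h2 : 0 < B (P.coroot i) (P.coroot i) := hBp _ (P.ne_zero' i)
  rw [hx₀]
  have h3 : B y₀ (P.coroot i) =
      P.toLinearMap (P.root i) y₀ * (B (P.coroot i) (P.coroot i) / 2) := by linarith
  rw [h3, sign_mul, sign_pos (half_pos h2), mul_one]

theorem closest_of_special {d : P.Base → N} (hd : IsCCS d) (hBs : ∀ y z : N, B y z = B z y)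
    (hBp : ∀ y : N, y ≠ 0 → 0 < B y y)
    (hBi : ∀ (i : ι) (y z : N), B (P.coreflection i y) (P.coreflection i z) = B y z)
    (F : Facet P) {y₀ : N} (hy₀F : y₀ ∈ F.dualCarrier) (hy₀S : y₀ ∈ dualSolid d F) :
    ∀ y ∈ solid d, y ≠ y₀ → B y₀ y₀ < B y y := by
  intro y hy hne
  obtain ⟨x₀, hx₀⟩ := exists_dualVec (P := P) B y₀
  have hx₀F := dualVec_mem_carrier B hBs hBp hBi hy₀F hx₀
  obtain ⟨ξ, b, hξF, hξ, hb⟩ := exists_mem_cham F
  have hx₀b : x₀ ∈ closedChamber b := hb hx₀F
  have hkey : 0 ≤ B y₀ (y - y₀) := by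
    rw [← hx₀, map_sub, pair_eq_sum_fund b x₀ y, pair_eq_sum_fund b x₀ y₀,
      ← Finset.sum_sub_distrib]
    apply Finset.sum_nonneg
    intro l _
    rw [← mul_sub]
    by_cases hl : 0 < P.toLinearMap x₀ (P.coroot l)
    · have hcor : fundWeight b l ∈ F.corners := by
        rw [corners_eq_image b F hx₀F hx₀b]; exact ⟨l, hl, rfl⟩
      have hy₀' := hy₀S
      rw [dualSolid_eq hd] at hy₀'
      have h1 : P.toLinearMap (fundWeight b l) y₀ = P.toLinearMap (fundWeight b l) (d b) :=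
        Set.mem_iInter₂.mp hy₀'.1 _ hcor b (fundWeight_mem_baseCorners b l)
      have h2 := pair_le_of_mem_solid hd b (fundWeight_mem_baseCorners b l) hy
      apply mul_nonneg hl.le
      rw [h1]; linarith
    · have h0 : P.toLinearMap x₀ (P.coroot l) = 0 :=
        le_antisymm (not_lt.mp hl) (hx₀b l l.2)
      rw [h0, zero_mul]
  have hpos : 0 < B (y - y₀) (y - y₀) := hBp _ (sub_ne_zero.mpr hne)
  obtain ⟨u, hu⟩ : ∃ u : N, u = y - y₀ := ⟨_, rfl⟩
  rw [← hu] at hkey hpos
  have hy' : y = y₀ + u := by rw [hu]; abel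
  rw [hy']
  simp only [map_add, LinearMap.add_apply]
  rw [hBs u y₀]
  linarith

theorem yLocus_eq {d : P.Base → N} (hd : IsCCS d) (hBs : ∀ y z : N, B y z = B z y)
    (hBp : ∀ y : N, y ≠ 0 → 0 < B y y)
    (hBi : ∀ (i : ι) (y z : N), B (P.coreflection i y) (P.coreflection i z) = B y z)
    (F : Facet P) {y₀ : N} (hy₀F : y₀ ∈ F.dualCarrier) (hy₀S : y₀ ∈ dualSolid d F) :
    yLocus d F = {y₀} := by
  have hy₀' := hy₀S
  rw [dualSolid_eq hd] at hy₀'
  apply Set.Subset.antisymm
  · rintro y ⟨hy1, hy2⟩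
    rw [Set.mem_singleton_iff]
    by_contra hne
    obtain ⟨ξ, b, hξF, hξ, hb⟩ := exists_mem_cham F
    obtain ⟨u, hu⟩ : ∃ u : N, u = y - y₀ := ⟨_, rfl⟩
    have hu0 : u ≠ 0 := by rw [hu]; exact sub_ne_zero.mpr hne
    have hpos := hBp u hu0
    have huspan : u ∈ Submodule.span R F.dualCarrier := by
      rw [hu]; exact Submodule.sub_mem _ hy2 (Submodule.subset_span hy₀F)
    have hlevi : ∀ i, F.sgn i = 0 → P.toLinearMap (P.root i) u = 0 := by
      intro i hi
      have hle : Submodule.span R F.dualCarrier ≤ LinearMap.ker (P.toLinearMap (P.root i)) := by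
        rw [Submodule.span_le]
        intro x hx
        rw [SetLike.mem_coe, LinearMap.mem_ker]
        have h0 : cosgnVec P x i = 0 := by rw [(hx : cosgnVec P x = F.sgn)]; exact hi
        exact sign_eq_zero_iff.mp h0
      exact LinearMap.mem_ker.mp (hle huspan)
    have hcorn : ∀ m ∈ F.corners, P.toLinearMap m u = 0 := by
      intro m hm
      have hmb := corners_subset_baseCorners F b hb hm
      rw [hu, map_sub, Set.mem_iInter₂.mp hy1 m hm b hmb,
        Set.mem_iInter₂.mp hy₀'.1 m hm b hmb, sub_self]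
    have hzero : B u u = 0 := by
      have h := congrArg (B u) (expand_N b u)
      rw [h, map_sum]
      refine Finset.sum_eq_zero fun l _ => ?_
      rw [map_smul, smul_eq_mul]
      by_cases hl : 0 < P.toLinearMap ξ (P.coroot l)
      · rw [hcorn _ (by rw [corners_eq_image b F hξF hξ]; exact ⟨l, hl, rfl⟩), zero_mul]
      · have h0 : P.toLinearMap ξ (P.coroot l) = 0 :=
          le_antisymm (not_lt.mp hl) (hξ l l.2)
        have hs : F.sgn l = 0 := by
          rw [← (hξF : sgnVec P ξ = F.sgn)]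
          show SignType.sign (P.toLinearMap ξ (P.coroot l)) = 0
          rw [h0, sign_zero]
        have h2 := form_coroot B hBs hBi l u
        rw [hlevi l hs, zero_mul] at h2
        have h3 : B u (P.coroot l) = 0 := by linarith
        rw [h3, mul_zero]
    rw [hzero] at hpos
    exact lt_irrefl _ hpos
  · rintro y hy
    rw [Set.mem_singleton_iff] at hy
    rw [hy]
    exact ⟨hy₀'.1, Submodule.subset_span hy₀F⟩

omit [AddCommGroup M] [Module R M] in
/-- the variational inequality for a point of minimal norm in a convex set -/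
theorem var_ineq (hBs : ∀ y z : N, B y z = B z y) (hBp : ∀ y : N, y ≠ 0 → 0 < B y y)
    {C : Set N} (hC : Convex R C) {y₀ : N} (hy₀ : y₀ ∈ C) (hmin : ∀ y ∈ C, B y₀ y₀ ≤ B y y) :
    ∀ y ∈ C, 0 ≤ B y₀ (y - y₀) := by
  intro y hy
  by_contra hneg
  push Not at hneg
  obtain ⟨u, hu⟩ : ∃ u : N, u = y - y₀ := ⟨_, rfl⟩
  rw [← hu] at hneg
  have hu0 : u ≠ 0 := by
    intro h0; rw [h0, map_zero] at hneg; exact lt_irrefl _ hneg
  have hq := hBp u hu0
  obtain ⟨t, ht0, ht1, htq⟩ : ∃ t : R, 0 < t ∧ t ≤ 1 ∧ 2 * B y₀ u + t * B u u < 0 := by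
    by_cases h : B u u ≤ - B y₀ u
    · exact ⟨1, one_pos, le_refl _, by linarith⟩
    · push Not at h
      refine ⟨- B y₀ u / B u u, div_pos (by linarith) hq, ?_, ?_⟩
      · rw [div_le_one hq]; exact h.le
      · rw [div_mul_cancel₀ _ hq.ne']; linarith
  have hmem : y₀ + t • u ∈ C := by
    have h5 := hC hy₀ hy (by linarith : 0 ≤ 1 - t) ht0.le (by ring : 1 - t + t = 1)
    have heq : (1 - t) • y₀ + t • y = y₀ + t • u := by
      rw [hu, smul_sub, sub_smul, one_smul]; abel
    rwa [heq] at h5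
  have h1 := hmin _ hmem
  simp only [map_add, map_smul, LinearMap.add_apply, LinearMap.smul_apply, smul_eq_mul] at h1
  rw [hBs u y₀] at h1
  linarith [mul_neg_of_pos_of_neg ht0 htq]

theorem special_of_closest {d : P.Base → N} (hd : IsCCS d) (hBs : ∀ y z : N, B y z = B z y)
    (hBp : ∀ y : N, y ≠ 0 → 0 < B y y)
    (hBi : ∀ (i : ι) (y z : N), B (P.coreflection i y) (P.coreflection i z) = B y z)
    {y₀ : N} (hy₀ : y₀ ∈ solid d) (hmin : ∀ y ∈ solid d, B y₀ y₀ ≤ B y y)
    (F : Facet P) (hF : y₀ ∈ F.dualCarrier) : y₀ ∈ dualSolid d F := by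
  have hvar := var_ineq B hBs hBp (convex_convexHull R (Set.range d)) hy₀ hmin
  obtain ⟨x₀, hx₀⟩ := exists_dualVec (P := P) B y₀
  have hx₀F := dualVec_mem_carrier B hBs hBp hBi hF hx₀
  obtain ⟨ξ, b, hξF, hξ, hb⟩ := exists_mem_cham F
  have hx₀b : x₀ ∈ closedChamber b := hb hx₀F
  have hdb : d b ∈ solid d := subset_convexHull R _ ⟨b, rfl⟩
  have h1 := hvar (d b) hdb
  rw [← hx₀, map_sub, pair_eq_sum_fund b x₀ (d b), pair_eq_sum_fund b x₀ y₀,
    ← Finset.sum_sub_distrib] at h1
  have hterm : ∀ l ∈ (Finset.univ : Finset b.support),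
      P.toLinearMap x₀ (P.coroot l) * P.toLinearMap (fundWeight b l) (d b) -
        P.toLinearMap x₀ (P.coroot l) * P.toLinearMap (fundWeight b l) y₀ ≤ 0 := by
    intro l _
    rw [← mul_sub]
    exact mul_nonpos_iff.mpr (Or.inl ⟨hx₀b l l.2,
      sub_nonpos.mpr (pair_le_of_mem_solid hd b (fundWeight_mem_baseCorners b l) hy₀)⟩)
  have hsum0 := le_antisymm (Finset.sum_nonpos hterm) h1
  have hall := (Finset.sum_eq_zero_iff_of_nonpos hterm).mp hsum0
  rw [dualSolid_eq hd]
  refine ⟨Set.mem_iInter₂.mpr fun m hm c hc => ?_,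
    Set.mem_iInter₂.mpr fun m hm c hc => pair_le_of_mem_solid hd c hc hy₀⟩
  rw [corners_eq_image b F hx₀F hx₀b] at hm
  obtain ⟨l, hl, rfl⟩ := hm
  have h2 := hall l (Finset.mem_univ l)
  rw [← mul_sub] at h2
  rcases mul_eq_zero.mp h2 with h3 | h3
  · exact absurd h3 (ne_of_gt hl)
  · rw [← hd.corner_eq b c _ (fundWeight_mem_baseCorners b l) hc]; linarith

end Metric

end Groth.Agent.Helper24.RC
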