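import Groth.Agent.Lib.Helper24.RootChK

/-!
# Helper library for the RootCh cluster, part L: the point of a polytope closest to the origin
(over an ordered field), existence and uniqueness of the special facet.
-/

set_option autoImplicit false

namespace Groth.Agent.Helper24.RC

open RootCh Module

universe u v w x

section Closest

variable {R : Type v} {N : Type x} [Field R] [LinearOrder R] [IsStrictOrderedRing R]
  [AddCommGroup N] [Module R N] (B : LinearMap.BilinForm R N)

/-- orthogonal projection onto the span of a finite set, for a positive definite form -/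
theorem exists_proj (hBp : ∀ y : N, y ≠ 0 → 0 < B y y) (T : Finset N) :
    ∀ x : N, ∃ w ∈ Submodule.span R (T : Set N),
      ∀ u ∈ Submodule.span R (T : Set N), B (x - w) u = 0 := by
  classical
  induction T using Finset.induction_on with
  | empty =>
    intro x
    refine ⟨0, Submodule.zero_mem _, fun u hu => ?_⟩
    rw [Finset.coe_empty, Submodule.span_empty, Submodule.mem_bot] at hu
    rw [hu, map_zero]
  | insert t T' ht ih =>
    intro x
    obtain ⟨wt, hwt, hwt'⟩ := ih t
    obtain ⟨wx, hwx, hwx'⟩ := ih x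
    have hsub : Submodule.span R (T' : Set N) ≤
        Submodule.span R ((insert t T' : Finset N) : Set N) :=
      Submodule.span_mono (by rw [Finset.coe_insert]; exact Set.subset_insert _ _)
    have htmem : t ∈ Submodule.span R ((insert t T' : Finset N) : Set N) :=
      Submodule.subset_span (by rw [Finset.coe_insert]; exact Set.mem_insert _ _)
    obtain ⟨e, he⟩ : ∃ e : N, e = t - wt := ⟨_, rfl⟩
    have hemem : e ∈ Submodule.span R ((insert t T' : Finset N) : Set N) := by
      rw [he]; exact Submodule.sub_mem _ htmem (hsub hwt)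
    have het : ∀ u ∈ Submodule.span R (T' : Set N), B e u = 0 := by rw [he]; exact hwt'
    have hdecomp : ∀ u ∈ Submodule.span R ((insert t T' : Finset N) : Set N),
        ∃ a : R, ∃ z ∈ Submodule.span R (T' : Set N), u = a • e + z := by
      intro u hu
      rw [Finset.coe_insert, Submodule.mem_span_insert] at hu
      obtain ⟨a, z, hz, rfl⟩ := hu
      refine ⟨a, a • wt + z, Submodule.add_mem _ (Submodule.smul_mem _ _ hwt) hz, ?_⟩
      rw [he]; module
    obtain ⟨r, hr⟩ : ∃ r : N, r = x - wx := ⟨_, rfl⟩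
    rw [← hr] at hwx'
    by_cases he0 : e = 0
    · refine ⟨wx, hsub hwx, fun u hu => ?_⟩
      obtain ⟨a, z, hz, rfl⟩ := hdecomp u hu
      rw [he0, smul_zero, zero_add, ← hr]; exact hwx' z hz
    · have hee := hBp e he0
      refine ⟨wx + (B r e / B e e) • e,
        Submodule.add_mem _ (hsub hwx) (Submodule.smul_mem _ _ hemem), fun u hu => ?_⟩
      obtain ⟨a, z, hz, rfl⟩ := hdecomp u hu
      have h1 : B r z = 0 := hwx' z hz
      have h2 : B e z = 0 := het z hz
      have hx : x - (wx + (B r e / B e e) • e) = r - (B r e / B e e) • e := by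
        rw [hr]; abel
      rw [hx]
      simp only [map_sub, map_add, map_smul, LinearMap.sub_apply, LinearMap.smul_apply,
        smul_eq_mul, h1, h2]
      field_simp
      ring

omit [LinearOrder R] [IsStrictOrderedRing R] in
theorem exists_affine_weights [DecidableEq N] (S : Finset N) {s₀ : N} (hs₀ : s₀ ∈ S) {w : N}
    (hw : w ∈ Submodule.span R ((S.image (fun s => s - s₀) : Finset N) : Set N)) :
    ∃ lam : N → R, ∑ s ∈ S, lam s = 1 ∧ ∑ s ∈ S, lam s • s = s₀ - w := by
  obtain ⟨f, -, hf⟩ := Submodule.mem_span_finset.mp hw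
  rw [Finset.sum_image (fun a _ b _ h => sub_left_injective h)] at hf
  refine ⟨fun s => (if s = s₀ then 1 + ∑ s' ∈ S, f (s' - s₀) else 0) - f (s - s₀), ?_, ?_⟩
  · rw [Finset.sum_sub_distrib, Finset.sum_ite_eq' S s₀, if_pos hs₀]; ring
  · simp only [sub_smul, ite_smul, zero_smul]
    rw [Finset.sum_sub_distrib, Finset.sum_ite_eq' S s₀, if_pos hs₀, ← hf]
    simp only [smul_sub, Finset.sum_sub_distrib, add_smul, one_smul, Finset.sum_smul]
    abel

theorem exists_exit (S : Finset N) (mu lam : N → R) (hmu : ∀ s ∈ S, 0 ≤ mu s)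
    (hneg : ∃ s ∈ S, lam s < 0) :
    ∃ t : R, 0 ≤ t ∧ t < 1 ∧ (∀ s ∈ S, 0 ≤ (1 - t) * mu s + t * lam s) ∧
      ∃ s ∈ S, (1 - t) * mu s + t * lam s = 0 := by
  classical
  obtain ⟨s₂, hs₂, hs₂neg⟩ := hneg
  have hne : (S.filter (fun s => lam s < 0)).Nonempty :=
    ⟨s₂, Finset.mem_filter.mpr ⟨hs₂, hs₂neg⟩⟩
  obtain ⟨s₁, hs₁, hmin⟩ := Finset.exists_min_image _ (fun s => mu s / (mu s - lam s)) hne
  obtain ⟨hs₁S, hs₁neg⟩ := Finset.mem_filter.mp hs₁
  have hden : ∀ s ∈ S, lam s < 0 → 0 < mu s - lam s := fun s hs h => by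
    linarith [hmu s hs]
  obtain ⟨t, ht⟩ : ∃ t : R, t = mu s₁ / (mu s₁ - lam s₁) := ⟨_, rfl⟩
  have hd₁ := hden s₁ hs₁S hs₁neg
  have ht0 : 0 ≤ t := by rw [ht]; exact div_nonneg (hmu s₁ hs₁S) hd₁.le
  have ht1 : t < 1 := by rw [ht, div_lt_one hd₁]; linarith
  have hts₁ : t * (mu s₁ - lam s₁) = mu s₁ := by rw [ht, div_mul_cancel₀ _ hd₁.ne']
  refine ⟨t, ht0, ht1, fun s hs => ?_, s₁, hs₁S, by linarith⟩
  rcases lt_or_ge (lam s) 0 with h | h
  · have hd := hden s hs h
    have h1 : t ≤ mu s / (mu s - lam s) := by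
      rw [ht]; exact hmin s (Finset.mem_filter.mpr ⟨hs, h⟩)
    rw [le_div_iff₀ hd] at h1
    linarith
  · have h5 := mul_nonneg (by linarith : 0 ≤ 1 - t) (hmu s hs)
    have h6 := mul_nonneg ht0 h
    linarith

/-- a polytope over an ordered field has a point closest to the origin -/
theorem exists_closest (hBs : ∀ y z : N, B y z = B z y) (hBp : ∀ y : N, y ≠ 0 → 0 < B y y) :
    ∀ (n : ℕ) (S : Finset N), S.card = n → S.Nonempty →
      ∃ y₀ ∈ convexHull R (S : Set N), ∀ y ∈ convexHull R (S : Set N), B y₀ y₀ ≤ B y y := by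
  classical
  intro n
  induction n using Nat.strong_induction_on with
  | _ n ih =>
    intro S hcard hne
    have hq0 : ∀ y : N, 0 ≤ B y y := by
      intro y
      by_cases hy : y = 0
      · rw [hy, map_zero]
      · exact (hBp y hy).le
    by_cases h1 : S.card = 1
    · obtain ⟨s, rfl⟩ := Finset.card_eq_one.mp h1
      refine ⟨s, by rw [Finset.coe_singleton, convexHull_singleton]; exact Set.mem_singleton s,
        fun y hy => ?_⟩
      rw [Finset.coe_singleton, convexHull_singleton, Set.mem_singleton_iff] at hy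
      rw [hy]
    have h2 : 2 ≤ S.card := by have := hne.card_pos; omega
    have hface : ∀ s ∈ S, ∃ y ∈ convexHull R ((S.erase s : Finset N) : Set N),
        ∀ y' ∈ convexHull R ((S.erase s : Finset N) : Set N), B y y ≤ B y' y' := by
      intro s hs
      have hc : (S.erase s).card = n - 1 := by rw [Finset.card_erase_of_mem hs, hcard]
      have hne' : (S.erase s).Nonempty := by
        rw [← Finset.card_pos, hc]; omega
      exact ih (n - 1) (by omega) (S.erase s) hc hne'
    choose! g hg1 hg2 using hface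
    obtain ⟨s', hs', hs'min⟩ := Finset.exists_min_image S (fun s => B (g s) (g s)) hne
    have hgS : ∀ s ∈ S, g s ∈ convexHull R (S : Set N) := fun s hs =>
      convexHull_mono (Finset.coe_subset.mpr (Finset.erase_subset s S)) (hg1 s hs)
    by_cases hcase : ∀ y ∈ convexHull R (S : Set N), B (g s') (g s') ≤ B y y
    · exact ⟨g s', hgS s' hs', hcase⟩
    push Not at hcase
    obtain ⟨y₁, hy₁, hy₁lt⟩ := hcase
    obtain ⟨s₀, hs₀⟩ := hne
    obtain ⟨w, hw, hw'⟩ := exists_proj B hBp (S.image (fun s => s - s₀)) s₀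
    obtain ⟨p, hp⟩ : ∃ p : N, p = s₀ - w := ⟨_, rfl⟩
    rw [← hp] at hw'
    obtain ⟨lam, hlam1, hlam2⟩ := exists_affine_weights S hs₀ hw
    rw [← hp] at hlam2
    have hdiff : ∀ y ∈ convexHull R (S : Set N),
        y - p ∈ Submodule.span R ((S.image (fun s => s - s₀) : Finset N) : Set N) := by
      intro y hy
      have hsub : convexHull R (S : Set N) ⊆
          {y | y - s₀ ∈ Submodule.span R ((S.image (fun s => s - s₀) : Finset N) : Set N)} := by
        apply convexHull_min
        · intro s hs
          exact Submodule.subset_span (by rw [Finset.coe_image]; exact ⟨s, hs, rfl⟩)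
        · intro a ha b hb α β _ _ hαβ
          show α • a + β • b - s₀ ∈
            Submodule.span R ((S.image (fun s => s - s₀) : Finset N) : Set N)
          have h5 : α • a + β • b - s₀ = α • (a - s₀) + β • (b - s₀) := by
            have h6 : β = 1 - α := by rw [← hαβ]; ring
            rw [h6]; module
          rw [h5]
          exact Submodule.add_mem _ (Submodule.smul_mem _ _ ha) (Submodule.smul_mem _ _ hb)
      have h1 := hsub hy
      have h2 : y - p = (y - s₀) + w := by rw [hp]; abel
      rw [h2]; exact Submodule.add_mem _ h1 hw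
    have horth : ∀ y ∈ convexHull R (S : Set N), B p (y - p) = 0 :=
      fun y hy => hw' _ (hdiff y hy)
    have hpyth : ∀ y ∈ convexHull R (S : Set N), B y y = B p p + B (y - p) (y - p) := by
      intro y hy
      have h0 := horth y hy
      obtain ⟨u, hu⟩ : ∃ u : N, u = y - p := ⟨_, rfl⟩
      rw [← hu] at h0 ⊢
      have hy' : y = p + u := by rw [hu]; abel
      rw [hy']
      simp only [map_add, LinearMap.add_apply]
      rw [hBs u p, h0]; ring
    have hpmem : p ∈ convexHull R (S : Set N) := by
      by_contra hpn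
      have hneg : ∃ s ∈ S, lam s < 0 := by
        by_contra hcon
        push Not at hcon
        exact hpn (Finset.mem_convexHull'.mpr ⟨lam, hcon, hlam1, hlam2⟩)
      obtain ⟨mu, hmu0, hmu1, hmu2⟩ := Finset.mem_convexHull'.mp hy₁
      obtain ⟨t, ht0, ht1, hnu0, s₁, hs₁, hnu1⟩ := exists_exit S mu lam hmu0 hneg
      obtain ⟨z, hz⟩ : ∃ z : N, z = (1 - t) • y₁ + t • p := ⟨_, rfl⟩
      have hzsum : ∑ s ∈ S, ((1 - t) * mu s + t * lam s) • s = z := by
        rw [hz, ← hmu2, ← hlam2, Finset.smul_sum, Finset.smul_sum, ← Finset.sum_add_distrib]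
        refine Finset.sum_congr rfl fun s _ => ?_
        rw [add_smul, mul_smul, mul_smul]
      have hzmem : z ∈ convexHull R ((S.erase s₁ : Finset N) : Set N) := by
        rw [Finset.mem_convexHull']
        refine ⟨fun s => (1 - t) * mu s + t * lam s,
          fun s hs => hnu0 s (Finset.mem_of_mem_erase hs), ?_, ?_⟩
        · have h := Finset.sum_erase (f := fun s => (1 - t) * mu s + t * lam s) S (a := s₁) hnu1
          rw [h, Finset.sum_add_distrib, ← Finset.mul_sum, ← Finset.mul_sum, hmu1, hlam1]; ring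
        · have h := Finset.sum_erase (f := fun s => ((1 - t) * mu s + t * lam s) • s) S (a := s₁)
            (by show ((1 - t) * mu s₁ + t * lam s₁) • s₁ = 0; rw [hnu1, zero_smul])
          rw [h, hzsum]
      have hzS : z ∈ convexHull R (S : Set N) :=
        convexHull_mono (Finset.coe_subset.mpr (Finset.erase_subset s₁ S)) hzmem
      have h3 := hpyth z hzS
      have h4 := hpyth y₁ hy₁
      have h5 : z - p = (1 - t) • (y₁ - p) := by rw [hz]; module
      rw [h5] at h3
      simp only [map_smul, LinearMap.smul_apply, smul_eq_mul] at h3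
      have h6 := hq0 (y₁ - p)
      have h7 : (1 - t) * ((1 - t) * B (y₁ - p) (y₁ - p)) ≤ B (y₁ - p) (y₁ - p) := by
        have h10 : (1 - t) * (1 - t) ≤ 1 := by nlinarith
        calc (1 - t) * ((1 - t) * B (y₁ - p) (y₁ - p))
            = ((1 - t) * (1 - t)) * B (y₁ - p) (y₁ - p) := by ring
          _ ≤ 1 * B (y₁ - p) (y₁ - p) := mul_le_mul_of_nonneg_right h10 h6
          _ = _ := one_mul _
      have h8 := hg2 s₁ hs₁ z hzmem
      have h9 : B (g s') (g s') ≤ B (g s₁) (g s₁) := hs'min s₁ hs₁
      linarith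
    exact ⟨p, hpmem, fun y hy => by rw [hpyth y hy]; linarith [hq0 (y - p)]⟩

end Closest

variable {ι : Type u} {R : Type v} {M : Type w} {N : Type x}
variable [Field R] [LinearOrder R] [IsStrictOrderedRing R]
  [AddCommGroup M] [Module R M] [AddCommGroup N] [Module R N]
variable {P : RootPairing ι R M N} [P.IsRootSystem]
variable [Finite ι] [P.IsCrystallographic] [P.IsReduced]

omit [P.IsCrystallographic] [P.IsReduced] in
/-- an invariant scalar product on the coweight space -/
theorem exists_invariant_form : ∃ B : LinearMap.BilinForm R N, (∀ y z : N, B y z = B z y) ∧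
    (∀ y : N, y ≠ 0 → 0 < B y y) ∧
    ∀ (i : ι) (y z : N), B (P.coreflection i y) (P.coreflection i z) = B y z := by
  classical
  have := Fintype.ofFinite ι
  refine ⟨P.flip.RootForm, fun y z => ?_, fun y hy => ?_, fun i y z => ?_⟩
  · simpa using P.flip.rootForm_symmetric.eq y z
  · exact P.flip.rootForm_pos_of_ne_zero (by simp) hy
  · exact P.flip.rootForm_reflection_reflection_apply i y z

omit [P.IsRootSystem] [Finite ι] [P.IsCrystallographic] [P.IsReduced] in
theorem sgnVec_dualVec (B : LinearMap.BilinForm R N) (hBs : ∀ y z : N, B y z = B z y)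
    (hBp : ∀ y : N, y ≠ 0 → 0 < B y y)
    (hBi : ∀ (i : ι) (y z : N), B (P.coreflection i y) (P.coreflection i z) = B y z)
    {y₀ : N} {x₀ : M} (hx₀ : ∀ y : N, P.toLinearMap x₀ y = B y₀ y) :
    sgnVec P x₀ = cosgnVec P y₀ := by
  funext i
  show SignType.sign (P.toLinearMap x₀ (P.coroot i)) =
    SignType.sign (P.toLinearMap (P.root i) y₀)
  have h1 := form_coroot B hBs hBi i y₀
  have h2 : 0 < B (P.coroot i) (P.coroot i) := hBp _ (P.ne_zero' i)
  rw [hx₀]
  have h3 : B y₀ (P.coroot i) =
      P.toLinearMap (P.root i) y₀ * (B (P.coroot i) (P.coroot i) / 2) := by linarith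
  rw [h3, sign_mul, sign_pos (half_pos h2), mul_one]

end Groth.Agent.Helper24.RC
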