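import Groth.Agent.Lib.Helper24.RootChL

/-!
# Helper library for the RootCh cluster, part M: existence and uniqueness of the special facet,
the characterisation of special facets by numerical invariants.
-/

set_option autoImplicit false

namespace Groth.Agent.Helper24.RC

open RootCh Module

universe u v w x

variable {ι : Type u} {R : Type v} {M : Type w} {N : Type x}
variable [Field R] [LinearOrder R] [IsStrictOrderedRing R]
  [AddCommGroup M] [Module R M] [AddCommGroup N] [Module R N]
variable {P : RootPairing ι R M N} [P.IsRootSystem]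
variable [Finite ι] [P.IsCrystallographic] [P.IsReduced]

theorem exists_closest_solid (B : LinearMap.BilinForm R N) (hBs : ∀ y z : N, B y z = B z y)
    (hBp : ∀ y : N, y ≠ 0 → 0 < B y y) (d : P.Base → N) :
    ∃ y₀ ∈ solid d, ∀ y ∈ solid d, B y₀ y₀ ≤ B y y := by
  classical
  obtain ⟨_, b, _, _, _⟩ := exists_mem_cham (Facet.origin P)
  have hfin := Set.finite_range d
  have hne : hfin.toFinset.Nonempty := ⟨d b, hfin.mem_toFinset.mpr ⟨b, rfl⟩⟩
  have h := exists_closest B hBs hBp _ hfin.toFinset rfl hne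
  rw [hfin.coe_toFinset] at h
  exact h

/-- there is a special facet -/
theorem exists_special {d : P.Base → N} (hd : IsCCS d) : ∃ F : Facet P, IsSpecial d F := by
  obtain ⟨B, hBs, hBp, hBi⟩ := exists_invariant_form (P := P)
  obtain ⟨y₀, hy₀, hmin⟩ := exists_closest_solid B hBs hBp d
  obtain ⟨x₀, hx₀⟩ := exists_dualVec (P := P) B y₀
  have hF₀ : y₀ ∈ (Facet.ofVec P x₀).dualCarrier := (sgnVec_dualVec B hBs hBp hBi hx₀).symm
  have hS₀ := special_of_closest B hd hBs hBp hBi hy₀ hmin _ hF₀
  exact ⟨Facet.ofVec P x₀, y₀, hF₀, hS₀⟩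

theorem existsUnique_special {d : P.Base → N} (hd : IsCCS d) :
    ∃! F : Facet P, IsSpecial d F := by
  obtain ⟨F₀, hsp₀⟩ := exists_special hd
  refine ⟨F₀, hsp₀, fun F hF => ?_⟩
  obtain ⟨_, b₀, _, _, hb₀⟩ := exists_mem_cham F₀
  obtain ⟨_, b, _, _, hb⟩ := exists_mem_cham F
  obtain ⟨h1, h2⟩ := special_deg hd F₀ b₀ hb₀ hsp₀
  obtain ⟨h3, h4⟩ := special_deg hd F b hb hF
  have heq : F.deg d b = F₀.deg d b₀ := le_antisymm (h1 F b hb) (h3 F₀ b₀ hb₀)
  exact le_antisymm (h2 F b hb heq) (h4 F₀ b₀ hb₀ heq.symm)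

theorem special_of_max {d : P.Base → N} (hd : IsCCS d) (F : Facet P) (b : P.Base)
    (hb : b ∈ F.cham)
    (hmax : ∀ (G : Facet P) (c : P.Base), c ∈ G.cham → G.deg d c ≤ F.deg d b)
    (hmaxl : ∀ (G : Facet P) (c : P.Base), c ∈ G.cham → G.deg d c = F.deg d b → F ≤ G → G = F) :
    IsSpecial d F := by
  obtain ⟨F₀, hsp₀⟩ := exists_special hd
  obtain ⟨_, b₀, _, _, hb₀⟩ := exists_mem_cham F₀
  obtain ⟨h1, h2⟩ := special_deg hd F₀ b₀ hb₀ hsp₀
  have heq : F.deg d b = F₀.deg d b₀ := le_antisymm (h1 F b hb) (hmax F₀ b₀ hb₀)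
  have hle : F ≤ F₀ := h2 F b hb heq
  have h5 := hmaxl F₀ b₀ hb₀ heq.symm hle
  rw [← h5]; exact hsp₀

theorem pair_eq_of_mem_span_corners' {d : P.Base → N} (hd : IsCCS d) (F : Facet P) (b : P.Base)
    (hb : b ∈ F.cham) {y : N} (hy : y ∈ dualSolid d F) {x : M}
    (hx : x ∈ Submodule.span R F.corners) :
    P.toLinearMap x y = P.toLinearMap x (d b) := by
  rw [dualSolid_eq hd] at hy
  have hle : Submodule.span R F.corners ≤ LinearMap.ker (P.toLinearMap.flip (y - d b)) := by
    rw [Submodule.span_le]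
    intro w hw
    rw [SetLike.mem_coe, LinearMap.mem_ker, LinearMap.flip_apply, map_sub, sub_eq_zero]
    exact Set.mem_iInter₂.mp hy.1 w hw b (corners_subset_baseCorners F b hb hw)
  have h := hle hx
  rw [LinearMap.mem_ker, LinearMap.flip_apply, map_sub, sub_eq_zero] at h
  exact h

theorem numInv_eq {d : P.Base → N} (hd : IsCCS d) (F : Facet P) (b : P.Base) (hb : b ∈ F.cham)
    {ξ : M} (hξF : ξ ∈ F.carrier) {y : N} (hy : y ∈ dualSolid d F)
    (hlevi : ∀ l : b.support, P.toLinearMap ξ (P.coroot l) = 0 → P.toLinearMap (P.root l) y = 0)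
    (k : b.support) (hk : 0 < P.toLinearMap ξ (P.coroot k)) :
    F.numInv d (fundWeight b k) b =
        ((Set.toFinite (F.Psi (fundWeight b k))).toFinset.card : R) *
          P.toLinearMap (P.root k) y ∧
      (k : ι) ∈ F.Psi (fundWeight b k) := by
  classical
  have hξ : ξ ∈ closedChamber b := hb hξF
  have hcor := corners_eq_image b F hξF hξ
  have hmem : fundWeight b k ∈ F.corners := by rw [hcor]; exact ⟨k, hk, rfl⟩
  have hpsi : ∀ i ∈ F.Psi (fundWeight b k),
      P.toLinearMap (P.root i) y = P.toLinearMap (P.root k) y := by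
    rintro i ⟨h1, h2⟩
    conv_lhs => rw [expand_M b (P.root i)]
    rw [map_sum, LinearMap.sum_apply, Finset.sum_eq_single k]
    · rw [map_smul, LinearMap.smul_apply, smul_eq_mul]
      have h3 : P.toLinearMap (P.root i) (fundCoweight b k) = 1 :=
        h1 (fundCoweight b k) ⟨b, k, rfl, rfl⟩
      rw [h3, one_mul]
    · intro l _ hlk
      rw [map_smul, LinearMap.smul_apply, smul_eq_mul]
      by_cases hl : 0 < P.toLinearMap ξ (P.coroot l)
      · have hl' : fundWeight b l ∈ F.corners := by rw [hcor]; exact ⟨l, hl, rfl⟩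
        have hne : fundWeight b l ≠ fundWeight b k := fun h => hlk (fundWeight_injective b h)
        have h3 : P.toLinearMap (P.root i) (fundCoweight b l) = 0 :=
          h2 _ hl' hne (fundCoweight b l) ⟨b, l, rfl, rfl⟩
        rw [h3, zero_mul]
      · have h0 : P.toLinearMap ξ (P.coroot l) = 0 := le_antisymm (not_lt.mp hl) (hξ l l.2)
        rw [hlevi l h0, mul_zero]
    · intro h; exact absurd (Finset.mem_univ k) h
  refine ⟨?_, ?_⟩
  · have hspan := sum_psi_mem_span_corners F _ hmem
    have h1 : F.numInv d (fundWeight b k) b = P.toLinearMap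
        (∑ i ∈ (Set.toFinite (F.Psi (fundWeight b k))).toFinset, P.root i) (d b) := by
      rw [Facet.numInv, map_sum, LinearMap.sum_apply]
    rw [h1, ← pair_eq_of_mem_span_corners' hd F b hb hy hspan, map_sum, LinearMap.sum_apply,
      Finset.sum_congr rfl (fun i hi => hpsi i ((Set.Finite.mem_toFinset _).mp hi)),
      Finset.sum_const, nsmul_eq_mul]
  · refine ⟨fun x hx => ?_, fun w' hw' hne x hx => ?_⟩
    · rw [(corr_fundWeight_iff b k x).mp hx]; exact root'_fundCoweight_self b k
    · rw [hcor] at hw'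
      obtain ⟨l, hl, rfl⟩ := hw'
      rw [(corr_fundWeight_iff b l x).mp hx]
      have hlk : k ≠ l := fun h => hne (by rw [h])
      exact root'_fundCoweight_of_ne b l k hlk

/-- (S1) and (S2) together are equivalent to the dual facet meeting the dual solid -/
theorem special_iff {d : P.Base → N} (hd : IsCCS d) (F : Facet P) :
    ((∀ m ∈ F.corners, ∀ b ∈ F.cham, 0 < F.numInv d m b) ∧
        (dualSolid d F ∩ (Submodule.span R F.dualCarrier : Set N)).Nonempty) ↔
      IsSpecial d F := by
  classical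
  constructor
  · rintro ⟨hS1, y, hyS, hyspan⟩
    obtain ⟨B, hBs, hBp, hBi⟩ := exists_invariant_form (P := P)
    obtain ⟨ξ, b, hξF, hξ, hb⟩ := exists_mem_cham F
    have hcor := corners_eq_image b F hξF hξ
    have hleviF : ∀ i, F.sgn i = 0 → P.toLinearMap (P.root i) y = 0 := by
      intro i hi
      have hle : Submodule.span R F.dualCarrier ≤ LinearMap.ker (P.toLinearMap (P.root i)) := by
        rw [Submodule.span_le]
        intro x hx
        rw [SetLike.mem_coe, LinearMap.mem_ker]
        have h0 : cosgnVec P x i = 0 := by rw [(hx : cosgnVec P x = F.sgn)]; exact hi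
        exact sign_eq_zero_iff.mp h0
      exact LinearMap.mem_ker.mp (hle hyspan)
    have hlevi : ∀ l : b.support, P.toLinearMap ξ (P.coroot l) = 0 →
        P.toLinearMap (P.root l) y = 0 := by
      intro l h0
      apply hleviF
      rw [← (hξF : sgnVec P ξ = F.sgn)]
      show SignType.sign (P.toLinearMap ξ (P.coroot l)) = 0
      rw [h0, sign_zero]
    have hpos : ∀ k : b.support, 0 < P.toLinearMap ξ (P.coroot k) →
        0 < P.toLinearMap (P.root k) y := by
      intro k hk
      obtain ⟨h1, -⟩ := numInv_eq hd F b hb hξF hyS hlevi k hk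
      have h2 := hS1 (fundWeight b k) (by rw [hcor]; exact ⟨k, hk, rfl⟩) b hb
      rw [h1] at h2
      by_contra hcon
      push Not at hcon
      have h3 := mul_nonpos_iff.mpr (Or.inl ⟨Nat.cast_nonneg
        ((Set.toFinite (F.Psi (fundWeight b k))).toFinset.card) (α := R), hcon⟩)
      exact absurd h2 (not_lt.mpr h3)
    obtain ⟨x₀, hx₀⟩ := exists_dualVec (P := P) B y
    have hx₀l : ∀ l : b.support, 2 * P.toLinearMap x₀ (P.coroot l) =
        P.toLinearMap (P.root l) y * B (P.coroot l) (P.coroot l) := by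
      intro l; rw [hx₀]; exact form_coroot B hBs hBi l y
    have hBc : ∀ l : b.support, 0 < B (P.coroot l) (P.coroot l) := fun l => hBp _ (P.ne_zero' l)
    have hiff : ∀ l : b.support,
        0 < P.toLinearMap x₀ (P.coroot l) ↔ 0 < P.toLinearMap ξ (P.coroot l) := by
      intro l
      have h1 := hx₀l l
      have h2 := hBc l
      constructor
      · intro h
        by_contra hcon
        have h0 : P.toLinearMap ξ (P.coroot l) = 0 := le_antisymm (not_lt.mp hcon) (hξ l l.2)
        rw [hlevi l h0, zero_mul] at h1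
        linarith
      · intro h
        have h3 := mul_pos (hpos l h) h2
        linarith
    have hx₀b : x₀ ∈ closedChamber b := by
      intro l hl
      show 0 ≤ P.toLinearMap x₀ (P.coroot l)
      have h1 := hx₀l ⟨l, hl⟩
      have h2 := hBc ⟨l, hl⟩
      by_cases h : 0 < P.toLinearMap ξ (P.coroot l)
      · exact ((hiff ⟨l, hl⟩).mpr h).le
      · have h0 : P.toLinearMap ξ (P.coroot l) = 0 := le_antisymm (not_lt.mp h) (hξ l hl)
        have h3 := hlevi ⟨l, hl⟩ h0
        rw [h3, zero_mul] at h1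
        have h4 : P.toLinearMap x₀ (P.coroot l) = 0 := by
          have h5 : (2 : R) * P.toLinearMap x₀ (P.coroot l) = 0 := h1
          linarith
        rw [h4]
    have hsgn : sgnVec P x₀ = sgnVec P ξ := sgnVec_eq_of_pos_iff b hx₀b hξ hiff
    have hyF : y ∈ F.dualCarrier := by
      show cosgnVec P y = F.sgn
      rw [← sgnVec_dualVec B hBs hBp hBi hx₀, hsgn]; exact hξF
    exact ⟨y, hyF, hyS⟩
  · rintro ⟨y, hyF, hyS⟩
    refine ⟨fun m hm b hb => ?_, y, hyS, Submodule.subset_span hyF⟩
    obtain ⟨ξ, hξF⟩ := F.exists_sgnVec_eq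
    have hξ : ξ ∈ closedChamber b := hb hξF
    rw [corners_eq_image b F hξF hξ] at hm
    obtain ⟨k, hk, rfl⟩ := hm
    have hsg : ∀ i : ι, SignType.sign (P.toLinearMap (P.root i) y) =
        SignType.sign (P.toLinearMap ξ (P.coroot i)) := by
      intro i
      have h1 : cosgnVec P y i = F.sgn i := congrFun hyF i
      have h2 : sgnVec P ξ i = F.sgn i := congrFun hξF i
      exact h1.trans h2.symm
    have hlevi : ∀ l : b.support, P.toLinearMap ξ (P.coroot l) = 0 →
        P.toLinearMap (P.root l) y = 0 := by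
      intro l h0
      have h3 := hsg l
      rw [h0, sign_zero] at h3
      exact sign_eq_zero_iff.mp h3
    obtain ⟨h1, h2⟩ := numInv_eq hd F b hb hξF hyS hlevi k hk
    rw [h1]
    apply mul_pos
    · exact Nat.cast_pos.mpr (Finset.card_pos.mpr ⟨k, (Set.Finite.mem_toFinset _).mpr h2⟩)
    · have h3 := hsg k
      rw [sign_pos hk] at h3
      exact sign_eq_one_iff.mp h3

end Groth.Agent.Helper24.RC
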