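import Mathlib

/-!
# Uniqueness of spreading out for targets locally of finite type (helper24)

Mathlib's `spread_out_unique_of_isGermInjective` needs germ-injectivity of the source.
When the target is locally of finite type over a base and both maps are over the base,
no condition on the source is needed.
-/

set_option autoImplicit false
universe u
open AlgebraicGeometry CategoryTheory TopologicalSpace Opposite

namespace Groth.Agent.Helper24.SpreadLFT

set_option backward.isDefEq.respectTransparency.types false in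
theorem spread_out_unique_of_lft {S X Y : Scheme.{u}} (sY : Y ⟶ S) [LocallyOfFiniteType sY]
    {x : X} (f g : X ⟶ Y) (hfg : f ≫ sY = g ≫ sY) (e : f x = g x)
    (H : f.stalkMap x =
      Y.presheaf.stalkSpecializes (Inseparable.of_eq e.symm).specializes ≫ g.stalkMap x) :
    ∃ (U : X.Opens), x ∈ U ∧ U.ι ≫ f = U.ι ≫ g := by
  classical
  obtain ⟨_, ⟨W : S.Opens, hW, rfl⟩, hxW, -⟩ :=
    S.isBasis_affineOpens.exists_subset_of_mem_open (Set.mem_univ (sY (f x))) isOpen_univ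
  obtain ⟨_, ⟨V : Y.Opens, hV, rfl⟩, hxV, hVW⟩ :=
    Y.isBasis_affineOpens.exists_subset_of_mem_open (show f x ∈ sY ⁻¹ᵁ W from hxW) (sY ⁻¹ᵁ W).2
  have hxV' : g x ∈ V := e ▸ hxV
  obtain ⟨_, ⟨U₀ : X.Opens, hU₀, rfl⟩, hxU₀, hU₀V⟩ :=
    X.isBasis_affineOpens.exists_subset_of_mem_open
      (show x ∈ f ⁻¹ᵁ V ⊓ g ⁻¹ᵁ V from ⟨hxV, hxV'⟩) (f ⁻¹ᵁ V ⊓ g ⁻¹ᵁ V).2
  have hU₀f : U₀ ≤ f ⁻¹ᵁ V := fun z hz => (hU₀V hz).1
  have hU₀g : U₀ ≤ g ⁻¹ᵁ V := fun z hz => (hU₀V hz).2
  have key : f.appLE V U₀ hU₀f ≫ X.presheaf.germ U₀ x hxU₀ =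
      g.appLE V U₀ hU₀g ≫ X.presheaf.germ U₀ x hxU₀ := by
    simp only [Scheme.Hom.appLE, Category.assoc, X.presheaf.germ_res', ← Scheme.Hom.germ_stalkMap,
      H]
    simp only [TopCat.Presheaf.germ_stalkSpecializes_assoc, Scheme.Hom.germ_stalkMap]
  have hft : (sY.appLE W V hVW).hom.FiniteType := sY.finiteType_appLE hW hV hVW
  have hres : ∀ t : Finset Γ(Y, V), ∃ (U' : X.Opens) (_ : x ∈ U') (h : U' ≤ U₀), ∀ b ∈ t,
      X.presheaf.map (homOfLE h).op (f.appLE V U₀ hU₀f b) =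
        X.presheaf.map (homOfLE h).op (g.appLE V U₀ hU₀g b) := by
    intro t
    induction t using Finset.induction_on with
    | empty => exact ⟨U₀, hxU₀, le_rfl, fun b hb => absurd hb (Finset.notMem_empty b)⟩
    | insert b t hbt ih =>
      obtain ⟨U', hxU', hU', hall⟩ := ih
      have hgerm : X.presheaf.germ U₀ x hxU₀ (f.appLE V U₀ hU₀f b) =
          X.presheaf.germ U₀ x hxU₀ (g.appLE V U₀ hU₀g b) := by
        have := congrArg (fun k => k b) key
        simpa only [CommRingCat.comp_apply] using this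
      obtain ⟨W', hxW', iU, iV, hW'⟩ := X.presheaf.germ_eq x hxU₀ hxU₀ _ _ hgerm
      refine ⟨U' ⊓ W', ⟨hxU', hxW'⟩, inf_le_left.trans hU', ?_⟩
      intro c hc
      rcases Finset.mem_insert.mp hc with rfl | hc
      · have e1 : homOfLE (inf_le_left.trans hU' : U' ⊓ W' ≤ U₀) =
            homOfLE (inf_le_right : U' ⊓ W' ≤ W') ≫ iU := Subsingleton.elim _ _
        have e2 : homOfLE (inf_le_left.trans hU' : U' ⊓ W' ≤ U₀) =
            homOfLE (inf_le_right : U' ⊓ W' ≤ W') ≫ iV := Subsingleton.elim _ _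
        conv_lhs => rw [e1, op_comp, Functor.map_comp, CommRingCat.comp_apply]
        conv_rhs => rw [e2, op_comp, Functor.map_comp, CommRingCat.comp_apply]
        rw [hW']
      · have e1 : homOfLE (inf_le_left.trans hU' : U' ⊓ W' ≤ U₀) =
            homOfLE (inf_le_left : U' ⊓ W' ≤ U') ≫ homOfLE hU' := Subsingleton.elim _ _
        rw [e1, op_comp, Functor.map_comp, CommRingCat.comp_apply, CommRingCat.comp_apply,
          hall c hc]
  letI algB : Algebra Γ(S, W) Γ(Y, V) := (sY.appLE W V hVW).hom.toAlgebra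
  obtain ⟨t, ht⟩ := (show Algebra.FiniteType Γ(S, W) Γ(Y, V) from hft).out
  obtain ⟨U', hxU', hU', hall⟩ := hres t
  refine ⟨U', hxU', ?_⟩
  have hU'f : U' ≤ f ⁻¹ᵁ V := hU'.trans hU₀f
  have hU'g : U' ≤ g ⁻¹ᵁ V := hU'.trans hU₀g
  have heq : f.appLE V U' hU'f = g.appLE V U' hU'g := by
    have hcomp : sY.appLE W V hVW ≫ f.appLE V U' hU'f =
        sY.appLE W V hVW ≫ g.appLE V U' hU'g := by
      rw [Scheme.Hom.appLE_comp_appLE, Scheme.Hom.appLE_comp_appLE]
      have aux : ∀ (k : X ⟶ S) (_ : k = g ≫ sY) (e1 : U' ≤ k ⁻¹ᵁ W)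
          (e2 : U' ≤ (g ≫ sY) ⁻¹ᵁ W), k.appLE W U' e1 = (g ≫ sY).appLE W U' e2 := by
        rintro k rfl e1 e2
        rfl
      exact aux _ hfg _ _
    letI algC : Algebra Γ(S, W) Γ(X, U') :=
      (sY.appLE W V hVW ≫ f.appLE V U' hU'f).hom.toAlgebra
    let φ' : Γ(Y, V) →ₐ[Γ(S, W)] Γ(X, U') :=
      { (f.appLE V U' hU'f).hom with commutes' := fun r => rfl }
    let ψ' : Γ(Y, V) →ₐ[Γ(S, W)] Γ(X, U') :=
      { (g.appLE V U' hU'g).hom with
        commutes' := fun r => by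
          have := congrArg (fun k => k.hom r) hcomp
          exact this.symm }
    have hφψ : φ' = ψ' := by
      apply AlgHom.ext_of_adjoin_eq_top ht
      intro b hb
      have h1 : f.appLE V U' hU'f = f.appLE V U₀ hU₀f ≫ X.presheaf.map (homOfLE hU').op :=
        (Scheme.Hom.appLE_map _ _ _).symm
      have h2 : g.appLE V U' hU'g = g.appLE V U₀ hU₀g ≫ X.presheaf.map (homOfLE hU').op :=
        (Scheme.Hom.appLE_map _ _ _).symm
      change (f.appLE V U' hU'f) b = (g.appLE V U' hU'g) b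
      rw [h1, h2, CommRingCat.comp_apply, CommRingCat.comp_apply]
      exact hall b hb
    ext b
    exact DFunLike.congr_fun hφψ b
  rw [← Scheme.Hom.resLE_comp_ι _ hU'f, ← Scheme.Hom.resLE_comp_ι _ hU'g]
  congr 1
  have : IsAffine V := hV
  suffices ∀ (U₁ V₁) (eU : U' = U₁) (eV : V = V₁),
      f.appLE V₁ U₁ (eU ▸ eV ▸ hU'f) = g.appLE V₁ U₁ (eU ▸ eV ▸ hU'g) by
    rw [← cancel_mono V.toScheme.isoSpec.hom]
    simp only [Scheme.isoSpec, asIso_hom, Scheme.toSpecΓ_naturality,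
      Scheme.Hom.app_eq_appLE, Scheme.Hom.resLE_appLE]
    congr 2
    apply this <;> simp
  rintro U₁ V₁ rfl rfl
  exact heq

set_option backward.isDefEq.respectTransparency.types false in
theorem spread_out_unique_of_lft' {S X Y : Scheme.{u}} (sY : Y ⟶ S) [LocallyOfFiniteType sY]
    {x : X} (f g : X ⟶ Y) (hfg : f ≫ sY = g ≫ sY)
    (e : X.fromSpecStalk x ≫ f = X.fromSpecStalk x ≫ g) :
    ∃ (U : X.Opens), x ∈ U ∧ U.ι ≫ f = U.ι ≫ g := by
  fapply spread_out_unique_of_lft sY f g hfg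
  · simpa using congr($e (IsLocalRing.closedPoint _))
  · apply Spec.map_injective
    rw [← cancel_mono (Y.fromSpecStalk _)]
    simpa [Scheme.SpecMap_stalkSpecializes_fromSpecStalk]

end Groth.Agent.Helper24.SpreadLFT
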